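import Mathlib
import Cfsg.Agent.H240.Sp44.Main_m3
import Cfsg.Agent.H934.MF.Blk_m3
import Cfsg.Agent.Lib.MatDec
import Cfsg.Agent.H162.GaussPSL
import Cfsg.Agent.H162.GaussExcMain
import Cfsg.Agent.TitsThree.RTFast
import Cfsg.Agent.H122.Pw.Pc
import Cfsg.Agent.H98.Ore.Main
import Cfsg.Agent.Lib.Zsigmondy
import Cfsg.Agent.H98.Ore.CritB_mg
import Cfsg.Agent.H864.Ore.GlComm
import Cfsg.Agent.H950.UHerm
import Cfsg.Agent.H643.PwCnt
import Cfsg.Agent.H928.Ore.TwFin
import Cfsg.Agent.H85.Ore.Phi_mg_m3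
import Cfsg.Agent.H928.War.TwOne_m3
import Cfsg.Agent.H126.PwO.Nu_m3
import Cfsg.Agent.S0822
import Cfsg.Agent.Lib.FieldFour
import Cfsg.Agent.FastGrp
import Cfsg.Agent.Prune
set_option linter.all false

section
prune_inst 0x7ffda9f8bbbc11dfdfff7e77a698cdfc38911fffa4dff9433fe021ff0bdf038009c1638d09e000fc0e82401410a87843f97eeeffe26bd87ffffd1df41ffbee4ff5f7b508519488340f380ff603f0778e7f3ffffffffcffffffffffffffffffbeffbfffffffff

-- part: H649/PwSp/Three
section
prune_inst 0x2000100036e202000018001062001c72aa00000200008c0024a00b0207810c0280420021ab0005134802004408300008100000000000000000200000011800800000000480080108400088000000000000000000300000000000000000000000000000000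
set_option linter.all false
open scoped Cfsg.Agent.FastGrp

-- part: H649/PwSp/Cmp
section
/-!
# Compressions

* `Fac f f' k l` : `l = x y` with `f(x) = 0 = f'(x⁻¹)`, `f'(y) = 0 = f(y⁻¹)`, `x ^ k = y ^ k = 1`.
* `Fac.prod`, `Fac.conj`.
* `prB_cmp` : if `(g - l) P ≤ Q` for a pair of complementary maximal isotropic subspaces, `Fac f f' k l` and
  `f`, `f'` are coprime, then `g` is a product of two isometries of order dividing `k`.
-/

set_option autoImplicit false
open Polynomial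

noncomputable section

namespace Cfsg.Agent.H649.PwSp

open Cfsg.Agent.H144

section Fac

variable {F : Type*} [Field F]

/-- the factorisations of `l` -/
def Fac (f f' : F[X]) (k : ℕ) {P : Type*} [AddCommGroup P] [Module F P] (l : P →ₗ[F] P) : Prop :=
  ∃ x y : P ≃ₗ[F] P, (∀ v, x (y v) = l v) ∧ (∀ v, aeval (x : Module.End F P) f v = 0) ∧
    (∀ v, aeval ((x⁻¹ : P ≃ₗ[F] P) : Module.End F P) f' v = 0) ∧
    (∀ v, aeval (y : Module.End F P) f' v = 0) ∧
    (∀ v, aeval ((y⁻¹ : P ≃ₗ[F] P) : Module.End F P) f v = 0) ∧ x ^ k = 1 ∧ y ^ k = 1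

variable {P : Type*} [AddCommGroup P] [Module F P] {P' : Type*} [AddCommGroup P'] [Module F P']

theorem aeval_prod (x : P ≃ₗ[F] P) (x' : P' ≃ₗ[F] P') (f : F[X]) (v : P × P') :
    aeval ((x.prodCongr x' : (P × P') ≃ₗ[F] (P × P')) : Module.End F (P × P')) f v =
      (aeval (x : Module.End F P) f v.1, aeval (x' : Module.End F P') f v.2) := by
  induction f using Polynomial.induction_on' with
  | add p q hp hq => simp only [map_add, LinearMap.add_apply, hp, hq, Prod.mk_add_mk]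
  | monomial k a =>
    have hk : ∀ k : ℕ, (((x.prodCongr x' : (P × P') ≃ₗ[F] (P × P')) : Module.End F (P × P')) ^ k) v =
        (((x : Module.End F P) ^ k) v.1, ((x' : Module.End F P') ^ k) v.2) := by
      intro k
      induction k with
      | zero => simp only [_root_.LinearEquiv.coe_prodCongr, _root_.pow_zero, _root_.Module.End.one_apply, _root_.Prod.mk.eta]
      | succ k ih =>
        rw [pow_succ', Module.End.mul_apply, ih, pow_succ', Module.End.mul_apply, pow_succ', Module.End.mul_apply]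
        rfl
    simp only [aeval_monomial, Module.algebraMap_end_eq_smul_id, Module.End.mul_apply, LinearMap.smul_apply,
      LinearMap.id_apply, hk, Prod.smul_mk]

theorem prod_pow (x : P ≃ₗ[F] P) (x' : P' ≃ₗ[F] P') (k : ℕ) (h : x ^ k = 1) (h' : x' ^ k = 1) :
    (x.prodCongr x' : (P × P') ≃ₗ[F] (P × P')) ^ k = 1 := by
  have key : ∀ (j : ℕ) (v : P × P'), ((x.prodCongr x' : (P × P') ≃ₗ[F] (P × P')) ^ j) v =
      ((x ^ j) v.1, (x' ^ j) v.2) := by
    intro j
    induction j with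
    | zero => intro v; rfl
    | succ j ih =>
      intro v
      rw [pow_succ', LinearEquiv.mul_apply, ih, pow_succ', LinearEquiv.mul_apply, pow_succ', LinearEquiv.mul_apply]
      rfl
  apply LinearEquiv.ext
  intro v
  rw [key, h, h']
  rfl

theorem Fac.prod {f f' : F[X]} {k : ℕ} {l : P →ₗ[F] P} {l' : P' →ₗ[F] P'} (h : Fac f f' k l)
    (h' : Fac f f' k l') : Fac f f' k (l.prodMap l') := by
  obtain ⟨x, y, e, h1, h2, h3, h4, h5, h6⟩ := h
  obtain ⟨x', y', e', h1', h2', h3', h4', h5', h6'⟩ := h'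
  have hx : (x.prodCongr x' : (P × P') ≃ₗ[F] (P × P'))⁻¹ = (x⁻¹).prodCongr x'⁻¹ := rfl
  have hy : (y.prodCongr y' : (P × P') ≃ₗ[F] (P × P'))⁻¹ = (y⁻¹).prodCongr y'⁻¹ := rfl
  refine ⟨x.prodCongr x', y.prodCongr y', fun v => ?_, fun v => ?_, fun v => ?_, fun v => ?_, fun v => ?_,
    prod_pow x x' k h5 h5', prod_pow y y' k h6 h6'⟩
  · change (x (y v.1), x' (y' v.2)) = (l v.1, l' v.2)
    rw [e, e']
  · rw [aeval_prod, h1, h1']; rfl
  · rw [hx, aeval_prod, h2, h2']; rfl
  · rw [aeval_prod, h3, h3']; rfl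
  · rw [hy, aeval_prod, h4, h4']; rfl

theorem Fac.conj {f f' : F[X]} {k : ℕ} {l : P →ₗ[F] P} {l' : P' →ₗ[F] P'} (h : Fac f f' k l)
    (e : P' ≃ₗ[F] P) (he : ∀ v, e (l' v) = l (e v)) : Fac f f' k l' := by
  obtain ⟨x, y, e1, h1, h2, h3, h4, h5, h6⟩ := h
  have hc : ∀ (x : P ≃ₗ[F] P), ∀ v, (e.trans (x.trans e.symm) : P' ≃ₗ[F] P') v = e.symm (x (e v)) :=
    fun x v => rfl
  have hi : ∀ (x : P ≃ₗ[F] P), (e.trans (x.trans e.symm) : P' ≃ₗ[F] P')⁻¹ = e.trans ((x⁻¹).trans e.symm) := by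
    intro x
    rfl
  have hpow : ∀ (x : P ≃ₗ[F] P) (j : ℕ) (v : P'), ((e.trans (x.trans e.symm) : P' ≃ₗ[F] P') ^ j) v =
      e.symm ((x ^ j) (e v)) := by
    intro x j
    induction j with
    | zero => intro v; exact (e.symm_apply_apply v).symm
    | succ j ih =>
      intro v
      rw [pow_succ', LinearEquiv.mul_apply, ih, hc, e.apply_symm_apply, pow_succ', LinearEquiv.mul_apply]
  refine ⟨e.trans (x.trans e.symm), e.trans (y.trans e.symm), fun v => ?_, fun v => ?_, fun v => ?_,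
    fun v => ?_, fun v => ?_, ?_, ?_⟩
  · rw [hc, hc, e.apply_symm_apply, e1, ← he, e.symm_apply_apply]
  · rw [_root_.Cfsg.Agent.H144.aeval_conj e x _ (hc x), h1, map_zero]
  · rw [hi, _root_.Cfsg.Agent.H144.aeval_conj e x⁻¹ _ (hc x⁻¹), h2, map_zero]
  · rw [_root_.Cfsg.Agent.H144.aeval_conj e y _ (hc y), h3, map_zero]
  · rw [hi, _root_.Cfsg.Agent.H144.aeval_conj e y⁻¹ _ (hc y⁻¹), h4, map_zero]
  · apply LinearEquiv.ext
    intro v
    rw [hpow, h5]
    exact e.symm_apply_apply v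
  · apply LinearEquiv.ext
    intro v
    rw [hpow, h6]
    exact e.symm_apply_apply v

end Fac

variable {F V : Type*} [Field F] [AddCommGroup V] [Module F V] [FiniteDimensional F V]

theorem inj_of_cop {P : Type*} [AddCommGroup P] [Module F P] {f f' : F[X]} (h : IsCoprime f f')
    {z : Module.End F P} (h0 : ∀ v, aeval z f' v = 0) (v : P) (hv : aeval z f v = 0) : v = 0 := by
  obtain ⟨a, b, hab⟩ := h
  have h1 := congrArg (fun p : F[X] => aeval z p v) hab
  simp only [map_add, map_mul, LinearMap.add_apply, Module.End.mul_apply, hv, h0, map_zero, map_one,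
    Module.End.one_apply, add_zero] at h1
  exact h1.symm

variable [Finite F]

/-- **Compressions.** -/
theorem prB_cmp {B : LinearMap.BilinForm F V} (hB : Alt B) (hN : Nond B) {N : ℕ} {g : V ≃ₗ[F] V}
    (hg : Iso B g) {P Q : Submodule F V} (hP : Orth B P P) (hQ : Orth B Q Q) (hPQ : P ⊔ Q = ⊤)
    {l : P →ₗ[F] P} (hl : ∀ v : P, g v - l v ∈ Q) {f f' : F[X]} (hcop : IsCoprime f f') {k : ℕ}
    (hk : k.Coprime N) (h : Fac f f' k l) : PrB B N g := by
  obtain ⟨x, y, e, h1, h2, h3, h4, h5, h6⟩ := h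
  have hNd : Nd B (P ⊔ Q) := fun v _ h => hN v (fun w => h w (by rw [hPQ]; trivial))
  obtain ⟨X, hX, hXx, hXQ, hXp⟩ := levi_ext hB hP hQ hNd x
  obtain ⟨Y, hY, hYy, hYQ, hYp⟩ := levi_ext hB hP hQ hNd y
  have hXi := levi_inv_apply hXx
  have hYi := levi_inv_apply hYy
  have hXP : ∀ v ∈ P, X v ∈ P := fun v hv => by rw [hXx ⟨v, hv⟩]; exact (x ⟨v, hv⟩).2
  have hYP : ∀ v ∈ P, Y v ∈ P := fun v hv => by rw [hYy ⟨v, hv⟩]; exact (y ⟨v, hv⟩).2
  have hXPi := inv_mem_of_mem hXP
  have hYPi := inv_mem_of_mem hYP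
  have hXQi := inv_mem_of_mem hXQ
  have hYQi := inv_mem_of_mem hYQ
  -- powers
  have hpow : ∀ (x : P ≃ₗ[F] P) (X : V ≃ₗ[F] V), Iso B X → (∀ v : P, X v = x v) → (∀ v ∈ Q, X v ∈ Q) →
      (∀ v ∈ perp B (P ⊔ Q), X v = v) → x ^ k = 1 → X ^ k = 1 := by
    intro x X hX hXx hXQ hXp hxk
    have a1 : ∀ j : ℕ, ∀ v : P, (X ^ j) v = ((x ^ j) v : P) := by
      intro j
      induction j with
      | zero => intro v; rfl
      | succ j ih =>
        intro v
        rw [pow_succ', LinearEquiv.mul_apply, ih, hXx, pow_succ', LinearEquiv.mul_apply]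
    have a2 : ∀ j : ℕ, ∀ v ∈ Q, (X ^ j) v ∈ Q := by
      intro j
      induction j with
      | zero => intro v hv; exact hv
      | succ j ih =>
        intro v hv
        rw [pow_succ', LinearEquiv.mul_apply]
        exact hXQ _ (ih v hv)
    have a3 : ∀ j : ℕ, ∀ v ∈ perp B (P ⊔ Q), (X ^ j) v = v := by
      intro j
      induction j with
      | zero => intro v hv; rfl
      | succ j ih =>
        intro v hv
        rw [pow_succ', LinearEquiv.mul_apply, ih v hv, hXp v hv]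
    exact levi_ext_unique hB hQ hNd (iso_pow hX k) (a2 k) (fun v hv => by rw [a1 k ⟨v, hv⟩, hxk]; rfl) (a3 k)
  have hXk := hpow x X hX hXx hXQ hXp h5
  have hYk := hpow y Y hY hYy hYQ hYp h6
  -- adjoints
  have hzero : ∀ v ∈ Q, (∀ w ∈ P, B w v = 0) → v = 0 := by
    intro v hv h0
    apply eq_zero_of_orth hN hPQ _ (hQ v hv)
    intro w hw
    exact hB.zero (h0 w hw)
  -- `p(Z) = 0` on `Q` if `p(Z⁻¹) = 0` on `P`
  have adj0 : ∀ (Z : V ≃ₗ[F] V) (z : P ≃ₗ[F] P) (p : F[X]), Iso B Z → (∀ v ∈ Q, Z v ∈ Q) →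
      (∀ v : P, Z v = z v) → (∀ v, aeval (z : Module.End F P) p v = 0) →
      ∀ v ∈ Q, aeval ((Z⁻¹ : V ≃ₗ[F] V) : Module.End F V) p v = 0 := by
    intro Z z p hZ hZQ hZz h0 v hv
    apply hzero _ (aeval_mem (X := ((Z⁻¹ : V ≃ₗ[F] V) : Module.End F V)) (inv_mem_of_mem hZQ) p v hv)
    intro w hw
    have a1 := aeval_adj hZ.inv p w v
    have a2 := aeval_restrict (X := (Z : Module.End F V)) (x := (z : Module.End F P)) hZz p ⟨w, hw⟩
    rw [inv_inv, a2, h0] at a1
    rw [a1]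
    simp
  have adji : ∀ (Z : V ≃ₗ[F] V) (z : P ≃ₗ[F] P) (p : F[X]), Iso B Z →
      (∀ v : P, Z⁻¹ v = (z⁻¹ v : P)) → (∀ v, aeval ((z⁻¹ : P ≃ₗ[F] P) : Module.End F P) p v = 0 → v = 0) →
      ∀ v ∈ Q, aeval (Z : Module.End F V) p v = 0 → v = 0 := by
    intro Z z p hZ hZi hinj0 v hv h0
    apply hzero v hv
    intro w hw
    have hinj : Function.Injective (aeval ((z⁻¹ : P ≃ₗ[F] P) : Module.End F P) p) := by
      rw [← LinearMap.ker_eq_bot, LinearMap.ker_eq_bot']
      exact hinj0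
    obtain ⟨w', hw'⟩ := (LinearMap.injective_iff_surjective.1 hinj) ⟨w, hw⟩
    have a1 := aeval_adj hZ p (w' : V) v
    have a2 := aeval_restrict (X := ((Z⁻¹ : V ≃ₗ[F] V) : Module.End F V))
      (x := ((z⁻¹ : P ≃ₗ[F] P) : Module.End F P)) hZi p w'
    rw [h0, map_zero, a2, hw'] at a1
    exact a1.symm
  have hPH : Orth B P (⊥ : Submodule F V) := fun a _ b hb => by
    rw [(Submodule.mem_bot F).1 hb, map_zero]
  have hHQ : Orth B (⊥ : Submodule F V) Q := fun a ha b _ => by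
    rw [(Submodule.mem_bot F).1 ha, map_zero, LinearMap.zero_apply]
  -- `u X` is conjugate to `X`
  have := finite_lequiv F V
  have c1 : ∀ u ∈ Rad B Q, ∃ r ∈ Rad B Q, u * X = r * X * r⁻¹ := by
    refine conj_of_fpf (Rad B Q) X (fun r hr => Rad.conj hX hXQ hr) (fun r hr hc => ?_)
    refine fpf_Rad hB hN (P := Q) (H := ⊥) (Q := P) hP hQ (hHQ.symm hB) (hPH.symm hB)
      (by rw [bot_sup_eq, sup_comm]; exact hPQ) f (fun v hv => ?_) (fun v hv h0 => ?_) hr hc
    · rw [bot_sup_eq] at hv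
      rw [aeval_restrict (X := (X : Module.End F V)) (x := (x : Module.End F P)) hXx f ⟨v, hv⟩, h1]
      rfl
    · exact adji X x f hX hXi (inj_of_cop hcop h2) v hv h0
  have c2 : ∀ u ∈ Rad B P, ∃ r ∈ Rad B P, u * Y⁻¹ = r * Y⁻¹ * r⁻¹ := by
    refine conj_of_fpf (Rad B P) Y⁻¹ (fun r hr => Rad.conj hY.inv hYPi hr) (fun r hr hc => ?_)
    refine fpf_Rad hB hN (P := P) (H := ⊥) (Q := Q) hQ hP hPH hHQ
      (by rw [bot_sup_eq]; exact hPQ) f' (fun v hv => ?_) (fun v hv h0 => ?_) hr hc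
    · rw [bot_sup_eq] at hv
      exact adj0 Y y f' hY hYQ hYy h3 v hv
    · have a1 := aeval_restrict (X := ((Y⁻¹ : V ≃ₗ[F] V) : Module.End F V))
        (x := ((y⁻¹ : P ≃ₗ[F] P) : Module.End F P)) hYi f' ⟨v, hv⟩
      rw [a1] at h0
      exact congrArg Subtype.val (inj_of_cop hcop.symm h4 ⟨v, hv⟩ (Subtype.ext h0))
  -- the factorisation
  set L : V ≃ₗ[F] V := X * Y with hL
  have hLi : Iso B L := hX.mul hY
  have hLP : ∀ v ∈ P, L⁻¹ v ∈ P := by
    intro v hv
    rw [hL, mul_inv_rev, LinearEquiv.mul_apply]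
    exact hYPi _ (hXPi _ hv)
  obtain ⟨n, m, hn, hm, hnm⟩ := c1_factor hB hN hP hQ hPQ (hg.mul hLi.inv) (by
    intro v hv
    have a1 := hl ⟨L⁻¹ v, hLP v hv⟩
    have a2 : (l ⟨L⁻¹ v, hLP v hv⟩ : V) = v := by
      rw [← e, ← hXx, ← hYy]
      change L (L⁻¹ v) = v
      exact app_inv L v
    rw [a2] at a1
    exact a1)
  have hmem : L⁻¹ * uni m (skew_sq hm) * L ∈ Rad B P := by
    have := Rad.conj hLi.inv hLP (uni_mem_Rad hP hm)
    rwa [inv_inv] at this
  obtain ⟨r, hr, er⟩ := c1 _ (uni_mem_Rad hQ hn)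
  obtain ⟨s, hs, es⟩ := c2 _ (Subgroup.inv_mem _ hmem)
  have es' : Y * (L⁻¹ * uni m (skew_sq hm) * L) = s * Y * s⁻¹ := by
    calc Y * (L⁻¹ * uni m (skew_sq hm) * L) = ((L⁻¹ * uni m (skew_sq hm) * L)⁻¹ * Y⁻¹)⁻¹ := by
          rw [mul_inv_rev ((L⁻¹ * uni m (skew_sq hm) * L)⁻¹), inv_inv, inv_inv]
      _ = (s * Y⁻¹ * s⁻¹)⁻¹ := by rw [es]
      _ = s * Y * s⁻¹ := by group
  refine ⟨r * X * r⁻¹, s * Y * s⁻¹, k, ((mem_Rad.1 hr).1.mul hX).mul (mem_Rad.1 hr).1.inv,
    ((mem_Rad.1 hs).1.mul hY).mul (mem_Rad.1 hs).1.inv, ?_, hk, pow_conj X r k hXk, pow_conj Y s k hYk⟩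
  rw [← er, ← es']
  have e3 : g = uni n (skew_sq hn) * uni m (skew_sq hm) * L := by rw [← hnm]; group
  rw [e3, hL]
  group

end Cfsg.Agent.H649.PwSp
end
end

-- part: H649/PwSp/Dat
section
/-!
# Compressions which are involutions

* `DatOn B g R a c` : `R = A ⊕ C ⊕ Q`, `A ⊕ C`, `Q` isotropic, `(g - 1) A ≤ Q`, `(g + 1) C ≤ Q`, `dim A = a`, `dim C = c`.
* `DatOn.sup`, `DatOn.neg`, `dat_c1`, `dat_refl` (a reflection).
* `exists_dec2` : `V = R ⊥ S`, `g` is `C1` on `R`, `-g` is `C1` on `S`.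
-/

set_option autoImplicit false
open Polynomial

noncomputable section

namespace Cfsg.Agent.H649.PwSp

open Cfsg.Agent.H144

variable {F V : Type*} [Field F] [AddCommGroup V] [Module F V]

/-- the data -/
def DatOn (B : LinearMap.BilinForm F V) (g : V ≃ₗ[F] V) (R : Submodule F V) (a c : ℕ) : Prop :=
  ∃ A C Q : Submodule F V, Orth B (A ⊔ C) (A ⊔ C) ∧ Orth B Q Q ∧ (A ⊔ C) ⊔ Q = R ∧ Disjoint A C ∧
    (∀ v ∈ A, g v - v ∈ Q) ∧ (∀ v ∈ C, g v + v ∈ Q) ∧ Module.finrank F A = a ∧ Module.finrank F C = c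

theorem DatOn.neg {B : LinearMap.BilinForm F V} {g : V ≃ₗ[F] V} {R : Submodule F V} {a c : ℕ}
    (h : DatOn B g R a c) : DatOn B (ng g) R c a := by
  obtain ⟨A, C, Q, h1, h2, h3, h4, h5, h6, h7, h8⟩ := h
  refine ⟨C, A, Q, by rwa [sup_comm], h2, by rwa [sup_comm C A], h4.symm, fun v hv => ?_, fun v hv => ?_, h8, h7⟩
  · have := Q.neg_mem (h6 v hv)
    rw [ng_apply]
    convert this using 1
    abel
  · have := Q.neg_mem (h5 v hv)
    rw [ng_apply]
    convert this using 1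
    abel

theorem DatOn.sup [FiniteDimensional F V] {B : LinearMap.BilinForm F V} (hB : Alt B) {g : V ≃ₗ[F] V}
    {R S : Submodule F V} (hRS : Orth B R S) (hd : Disjoint R S) {a c a' c' : ℕ}
    (h : DatOn B g R a c) (h' : DatOn B g S a' c') : DatOn B g (R ⊔ S) (a + a') (c + c') := by
  obtain ⟨A, C, Q, h1, h2, h3, h4, h5, h6, h7, h8⟩ := h
  obtain ⟨A', C', Q', h1', h2', h3', h4', h5', h6', h7', h8'⟩ := h'
  have hP : A ⊔ C ≤ R := by rw [← h3]; exact le_sup_left
  have hQ : Q ≤ R := by rw [← h3]; exact le_sup_right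
  have hP' : A' ⊔ C' ≤ S := by rw [← h3']; exact le_sup_left
  have hQ' : Q' ≤ S := by rw [← h3']; exact le_sup_right
  have hA : A ≤ R := le_sup_left.trans hP
  have hC : C ≤ R := le_sup_right.trans hP
  have hA' : A' ≤ S := le_sup_left.trans hP'
  have hC' : C' ≤ S := le_sup_right.trans hP'
  have hfin : ∀ {X X' : Submodule F V}, X ≤ R → X' ≤ S →
      Module.finrank F (X ⊔ X' : Submodule F V) = Module.finrank F X + Module.finrank F X' := by
    intro X X' hX hX'
    have e1 := Submodule.finrank_sup_add_finrank_inf_eq X X'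
    have e2 : X ⊓ X' = ⊥ := (hd.mono hX hX').eq_bot
    rw [e2, finrank_bot] at e1
    omega
  refine ⟨A ⊔ A', C ⊔ C', Q ⊔ Q', ?_, ?_, ?_, ?_, ?_, ?_, ?_, ?_⟩
  · rw [sup_sup_sup_comm]
    exact isotropic_sup hB h1 h1' (fun x hx y hy => hRS x (hP hx) y (hP' hy))
  · exact isotropic_sup hB h2 h2' (fun x hx y hy => hRS x (hQ hx) y (hQ' hy))
  · rw [sup_sup_sup_comm A, sup_sup_sup_comm (A ⊔ C), h3, h3']
  · rw [Submodule.disjoint_def]
    intro v hv hv'
    obtain ⟨x, hx, x', hx', rfl⟩ := Submodule.mem_sup.1 hv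
    obtain ⟨y, hy, y', hy', e⟩ := Submodule.mem_sup.1 hv'
    have e1 : x - y = y' - x' := by
      rw [sub_eq_sub_iff_add_eq_add, ← e]; abel
    have e2 : x - y = 0 := Submodule.disjoint_def.1 hd _ (R.sub_mem (hA hx) (hC hy))
      (by rw [e1]; exact S.sub_mem (hC' hy') (hA' hx'))
    have e3 : x = 0 := Submodule.disjoint_def.1 h4 x hx (by rw [sub_eq_zero.1 e2]; exact hy)
    have e4 : x' = 0 := by
      rw [e2] at e1
      exact Submodule.disjoint_def.1 h4' x' hx' (by rw [← sub_eq_zero.1 e1.symm]; exact hy')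
    rw [e3, e4, add_zero]
  · intro v hv
    obtain ⟨x, hx, x', hx', rfl⟩ := Submodule.mem_sup.1 hv
    have : g (x + x') - (x + x') = (g x - x) + (g x' - x') := by rw [map_add]; abel
    rw [this]
    exact Submodule.add_mem_sup (h5 x hx) (h5' x' hx')
  · intro v hv
    obtain ⟨x, hx, x', hx', rfl⟩ := Submodule.mem_sup.1 hv
    have : g (x + x') + (x + x') = (g x + x) + (g x' + x') := by rw [map_add]; abel
    rw [this]
    exact Submodule.add_mem_sup (h6 x hx) (h6' x' hx')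
  · rw [hfin hA hA', h7, h7']
  · rw [hfin hC hC', h8, h8']

section FD

variable [FiniteDimensional F V]

/-- transfer from a subspace -/
theorem DatOn.of_restrict {B : LinearMap.BilinForm F V} {g : V ≃ₗ[F] V} {R : Submodule F V} (hI : _root_.Cfsg.Agent.H144.Inv g R)
    {a c : ℕ} (h : DatOn (B.restrict R) (gr g R hI) ⊤ a c) : DatOn B g R a c := by
  obtain ⟨A, C, Q, h1, h2, h3, h4, h5, h6, h7, h8⟩ := h
  have hfin : ∀ X : Submodule F R, Module.finrank F (X.map R.subtype) = Module.finrank F X := fun X =>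
    (Submodule.equivMapOfInjective R.subtype R.injective_subtype X).finrank_eq.symm
  refine ⟨A.map R.subtype, C.map R.subtype, Q.map R.subtype, ?_, ?_, ?_, ?_, ?_, ?_, ?_, ?_⟩
  · rw [← Submodule.map_sup]
    rintro _ ⟨x, hx, rfl⟩ _ ⟨y, hy, rfl⟩
    exact h1 x hx y hy
  · rintro _ ⟨x, hx, rfl⟩ _ ⟨y, hy, rfl⟩
    exact h2 x hx y hy
  · rw [← Submodule.map_sup, ← Submodule.map_sup, h3, Submodule.map_subtype_top]
  · rw [Submodule.disjoint_def]
    rintro _ ⟨x, hx, rfl⟩ ⟨y, hy, e⟩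
    have : y = x := R.injective_subtype e
    subst this
    rw [Submodule.disjoint_def.1 h4 y hx hy, map_zero]
  · rintro _ ⟨x, hx, rfl⟩
    exact ⟨_, h5 x hx, rfl⟩
  · rintro _ ⟨x, hx, rfl⟩
    exact ⟨_, h6 x hx, rfl⟩
  · rw [hfin, h7]
  · rw [hfin, h8]

theorem dat_c1_top {B : LinearMap.BilinForm F V} (hB : Alt B) (hN : Nond B) {g : V ≃ₗ[F] V} {r : ℕ}
    (hr : Module.finrank F V = 2 * r) (h : C1 B g) : DatOn B g ⊤ r 0 := by
  obtain ⟨P, Q, hP, hQ, hPQ, hg⟩ := h
  have h1 := finrank_two hB hN hP hQ hPQ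
  refine ⟨P, ⊥, Q, by rwa [sup_bot_eq], hQ, by rwa [sup_bot_eq], disjoint_bot_right, hg, fun v hv => ?_, by omega,
    finrank_bot F V⟩
  rw [(Submodule.mem_bot F).1 hv, map_zero, add_zero]
  exact Q.zero_mem

theorem dat_c1 {B : LinearMap.BilinForm F V} (hB : Alt B) {g : V ≃ₗ[F] V} {R : Submodule F V} (hR : Nd B R)
    (hI : _root_.Cfsg.Agent.H144.Inv g R) {r : ℕ} (hr : Module.finrank F R = 2 * r) (h : C1On B g R) : DatOn B g R r 0 :=
  DatOn.of_restrict hI (dat_c1_top (restrict_alt hB R) (restrict_nond hR) hr (c1_of_c1On hI h))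

/-- **The reflection.** -/
theorem dat_refl_top {B : LinearMap.BilinForm F V} (hB : Alt B) (hN : Nond B) (h2 : (2 : F) ≠ 0)
    {g : V ≃ₗ[F] V} (hg : Iso B g) {r : ℕ} {P Q : Submodule F V} (hP : Orth B P P) (hQ : Orth B Q Q)
    (hPQ : P ⊔ Q = ⊤) (hr : Module.finrank F P = r) (h : ∀ v ∈ P, g v - v ∈ Q) {z : V} (hz : z ∈ P)
    (hz0 : B z (g z) ≠ 0) : DatOn B g ⊤ (r - 1) 1 := by
  have hzne : z ≠ 0 := by
    rintro rfl
    rw [map_zero, LinearMap.zero_apply] at hz0
    exact hz0 rfl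
  have hw : B z (g z - z) = B z (g z) := by rw [map_sub, hB z, sub_zero]
  -- symmetry
  have hsym : ∀ v ∈ P, B z (g v) = B v (g z) := by
    intro v hv
    have h1 := hQ _ (h z hz) _ (h v hv)
    simp only [map_sub, LinearMap.sub_apply] at h1
    rw [hg z v, hP z hz v hv] at h1
    have h3 : B (g z) v = - B v (g z) := hB.neg _ _
    rw [h3] at h1
    linear_combination -h1
  let A : Submodule F V := P ⊓ LinearMap.ker (B.flip (g z))
  have hA : ∀ {v}, v ∈ A ↔ v ∈ P ∧ B v (g z) = 0 := fun {v} => Iff.rfl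
  let D : Submodule F V := Q ⊓ LinearMap.ker (B z)
  have hD : ∀ {v}, v ∈ D ↔ v ∈ Q ∧ B z v = 0 := fun {v} => Iff.rfl
  have hAP : A ≤ P := inf_le_left
  have hCP : Submodule.span F {z} ≤ P := (Submodule.span_singleton_le_iff_mem _ _).2 hz
  have hPA : A ⊔ Submodule.span F {z} = P := by
    apply le_antisymm (sup_le hAP hCP)
    intro v hv
    rw [Submodule.mem_sup]
    refine ⟨v - (B v (g z) / B z (g z)) • z, hA.2 ⟨P.sub_mem hv (P.smul_mem _ hz), ?_⟩,
      (B v (g z) / B z (g z)) • z, Submodule.smul_mem _ _ (Submodule.mem_span_singleton_self z), by abel⟩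
    rw [map_sub, map_smul, LinearMap.sub_apply, LinearMap.smul_apply, smul_eq_mul, div_mul_cancel₀ _ hz0, sub_self]
  have hdis : Disjoint A (Submodule.span F {z}) := by
    rw [Submodule.disjoint_def]
    intro v hv hv'
    obtain ⟨c, rfl⟩ := Submodule.mem_span_singleton.1 hv'
    have h1 := (hA.1 hv).2
    rw [map_smul, LinearMap.smul_apply, smul_eq_mul] at h1
    rw [(mul_eq_zero.1 h1).resolve_right hz0, zero_smul]
  have hfC : Module.finrank F (Submodule.span F {z}) = 1 := finrank_span_singleton hzne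
  have hfA : Module.finrank F A = r - 1 := by
    have e1 := Submodule.finrank_sup_add_finrank_inf_eq A (Submodule.span F {z})
    rw [hPA, hdis.eq_bot, finrank_bot, hfC, hr] at e1
    omega
  refine ⟨A, Submodule.span F {z}, D ⊔ Submodule.span F {g z + z}, by rwa [hPA], ?_, ?_, hdis, ?_, ?_, hfA, hfC⟩
  · refine isotropic_sup hB (fun x hx y hy => hQ x hx.1 y hy.1) ?_ ?_
    · intro x hx y hy
      obtain ⟨c, rfl⟩ := Submodule.mem_span_singleton.1 hx
      obtain ⟨d, rfl⟩ := Submodule.mem_span_singleton.1 hy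
      rw [map_smul, map_smul, LinearMap.smul_apply, hB (g z + z), smul_zero, smul_zero]
    · intro x hx y hy
      obtain ⟨d, rfl⟩ := Submodule.mem_span_singleton.1 hy
      have hx' := hD.1 hx
      have h1 : g z + z = (g z - z) + (2 : F) • z := by
        rw [two_smul]; abel
      rw [map_smul, h1, map_add, hQ x hx'.1 _ (h z hz), map_smul, hB.zero hx'.2]
      simp
  · rw [hPA]
    have hgz : g z + z ∈ P ⊔ (D ⊔ Submodule.span F {g z + z}) :=
      Submodule.mem_sup_right (Submodule.mem_sup_right (Submodule.mem_span_singleton_self _))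
    have hz' : z ∈ P ⊔ (D ⊔ Submodule.span F {g z + z}) := Submodule.mem_sup_left hz
    rw [eq_top_iff, ← hPQ]
    apply sup_le le_sup_left
    intro w hw'
    have h1 : w - (B z w / B z (g z)) • (g z - z) ∈ D := hD.2 ⟨Q.sub_mem hw' (Q.smul_mem _ (h z hz)), by
      rw [map_sub, map_smul, hw, smul_eq_mul, div_mul_cancel₀ _ hz0, sub_self]⟩
    have h3 : w = (w - (B z w / B z (g z)) • (g z - z)) + ((B z w / B z (g z)) • (g z + z)
        - ((B z w / B z (g z)) * 2) • z) := by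
      module
    rw [h3]
    exact Submodule.add_mem _ (Submodule.mem_sup_right (Submodule.mem_sup_left h1))
      (Submodule.sub_mem _ (Submodule.smul_mem _ _ hgz) (Submodule.smul_mem _ _ hz'))
  · intro v hv
    apply Submodule.mem_sup_left
    have hv' := hA.1 hv
    refine hD.2 ⟨h v hv'.1, ?_⟩
    rw [map_sub, hsym v hv'.1, hv'.2, hP z hz v hv'.1, sub_zero]
  · intro v hv
    obtain ⟨c, rfl⟩ := Submodule.mem_span_singleton.1 hv
    apply Submodule.mem_sup_right
    rw [map_smul, ← smul_add]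
    exact Submodule.smul_mem _ _ (Submodule.mem_span_singleton_self _)

theorem dat_refl_top' {B : LinearMap.BilinForm F V} (hB : Alt B) (hN : Nond B) (h2 : (2 : F) ≠ 0)
    {g : V ≃ₗ[F] V} (hg : Iso B g) {r : ℕ} (hr : Module.finrank F V = 2 * r) (h : C1 B g)
    (hne : ∃ v, g v ≠ v) : DatOn B g ⊤ (r - 1) 1 := by
  obtain ⟨P, Q, hP, hQ, hPQ, hPg⟩ := h
  have h1 := finrank_two hB hN hP hQ hPQ
  have h1' := finrank_eq hB hN hP hQ hPQ
  by_cases hc : ∃ z ∈ P, B z (g z) ≠ 0
  · obtain ⟨z, hz, hz0⟩ := hc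
    exact dat_refl_top hB hN h2 hg hP hQ hPQ (by omega) hPg hz hz0
  push Not at hc
  obtain ⟨n, m, hn, hm, e⟩ := c1_factor hB hN hP hQ hPQ hg hPg
  -- `n = 0`
  have hgn : ∀ v ∈ P, g v = v + n v := by
    intro v hv
    rw [e, LinearEquiv.mul_apply, uni_apply (z := m), hm.2.1 v hv, add_zero, uni_apply]
  have hn0 : ∀ v ∈ P, n v = 0 := by
    intro v hv
    apply eq_zero_of_orth hN hPQ _ (hQ _ (hn.1 v))
    intro w hw
    have a1 := hc (v + w) (P.add_mem hv hw)
    have a2 := hc v hv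
    have a3 := hc w hw
    rw [hgn _ (P.add_mem hv hw), map_add n] at a1
    rw [hgn v hv] at a2
    rw [hgn w hw] at a3
    simp only [map_add, LinearMap.add_apply, hB v, hB w, hP v hv w hw, hP w hw v hv, zero_add, add_zero] at a1 a2 a3
    have a4 := hn.2.2 v w
    have a5 : B w (n v) = - B (n v) w := hB.neg _ _
    have a6 : (2 : F) * B (n v) w = 0 := by
      rw [a2, a3] at a1
      linear_combination a4 - a1 + a5
    exact (mul_eq_zero.1 a6).resolve_left h2
  have hgP : ∀ v ∈ P, g v = v := fun v hv => by rw [hgn v hv, hn0 v hv, add_zero]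
  have hnz : ∀ v, n v = 0 := by
    intro v
    obtain ⟨p, hp, q, hq, rfl⟩ := mem_sup_top hPQ v
    rw [map_add, hn0 p hp, hn.2.1 q hq, add_zero]
  have hgm : ∀ v, g v = v + m v := by
    intro v
    rw [e, LinearEquiv.mul_apply, uni_apply (z := n), hnz, add_zero, uni_apply]
  have hQg : ∀ v ∈ Q, g v - v ∈ P := fun v _ => by
    rw [hgm, add_sub_cancel_left]
    exact hm.1 v
  by_cases hc' : ∃ z ∈ Q, B z (g z) ≠ 0
  · obtain ⟨z, hz, hz0⟩ := hc'
    exact dat_refl_top hB hN h2 hg hQ hP (by rw [sup_comm]; exact hPQ) (by omega) hQg hz hz0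
  exfalso
  push Not at hc'
  have hm0 : ∀ v ∈ Q, m v = 0 := by
    intro v hv
    apply eq_zero_of_orth hN hPQ (hP _ (hm.1 v))
    intro w hw
    have a1 := hc' (v + w) (Q.add_mem hv hw)
    have a2 := hc' v hv
    have a3 := hc' w hw
    rw [hgm, map_add m] at a1
    rw [hgm] at a2 a3
    simp only [map_add, LinearMap.add_apply, hB v, hB w, hQ v hv w hw, hQ w hw v hv, zero_add, add_zero] at a1 a2 a3
    have a4 := hm.2.2 v w
    have a5 : B w (m v) = - B (m v) w := hB.neg _ _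
    have a6 : (2 : F) * B (m v) w = 0 := by
      rw [a2, a3] at a1
      linear_combination a4 - a1 + a5
    exact (mul_eq_zero.1 a6).resolve_left h2
  obtain ⟨v, hv⟩ := hne
  apply hv
  obtain ⟨p, hp, q, hq, rfl⟩ := mem_sup_top hPQ v
  rw [hgm, map_add, hm.2.1 p hp, hm0 q hq, add_zero, add_zero]

theorem dat_refl {B : LinearMap.BilinForm F V} (hB : Alt B) (h2 : (2 : F) ≠ 0) {g : V ≃ₗ[F] V} (hg : Iso B g)
    {R : Submodule F V} (hR : Nd B R) (hI : _root_.Cfsg.Agent.H144.Inv g R) {r : ℕ} (hr : Module.finrank F R = 2 * r) (h : C1On B g R)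
    (hne : ∃ v ∈ R, g v ≠ v) : DatOn B g R (r - 1) 1 := by
  obtain ⟨v, hv, hne⟩ := hne
  exact DatOn.of_restrict hI (dat_refl_top' (restrict_alt hB R) (restrict_nond hR) h2 (gr_iso hg R hI) hr
    (c1_of_c1On hI h) ⟨⟨v, hv⟩, fun h0 => hne (congrArg Subtype.val h0)⟩)

/-- the decomposition into a `C1` part and a `-C1` part -/
def Dec2 (B : LinearMap.BilinForm F V) (g : V ≃ₗ[F] V) (P : Submodule F V) : Prop :=
  ∃ R S : Submodule F V, Orth B R S ∧ _root_.Cfsg.Agent.H144.Inv g R ∧ _root_.Cfsg.Agent.H144.Inv g S ∧ Nd B R ∧ Nd B S ∧ R ⊔ S = P ∧ C1On B g R ∧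
    C1On B (ng g) S

theorem exists_dec2 [Finite F] {B : LinearMap.BilinForm F V} (hB : Alt B) {g : V ≃ₗ[F] V}
    (hg : Iso B g) (n : ℕ) : ∀ P : Submodule F V, _root_.Cfsg.Agent.H144.Inv g P → Nd B P → Module.finrank F P = n → Dec2 B g P := by
  induction n using Nat.strong_induction_on with
  | _ n ih =>
  intro P hPI hPN hn
  rcases Nat.eq_zero_or_pos n with h0 | hpos
  · rw [h0] at hn
    have hbot : P = ⊥ := Submodule.finrank_eq_zero.1 hn
    subst hbot
    refine ⟨⊥, ⊥, ?_, Inv.bot g, Inv.bot g, Nd.bot B, Nd.bot B, by simp, C1On.bot B g, C1On.bot B (ng g)⟩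
    intro x hx y _
    rw [Submodule.mem_bot] at hx
    subst hx; simp
  · -- a minimal nonzero invariant nondegenerate subspace
    classical
    have hex : ∃ k, ∃ Q : Submodule F V, Q ≤ P ∧ Q ≠ ⊥ ∧ _root_.Cfsg.Agent.H144.Inv g Q ∧ Nd B Q ∧ Module.finrank F Q = k :=
      ⟨n, P, le_rfl, by
        rintro rfl
        rw [finrank_bot] at hn
        omega, hPI, hPN, hn⟩
    obtain ⟨Q, hQP, hQ0, hQI, hQN, hQk⟩ := Nat.find_spec hex
    have hmin : ∀ Q' : Submodule F V, Q' ≤ P → Q' ≠ ⊥ → _root_.Cfsg.Agent.H144.Inv g Q' → Nd B Q' →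
        Module.finrank F Q ≤ Module.finrank F Q' := by
      intro Q' h1 h2 h3 h4
      rw [hQk]
      exact Nat.find_min' hex ⟨Q', h1, h2, h3, h4, rfl⟩
    have hQnt : Nontrivial Q := Submodule.nontrivial_iff_ne_bot.2 hQ0
    have hIndec : Indec (B.restrict Q) (gr g Q hQI) := by
      intro R hRI hRN
      by_cases hR : R = ⊥
      · exact Or.inl hR
      right
      have h1 : Module.finrank F (R.map Q.subtype) = Module.finrank F R :=
        (Submodule.equivMapOfInjective Q.subtype Q.injective_subtype R).finrank_eq.symm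
      have h2 := hmin (R.map Q.subtype) ((Submodule.map_subtype_le Q R).trans hQP) (by
        intro h0
        apply hR
        rw [h0, finrank_bot] at h1
        exact Submodule.finrank_eq_zero.1 h1.symm) (by
        rintro _ ⟨x, hx, rfl⟩
        exact ⟨_, hRI x hx, rfl⟩) (by
        rintro _ ⟨x, hx, rfl⟩ h0
        have := hRN x hx (fun w hw => h0 w ⟨w, hw, rfl⟩)
        rw [this]; rfl)
      rw [h1] at h2
      exact Submodule.eq_top_of_finrank_eq (le_antisymm (Submodule.finrank_le R) h2)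
    have hpiece := indec_main (restrict_alt hB Q) (restrict_nond hQN) (gr_iso hg Q hQI) hIndec
    -- the complement
    set R := P ⊓ perp B Q with hR
    have hQR : Q ⊔ R = P := by
      apply le_antisymm (sup_le hQP inf_le_left)
      intro v hv
      have h1 : v ∈ Q ⊔ perp B Q := by rw [sup_perp hB hQN]; trivial
      obtain ⟨a, ha, b, hb, rfl⟩ := Submodule.mem_sup.1 h1
      refine Submodule.add_mem_sup ha ⟨?_, hb⟩
      have := P.sub_mem hv (hQP ha)
      simpa using this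
    have hQRo : Orth B Q R := fun x hx y hy => hy.2 x hx
    have hRI : _root_.Cfsg.Agent.H144.Inv g R := by
      intro v hv
      refine ⟨hPI v hv.1, fun w hw => ?_⟩
      rw [hg.adj']
      exact hv.2 _ (inv_mem_of_mem hQI w hw)
    have hRN : Nd B R := by
      intro v hv h0
      apply hPN v hv.1
      intro w hw
      rw [← hQR] at hw
      obtain ⟨a, ha, b, hb, rfl⟩ := Submodule.mem_sup.1 hw
      rw [map_add, h0 b hb, hB.zero (hQRo a ha v hv), add_zero]
    have hdisj : Disjoint Q R := by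
      rw [Submodule.disjoint_def]
      intro v hv hv'
      exact hQN v hv (fun w hw => hB.zero (hv'.2 w hw))
    have hfin : Module.finrank F Q + Module.finrank F R = n := by
      have h1 := Submodule.finrank_sup_add_finrank_inf_eq Q R
      rw [hQR, hdisj.eq_bot, finrank_bot, hn] at h1
      omega
    have hQpos : 0 < Module.finrank F Q := Module.finrank_pos
    obtain ⟨P', P₁, o1, i1, i2, n1, n2, hsup, hc, hc'⟩ :=
      ih (Module.finrank F R) (by omega) R hRI hRN rfl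
    have hP'R : P' ≤ R := by rw [← hsup]; exact le_sup_left
    have hP₁R : P₁ ≤ R := by rw [← hsup]; exact le_sup_right
    have oQ : ∀ {T : Submodule F V}, T ≤ R → Orth B Q T := fun hT x hx y hy => hQRo x hx y (hT hy)
    rcases hpiece with hC | ⟨h2, hE⟩
    · refine ⟨Q ⊔ P', P₁, orth_sup (oQ hP₁R) o1, Inv.sup hQI i1, i2,
        Nd.sup hB (oQ hP'R) hQN n1, n2, ?_, C1On.sup hB (oQ hP'R) (c1On_of_c1 hQI hC) hc, hc'⟩
      rw [sup_assoc, hsup, hQR]
    · have hI' : _root_.Cfsg.Agent.H144.Inv (ng g) Q := fun w hw => by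
        rw [ng_apply]; exact Q.neg_mem (hQI w hw)
      have hCQ : C1On B (ng g) Q := by
        apply c1On_of_c1 hI'
        have : gr (ng g) Q hI' = ng (gr g Q hQI) := by
          ext w
          rfl
        rw [this]
        exact hE.1
      refine ⟨P', Q ⊔ P₁, orth_sup' ((oQ hP'R).symm hB) o1, i1, Inv.sup hQI i2, n1,
        Nd.sup hB (oQ hP₁R) hQN n2, ?_, hc, C1On.sup hB (oQ hP₁R) hCQ hc'⟩
      rw [← sup_assoc, sup_comm P' Q, sup_assoc, hsup, hQR]

variable [Finite F]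

/-- compressions with a model of `P` -/
theorem prB_model {B : LinearMap.BilinForm F V} (hB : Alt B) (hN : Nond B) {N : ℕ} {g : V ≃ₗ[F] V}
    (hg : Iso B g) {W : Type*} [AddCommGroup W] [Module F W] {φ : W →ₗ[F] V} (hφ : Function.Injective φ)
    (hP : ∀ w w', B (φ w) (φ w') = 0) {Q : Submodule F V} (hQ : Orth B Q Q) (htop : LinearMap.range φ ⊔ Q = ⊤)
    {l : W →ₗ[F] W} (hl : ∀ w, g (φ w) - φ (l w) ∈ Q) {f f' : F[X]} (hcop : IsCoprime f f') {k : ℕ}
    (hk : k.Coprime N) (h : Fac f f' k l) : PrB B N g := by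
  let e : W ≃ₗ[F] LinearMap.range φ := LinearEquiv.ofInjective φ hφ
  have he : ∀ w, (e w : V) = φ w := fun w => rfl
  refine prB_cmp hB hN hg (P := LinearMap.range φ) (Q := Q) ?_ hQ htop
    (l := (e : W →ₗ[F] LinearMap.range φ) ∘ₗ l ∘ₗ (e.symm : LinearMap.range φ →ₗ[F] W)) ?_ hcop hk
    (h.conj e.symm (fun v => ?_))
  · rintro _ ⟨x, rfl⟩ _ ⟨y, rfl⟩
    exact hP x y
  · intro v
    have h1 := hl (e.symm v)
    rw [← he, e.apply_symm_apply] at h1
    exact h1
  · exact e.symm_apply_apply _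

theorem prB_dat {B : LinearMap.BilinForm F V} (hB : Alt B) (hN : Nond B) {N : ℕ} {g : V ≃ₗ[F] V}
    (hg : Iso B g) {a c : ℕ} (h : DatOn B g ⊤ a c) {f f' : F[X]} (hcop : IsCoprime f f') {k : ℕ}
    (hk : k.Coprime N) (hF : Fac f f' k (LinearMap.id.prodMap (-LinearMap.id) :
      ((Fin a → F) × (Fin c → F)) →ₗ[F] ((Fin a → F) × (Fin c → F)))) : PrB B N g := by
  obtain ⟨A, C, Q, h1, h2, h3, h4, h5, h6, h7, h8⟩ := h
  let eA : (Fin a → F) ≃ₗ[F] A := LinearEquiv.ofFinrankEq _ _ (by simp only [h7, _root_.Module.finrank_fintype_fun_eq_card, _root_.Fintype.card_fin])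
  let eC : (Fin c → F) ≃ₗ[F] C := LinearEquiv.ofFinrankEq _ _ (by simp only [h8, _root_.Module.finrank_fintype_fun_eq_card, _root_.Fintype.card_fin])
  let φ : ((Fin a → F) × (Fin c → F)) →ₗ[F] V :=
    (A.subtype ∘ₗ (eA : (Fin a → F) →ₗ[F] A)).coprod (C.subtype ∘ₗ (eC : (Fin c → F) →ₗ[F] C))
  have hφ : ∀ w, φ w = (eA w.1 : V) + (eC w.2 : V) := fun w => rfl
  have hmem : ∀ w, φ w ∈ A ⊔ C := fun w => by
    rw [hφ]; exact Submodule.add_mem_sup (eA w.1).2 (eC w.2).2
  refine prB_model hB hN hg (φ := φ) (Q := Q) ?_ (fun w w' => h1 _ (hmem w) _ (hmem w')) h2 ?_ (fun w => ?_)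
    hcop hk hF
  · rw [← LinearMap.ker_eq_bot, LinearMap.ker_eq_bot']
    rintro ⟨x, y⟩ h0
    rw [hφ] at h0
    have e1 : (eA x : V) = 0 := Submodule.disjoint_def.1 h4 _ (eA x).2 (by
      rw [eq_neg_of_add_eq_zero_left h0]; exact C.neg_mem (eC y).2)
    rw [e1, zero_add] at h0
    have e2 : x = 0 := eA.map_eq_zero_iff.1 (Subtype.ext e1)
    have e3 : y = 0 := eC.map_eq_zero_iff.1 (Subtype.ext h0)
    rw [e2, e3]; rfl
  · rw [eq_top_iff, ← h3]
    refine sup_le_sup_right (sup_le ?_ ?_) Q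
    · intro v hv
      refine ⟨(eA.symm ⟨v, hv⟩, 0), ?_⟩
      rw [hφ]
      simp
    · intro v hv
      refine ⟨(0, eC.symm ⟨v, hv⟩), ?_⟩
      rw [hφ]
      simp only [_root_.map_zero, _root_.ZeroMemClass.coe_zero, _root_.LinearEquiv.apply_symm_apply, _root_.zero_add]
  · have e1 : g (φ w) - φ ((LinearMap.id.prodMap (-LinearMap.id) :
        ((Fin a → F) × (Fin c → F)) →ₗ[F] ((Fin a → F) × (Fin c → F))) w) =
        (g (eA w.1 : V) - (eA w.1 : V)) + (g (eC w.2 : V) + (eC w.2 : V)) := by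
      rw [hφ, hφ]
      change g ((eA w.1 : V) + (eC w.2 : V)) - ((eA w.1 : V) + (eC (-w.2) : V)) = _
      rw [map_add, map_neg, Submodule.coe_neg]
      abel
    rw [e1]
    exact Q.add_mem (h5 _ (eA w.1).2) (h6 _ (eC w.2).2)

end FD

end Cfsg.Agent.H649.PwSp
end
end

-- part: H649/PwSp/Blk
section
/-!
# Blocks of size 3, 5, 7 in characteristic three

`F1 = l3 l5 l7`, `F2` the product of the reversed polynomials, `kk = 13 * 11 * 1093`.
* `fac_d a c` : `Fac F1 F2 kk` for the diagonal matrix with `a` ones and `c` minus ones,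
  `(a, c) = (3,0), (1,2), (5,0), (3,2), (7,0), (5,2), (3,4)`;
* `fac_j` : the same for `[[0, 1], [-1, 0]] ⊕ 1`.
-/

set_option autoImplicit false
set_option maxRecDepth 20000
open Polynomial

noncomputable section

namespace Cfsg.Agent.H649.PwSp

open Cfsg.Agent.H144 Cfsg.Agent.H934.MF

/-- matrix from the base three digits of a number -/
def dm (m N : ℕ) : Matrix (Fin m) (Fin m) (ZMod 3) := fun i j => ((N / 3 ^ (m * i.1 + j.1) % 3 : ℕ) : ZMod 3)

/-- list from the base three digits of a number -/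
def dl (k N : ℕ) : List (ZMod 3) := (List.range k).map fun i => ((N / 3 ^ i % 3 : ℕ) : ZMod 3)

/-- coefficients -/
def l3 : List (ZMod 3) := [2, 0, 1, 1]
/-- coefficients -/
def l5 : List (ZMod 3) := [2, 0, 1, 2, 1, 1]
/-- coefficients -/
def l7 : List (ZMod 3) := [2, 0, 0, 0, 0, 1, 1, 1]

/-- the polynomial of `x` -/
def F1 : (ZMod 3)[X] := toP (mulL (mulL l3 l5) l7)
/-- the polynomial of `y` -/
def F2 : (ZMod 3)[X] := toP (mulL (mulL l3.reverse l5.reverse) l7.reverse)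

theorem F1_eq : F1 = toP l3 * toP l5 * toP l7 := by rw [F1, toP_mulL, toP_mulL]
theorem F2_eq : F2 = toP l3.reverse * toP l5.reverse * toP l7.reverse := by rw [F2, toP_mulL, toP_mulL]


/-- Bezout -/
def lA : List (ZMod 3) := [2, 2, 1, 0, 2, 1, 0, 0, 1, 0, 0, 2, 1, 0, 2]
/-- Bezout -/
def lB : List (ZMod 3) := [0, 2, 0, 2, 1, 2, 2, 2, 1, 2, 2, 1, 2, 0, 2]

theorem cop12 : IsCoprime F1 F2 := by
  have h : eqL (addL (mulL lA (mulL (mulL l3 l5) l7))
      (mulL lB (mulL (mulL l3.reverse l5.reverse) l7.reverse))) [1] = true := by decide +kernel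
  have h2 := toP_eq h
  rw [toP_addL, toP_mulL lA, toP_mulL lB] at h2
  have h3 : toP ([1] : List (ZMod 3)) = 1 := by rw [toP, toP, C_1]; ring
  rw [h3] at h2
  exact ⟨toP lA, toP lB, h2⟩


theorem dvd3 : toP l3 ∣ X ^ 13 - 1 := by
  have h : eqL (mulL l3 [1, 0, 1, 1, 1, 2, 2, 0, 1, 2, 1]) (xk 13) = true := by decide +kernel
  have h1 := toP_eq h
  rw [toP_mulL, toP_xk] at h1
  exact ⟨_, h1.symm⟩

theorem dvd5 : toP l5 ∣ X ^ 11 - 1 := by
  have h : eqL (mulL l5 [1, 0, 1, 2, 2, 2, 1]) (xk 11) = true := by decide +kernel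
  have h1 := toP_eq h
  rw [toP_mulL, toP_xk] at h1
  exact ⟨_, h1.symm⟩

theorem dvd7 : toP l7 ∣ X ^ 1093 - 1 := by
  have h : eqL (mulL l7 (dl 1087 246457154395905646960183265700421667556118840913560958617244010167420573029674538870541538251722381140922796275671168045076469310940906147638623059532991619156598538182452882577583872667269821732109412682594302664793716094720912024342124251286534921088453211777933030658347298664731692161885510139077489829234724418777918344608228897292444438981676256904724374268037029446627428428614379839685646712367198155869719168544054871438904622555682092456668116339924838369209743891436080350734260615531931426145722429483732814)) (xk 1093) = true := by decide +kernel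
  have h1 := toP_eq h
  rw [toP_mulL, toP_xk] at h1
  exact ⟨_, h1.symm⟩


/-- the exponent -/
def kk : ℕ := 156299

theorem kk_cop : kk.Coprime 6 := by unfold kk; decide


open scoped Cfsg.Agent.Lib.MatDec in
/-- Horner scheme on codes -/
private noncomputable def hor (m : ℕ) [NeZero m] (x : ℕ) (l : List (ZMod 3)) : ℕ :=
  List.rec (motive := fun _ => ℕ) (Cfsg.Agent.Lib.MatDec.enc (0 : Matrix (Fin m) (Fin m) (ZMod 3)))
    (fun a _ ih => Cfsg.Agent.Lib.MatDec.add m 3
      (Cfsg.Agent.Lib.MatDec.smul m 3 a.val (Cfsg.Agent.Lib.MatDec.enc (1 : Matrix (Fin m) (Fin m) (ZMod 3))))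
      (Cfsg.Agent.Lib.MatDec.mul m 3 x ih)) l

open scoped Cfsg.Agent.Lib.MatDec in
private theorem hor_eq {m : ℕ} [NeZero m] (X : Matrix (Fin m) (Fin m) (ZMod 3)) : ∀ l : List (ZMod 3),
    hor m (Cfsg.Agent.Lib.MatDec.enc X) l = Cfsg.Agent.Lib.MatDec.enc (aeval X (toP l))
  | [] => by rw [toP, map_zero]; rfl
  | a :: l => by
    rw [toP, map_add, map_mul, aeval_X, aeval_C, Algebra.algebraMap_eq_smul_one, ← Cfsg.Agent.Lib.MatDec.add_eq,
      ← Cfsg.Agent.Lib.MatDec.smul_eq, ← Cfsg.Agent.Lib.MatDec.mul_eq, ← hor_eq X l]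
    rfl

open scoped Cfsg.Agent.Lib.MatDec in
private theorem cert_of {m : ℕ} [NeZero m] {A B C : Matrix (Fin m) (Fin m) (ZMod 3)} {l : List (ZMod 3)}
    (h : (Nat.beq (Cfsg.Agent.Lib.MatDec.mul m 3 (Cfsg.Agent.Lib.MatDec.enc A) (Cfsg.Agent.Lib.MatDec.enc B))
        (Cfsg.Agent.Lib.MatDec.enc C) &&
      (Nat.beq (hor m (Cfsg.Agent.Lib.MatDec.enc A) l) (hor m 0 []) &&
        Nat.beq (hor m (Cfsg.Agent.Lib.MatDec.enc B) l.reverse) (hor m 0 []))) = true) :
    A * B = C ∧ aeval A (toP l) = 0 ∧ aeval B (toP l.reverse) = 0 := by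
  rw [Bool.and_eq_true, Bool.and_eq_true, Nat.beq_eq, Nat.beq_eq, Nat.beq_eq, hor_eq, hor_eq] at h
  exact ⟨Cfsg.Agent.Lib.MatDec.enc_inj ((Cfsg.Agent.Lib.MatDec.mul_eq A B).symm.trans h.1),
    Cfsg.Agent.Lib.MatDec.enc_inj h.2.1, Cfsg.Agent.Lib.MatDec.enc_inj h.2.2⟩

theorem cert_D12 : dm 3 1949 * dm 3 2466 = dm 3 13285 ∧ aeval (dm 3 1949) (toP l3) = 0 ∧
    aeval (dm 3 2466) (toP l3.reverse) = 0 :=
  cert_of (by decide +kernel)


theorem cert_J1 : dm 3 17153 * dm 3 7690 = dm 3 6618 ∧ aeval (dm 3 17153) (toP l3) = 0 ∧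
    aeval (dm 3 7690) (toP l3.reverse) = 0 :=
  cert_of (by decide +kernel)


theorem cert_D32 : dm 5 629464017810 * dm 5 257067747409 = dm 5 565634446111 ∧ aeval (dm 5 629464017810) (toP l5) = 0 ∧
    aeval (dm 5 257067747409) (toP l5.reverse) = 0 :=
  cert_of (by decide +kernel)


theorem cert_D52 : dm 7 202917948732719135014092 * dm 7 62849185432711608733784 = dm 7 159557203337965795025929 ∧ aeval (dm 7 202917948732719135014092) (toP l7) = 0 ∧
    aeval (dm 7 62849185432711608733784) (toP l7.reverse) = 0 :=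
  cert_of (by decide +kernel)


theorem cert_D34 : dm 7 80553100621359902759815 * dm 7 104340564382029441438269 = dm 7 159557205191268413414251 ∧ aeval (dm 7 80553100621359902759815) (toP l7) = 0 ∧
    aeval (dm 7 104340564382029441438269) (toP l7.reverse) = 0 :=
  cert_of (by decide +kernel)


theorem cert_D30 : dm 3 15345 * dm 3 1002 = dm 3 6643 ∧ aeval (dm 3 15345) (toP l3) = 0 ∧
    aeval (dm 3 1002) (toP l3.reverse) = 0 :=
  cert_of (by decide +kernel)


theorem cert_D50 : dm 5 660303396828 * dm 5 4665109629 = dm 5 282817489141 ∧ aeval (dm 5 660303396828) (toP l5) = 0 ∧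
    aeval (dm 5 4665109629) (toP l5.reverse) = 0 :=
  cert_of (by decide +kernel)


theorem cert_D70 : dm 7 186198699678377437378179 * dm 7 145947599838558925095 = dm 7 79778602595634228233767 ∧ aeval (dm 7 186198699678377437378179) (toP l7) = 0 ∧
    aeval (dm 7 145947599838558925095) (toP l7.reverse) = 0 :=
  cert_of (by decide +kernel)


end Cfsg.Agent.H649.PwSp
end
end

-- part: H649/PwSp/Blk2
section
/-!
# `Fac` for diagonal matrices with entries `1`, `-1` in characteristic three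

* `fd_all` : `FD F a (2 t)` for `t ≤ a`, `3 ≤ a + 2 t`, `a + 2 t ≠ 4`.
* `fj` : `[[0, 1], [-1, 0]] ⊕ 1`.
-/

set_option autoImplicit false
set_option maxRecDepth 20000
open Polynomial

noncomputable section

namespace Cfsg.Agent.H649.PwSp

open Cfsg.Agent.H144 Cfsg.Agent.H934.MF

theorem aeval_reverse {R S : Type*} [CommRing R] [Ring S] [Algebra R S] {x x' : S} (h : x' * x = 1) :
    ∀ (l : List R) (a : R), aeval x' (toP (a :: l).reverse) = x' ^ l.length * aeval x (toP (a :: l))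
  | [], a => by
    simp [toP]
  | b :: l, a => by
    rw [List.reverse_cons, toP_append, map_add, aeval_reverse h l b, List.length_reverse, List.length_cons]
    have e1 : aeval x (toP (a :: b :: l)) = algebraMap R S a + x * aeval x (toP (b :: l)) := by
      rw [toP, map_add, aeval_C, map_mul, aeval_X]
    have e2 : aeval x' (X ^ (l.length + 1) * toP [a]) = x' ^ (l.length + 1) * algebraMap R S a := by
      rw [map_mul, map_pow, aeval_X, toP, toP, mul_zero, add_zero, aeval_C]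
    rw [e1, e2, mul_add, add_comm]
    congr 1
    rw [pow_succ, mul_assoc, ← mul_assoc x' x, h, one_mul]

variable (F : Type*) [Field F] [CharP F 3]

/-- the prime field -/
def ι3 : ZMod 3 →+* F := ZMod.castHom dvd_rfl F

/-- matrices over the prime field -/
def ψ3 (m : ℕ) : Matrix (Fin m) (Fin m) (ZMod 3) →+* Module.End F (Fin m → F) :=
  ((Matrix.toLinAlgEquiv' : Matrix (Fin m) (Fin m) F ≃ₐ[F] _) :
    Matrix (Fin m) (Fin m) F →+* Module.End F (Fin m → F)).comp (ι3 F).mapMatrix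

theorem ψ3_aeval (m : ℕ) (N : Matrix (Fin m) (Fin m) (ZMod 3)) (p : (ZMod 3)[X]) :
    aeval (ψ3 F m N) (p.map (ι3 F)) = ψ3 F m (aeval N p) := by
  rw [aeval_def, aeval_def, eval₂_map, hom_eval₂]
  congr 1
  exact RingHom.ext_zmod _ _

theorem ψ3_apply (m : ℕ) (N : Matrix (Fin m) (Fin m) (ZMod 3)) (v : Fin m → F) :
    ψ3 F m N v = (N.map (ι3 F)).mulVec v := rfl

/-- from certificates to `Fac` -/
theorem fac_of_cert {m : ℕ} {a : ZMod 3} {l : List (ZMod 3)} {e : ℕ} (hdiv : toP (a :: l) ∣ X ^ e - 1) (hek : e ∣ kk)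
    (h1 : toP (a :: l) ∣ F1) (h2 : toP (a :: l).reverse ∣ F2) {M N L L' : Matrix (Fin m) (Fin m) (ZMod 3)}
    (hL : L * L' = 1) (h : M * N = L) (hM : aeval M (toP (a :: l)) = 0)
    (hN : aeval N (toP (a :: l).reverse) = 0) :
    Fac (F1.map (ι3 F)) (F2.map (ι3 F)) kk (ψ3 F m L) := by
  have hL' : L' * L = 1 := mul_eq_one_comm.1 hL
  have hMi : M * (N * L') = 1 := by rw [← mul_assoc, h, hL]
  have hMi' : (N * L') * M = 1 := mul_eq_one_comm.1 hMi
  have hNi' : (L' * M) * N = 1 := by rw [mul_assoc, h, hL']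
  have hNi : N * (L' * M) = 1 := mul_eq_one_comm.1 hNi'
  -- polynomials
  have p1 : aeval M F1 = 0 := by
    obtain ⟨q, hq⟩ := h1
    rw [hq, map_mul, hM, zero_mul]
  have p2 : aeval (N * L') F2 = 0 := by
    obtain ⟨q, hq⟩ := h2
    rw [hq, map_mul, aeval_reverse hMi' l a, hM, mul_zero, zero_mul]
  have p3 : aeval N F2 = 0 := by
    obtain ⟨q, hq⟩ := h2
    rw [hq, map_mul, hN, zero_mul]
  have p4' : aeval (L' * M) (toP (a :: l)) = 0 := by
    have e1 := aeval_reverse (x := L' * M) (x' := N) hNi l a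
    rw [hN] at e1
    have e2 : (L' * M) ^ l.length * N ^ l.length = 1 := by
      have hc : Commute (L' * M) N := by rw [Commute, SemiconjBy, hNi, hNi']
      rw [← hc.mul_pow, hNi', one_pow]
    calc aeval (L' * M) (toP (a :: l)) = (L' * M) ^ l.length * N ^ l.length * aeval (L' * M) (toP (a :: l)) := by
          rw [e2, one_mul]
      _ = (L' * M) ^ l.length * (N ^ l.length * aeval (L' * M) (toP (a :: l))) := by rw [mul_assoc]
      _ = 0 := by rw [← e1, mul_zero]
  have p4 : aeval (L' * M) F1 = 0 := by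
    obtain ⟨q, hq⟩ := h1
    rw [hq, map_mul, p4', zero_mul]
  have hpk : ∀ T : Matrix (Fin m) (Fin m) (ZMod 3), aeval T (toP (a :: l)) = 0 → T ^ kk = 1 := by
    intro T hT
    obtain ⟨q, hq⟩ := hdiv
    have e1 := congrArg (aeval T) hq
    rw [map_mul, hT, zero_mul, map_sub, map_pow, aeval_X, map_one, sub_eq_zero] at e1
    obtain ⟨j, hj⟩ := hek
    rw [hj, pow_mul, e1, one_pow]
  have p5 := hpk M hM
  have p6' := hpk (L' * M) p4'
  have p6 : N ^ kk = 1 := by
    have hc : Commute (L' * M) N := by rw [Commute, SemiconjBy, hNi, hNi']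
    have e1 : ((L' * M) * N) ^ kk = (L' * M) ^ kk * N ^ kk := hc.mul_pow kk
    rw [hNi', one_pow, p6', one_mul] at e1
    exact e1.symm
  let x : (Fin m → F) ≃ₗ[F] (Fin m → F) := LinearEquiv.ofLinearMap (ψ3 F m M) (ψ3 F m (N * L'))
    (by rw [← Module.End.mul_eq_comp, ← map_mul, hMi, map_one]; rfl)
    (by rw [← Module.End.mul_eq_comp, ← map_mul, hMi', map_one]; rfl)
  let y : (Fin m → F) ≃ₗ[F] (Fin m → F) := LinearEquiv.ofLinearMap (ψ3 F m N) (ψ3 F m (L' * M))
    (by rw [← Module.End.mul_eq_comp, ← map_mul, hNi, map_one]; rfl)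
    (by rw [← Module.End.mul_eq_comp, ← map_mul, hNi', map_one]; rfl)
  have hx : (x : Module.End F (Fin m → F)) = ψ3 F m M := rfl
  have hxi : ((x⁻¹ : (Fin m → F) ≃ₗ[F] (Fin m → F)) : Module.End F (Fin m → F)) = ψ3 F m (N * L') := rfl
  have hy : (y : Module.End F (Fin m → F)) = ψ3 F m N := rfl
  have hyi : ((y⁻¹ : (Fin m → F) ≃ₗ[F] (Fin m → F)) : Module.End F (Fin m → F)) = ψ3 F m (L' * M) := rfl
  have hpow : ∀ (k : ℕ) (z : (Fin m → F) ≃ₗ[F] (Fin m → F)) (T : Matrix (Fin m) (Fin m) (ZMod 3)),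
      (z : Module.End F (Fin m → F)) = ψ3 F m T → T ^ k = 1 → z ^ k = 1 := by
    intro k z T hz hT
    have e1 : ∀ j : ℕ, ((z ^ j : (Fin m → F) ≃ₗ[F] (Fin m → F)) : Module.End F (Fin m → F)) = ψ3 F m (T ^ j) := by
      intro j
      induction j with
      | zero => rw [pow_zero, pow_zero, map_one]; rfl
      | succ j ih =>
        rw [pow_succ, map_pow, pow_succ, ← map_pow, ← ih, ← hz]
        rfl
    apply LinearEquiv.ext
    intro v
    have e2 := LinearMap.congr_fun (e1 k) v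
    rw [hT, map_one] at e2
    exact e2
  refine ⟨x, y, fun v => ?_, fun v => ?_, fun v => ?_, fun v => ?_, fun v => ?_, hpow kk x M hx p5, hpow kk y N hy p6⟩
  · have e1 : ψ3 F m M * ψ3 F m N = ψ3 F m L := by rw [← map_mul, h]
    exact LinearMap.congr_fun e1 v
  · rw [hx, ψ3_aeval, p1, map_zero, LinearMap.zero_apply]
  · rw [hxi, ψ3_aeval, p2, map_zero, LinearMap.zero_apply]
  · rw [hy, ψ3_aeval, p3, map_zero, LinearMap.zero_apply]
  · rw [hyi, ψ3_aeval, p4, map_zero, LinearMap.zero_apply]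

theorem d31 : toP l3 ∣ F1 := by
  rw [F1_eq, mul_assoc]; exact dvd_mul_right _ _
theorem d51 : toP l5 ∣ F1 := by
  rw [F1_eq, mul_comm (toP l3), mul_assoc]; exact dvd_mul_right _ _
theorem d71 : toP l7 ∣ F1 := by
  rw [F1_eq]; exact dvd_mul_left _ _
theorem d32 : toP l3.reverse ∣ F2 := by
  rw [F2_eq, mul_assoc]; exact dvd_mul_right _ _
theorem d52 : toP l5.reverse ∣ F2 := by
  rw [F2_eq, mul_comm (toP l3.reverse), mul_assoc]; exact dvd_mul_right _ _
theorem d72 : toP l7.reverse ∣ F2 := by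
  rw [F2_eq]; exact dvd_mul_left _ _

/-- the standard involution -/
def std (F : Type*) [Field F] (a c : ℕ) : ((Fin a → F) × (Fin c → F)) →ₗ[F] ((Fin a → F) × (Fin c → F)) :=
  LinearMap.id.prodMap (-LinearMap.id)

/-- `Fac` for the standard involution -/
def FD (a c : ℕ) : Prop := Fac (F1.map (ι3 F)) (F2.map (ι3 F)) kk (std F a c)

variable {F}

theorem FD.add {a c a' c' : ℕ} (h : FD F a c) (h' : FD F a' c') : FD F (a + a') (c + c') := by
  let e1 : (Fin (a + a') → F) ≃ₗ[F] (Fin a → F) × (Fin a' → F) := LinearEquiv.ofFinrankEq _ _ (by simp only [_root_.Module.finrank_fintype_fun_eq_card, _root_.Fintype.card_fin, _root_.Module.finrank_prod, _root_.Nat.add_left_cancel_iff])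
  let e2 : (Fin (c + c') → F) ≃ₗ[F] (Fin c → F) × (Fin c' → F) := LinearEquiv.ofFinrankEq _ _ (by simp only [_root_.Module.finrank_fintype_fun_eq_card, _root_.Fintype.card_fin, _root_.Module.finrank_prod, _root_.Nat.add_left_cancel_iff])
  refine (Fac.prod h h').conj ((e1.prodCongr e2).trans (LinearEquiv.prodProdProdComm F _ _ _ _)) ?_
  rintro ⟨v, w⟩
  change (((e1 v).1, (e2 (-w)).1), ((e1 v).2, (e2 (-w)).2)) = (((e1 v).1, -(e2 w).1), ((e1 v).2, -(e2 w).2))
  rw [map_neg]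
  rfl

/-- the matrix form -/
theorem fd_of_diag {a c : ℕ} (h : Fac (F1.map (ι3 F)) (F2.map (ι3 F)) kk (ψ3 F (a + c)
    (Matrix.diagonal fun i : Fin (a + c) => if i.1 < a then (1 : ZMod 3) else -1))) : FD F a c := by
  let e : ((Fin a → F) × (Fin c → F)) ≃ₗ[F] (Fin (a + c) → F) :=
    (LinearEquiv.sumArrowLequivProdArrow (Fin a) (Fin c) F F).symm.trans
      (LinearEquiv.funCongrLeft F F (finSumFinEquiv (m := a) (n := c)).symm)
  have he : ∀ (v : (Fin a → F) × (Fin c → F)) (i : Fin (a + c)),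
      e v i = Sum.elim v.1 v.2 (finSumFinEquiv.symm i) := fun v i => rfl
  refine h.conj e ?_
  rintro ⟨v, w⟩
  ext i
  rw [ψ3_apply, he, Matrix.diagonal_map (map_zero _), Matrix.mulVec_diagonal, he]
  obtain ⟨j, rfl⟩ := (finSumFinEquiv (m := a) (n := c)).surjective i
  rw [Equiv.symm_apply_apply]
  rcases j with j | j
  · have : (finSumFinEquiv (Sum.inl j) : Fin (a + c)).1 < a := by simp
    simp only [std, Sum.elim_inl]
    rw [if_pos this, map_one, one_mul]
    rfl
  · have : ¬ (finSumFinEquiv (Sum.inr j) : Fin (a + c)).1 < a := by simp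
    simp only [std, Sum.elim_inr]
    rw [if_neg this, map_neg, map_one, neg_one_mul]
    rfl

variable (F)


theorem fd_D30 : FD F 3 0 := by
  apply fd_of_diag
  have hc := cert_D30
  have hd : dm 3 6643 = Matrix.diagonal fun i : Fin (3 + 0) => if i.1 < 3 then (1 : ZMod 3) else -1 := by
    decide +kernel
  rw [← hd]
  refine fac_of_cert F (L' := dm 3 6643) dvd3 (by decide) d31 d32 (by decide +kernel) hc.1 hc.2.1 hc.2.2


theorem fd_D12 : FD F 1 2 := by
  apply fd_of_diag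
  have hc := cert_D12
  have hd : dm 3 13285 = Matrix.diagonal fun i : Fin (1 + 2) => if i.1 < 1 then (1 : ZMod 3) else -1 := by
    decide +kernel
  rw [← hd]
  refine fac_of_cert F (L' := dm 3 13285) dvd3 (by decide) d31 d32 (by decide +kernel) hc.1 hc.2.1 hc.2.2


theorem fd_D50 : FD F 5 0 := by
  apply fd_of_diag
  have hc := cert_D50
  have hd : dm 5 282817489141 = Matrix.diagonal fun i : Fin (5 + 0) => if i.1 < 5 then (1 : ZMod 3) else -1 := by
    decide +kernel
  rw [← hd]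
  refine fac_of_cert F (L' := dm 5 282817489141) dvd5 (by decide) d51 d52 (by decide +kernel) hc.1 hc.2.1 hc.2.2


theorem fd_D32 : FD F 3 2 := by
  apply fd_of_diag
  have hc := cert_D32
  have hd : dm 5 565634446111 = Matrix.diagonal fun i : Fin (3 + 2) => if i.1 < 3 then (1 : ZMod 3) else -1 := by
    decide +kernel
  rw [← hd]
  refine fac_of_cert F (L' := dm 5 565634446111) dvd5 (by decide) d51 d52 (by decide +kernel) hc.1 hc.2.1 hc.2.2


theorem fd_D70 : FD F 7 0 := by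
  apply fd_of_diag
  have hc := cert_D70
  have hd : dm 7 79778602595634228233767 = Matrix.diagonal fun i : Fin (7 + 0) => if i.1 < 7 then (1 : ZMod 3) else -1 := by
    decide +kernel
  rw [← hd]
  refine fac_of_cert F (L' := dm 7 79778602595634228233767) dvd7 (by decide) d71 d72 (by decide +kernel) hc.1 hc.2.1 hc.2.2


theorem fd_D52 : FD F 5 2 := by
  apply fd_of_diag
  have hc := cert_D52
  have hd : dm 7 159557203337965795025929 = Matrix.diagonal fun i : Fin (5 + 2) => if i.1 < 5 then (1 : ZMod 3) else -1 := by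
    decide +kernel
  rw [← hd]
  refine fac_of_cert F (L' := dm 7 159557203337965795025929) dvd7 (by decide) d71 d72 (by decide +kernel) hc.1 hc.2.1 hc.2.2


theorem fd_D34 : FD F 3 4 := by
  apply fd_of_diag
  have hc := cert_D34
  have hd : dm 7 159557205191268413414251 = Matrix.diagonal fun i : Fin (3 + 4) => if i.1 < 3 then (1 : ZMod 3) else -1 := by
    decide +kernel
  rw [← hd]
  refine fac_of_cert F (L' := dm 7 159557205191268413414251) dvd7 (by decide) d71 d72 (by decide +kernel) hc.1 hc.2.1 hc.2.2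


/-- `(x, y) ↦ (y, - x)` -/
def jj : (F × F) →ₗ[F] (F × F) := (LinearMap.snd F F F).prod (-LinearMap.fst F F F)

theorem fj : Fac (F1.map (ι3 F)) (F2.map (ι3 F)) kk ((jj F).prodMap (LinearMap.id : F →ₗ[F] F)) := by
  have hc := cert_J1
  have h := fac_of_cert F (L' := dm 3 6594) dvd3 (by decide) d31 d32 (by decide +kernel) hc.1 hc.2.1 hc.2.2
  let e : ((F × F) × F) ≃ₗ[F] (Fin 3 → F) :=
    { toFun := fun v => ![v.1.1, v.1.2, v.2]
      map_add' := fun v w => by ext i; fin_cases i <;> rfl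
      map_smul' := fun c v => by ext i; fin_cases i <;> rfl
      invFun := fun v => ((v 0, v 1), v 2)
      left_inv := fun v => rfl
      right_inv := fun v => by ext i; fin_cases i <;> rfl }
  refine h.conj e ?_
  rintro ⟨⟨x, y⟩, z⟩
  have hd : dm 3 6618 = !![0, 1, 0; 2, 0, 0; 0, 0, 1] := by decide +kernel
  have h2 : ι3 F 2 = -1 := by
    have : (2 : ZMod 3) = -1 := by decide
    rw [this, map_neg, map_one]
  rw [ψ3_apply, hd]
  change ![y, -x, z] = (Matrix.map !![0, 1, 0; 2, 0, 0; 0, 0, 1] (ι3 F)).mulVec ![x, y, z]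
  ext i
  fin_cases i
  · simp [Matrix.mulVec, dotProduct, Fin.sum_univ_three]
  · simp [Matrix.mulVec, dotProduct, Fin.sum_univ_three, h2]
  · simp only [Matrix.mulVec, dotProduct, Fin.sum_univ_three, _root_.Nat.succ_eq_add_one, _root_.Nat.reduceAdd, _root_.Fin.reduceFinMk, _root_.Matrix.cons_val, _root_.Matrix.map_apply, _root_.Fin.isValue, _root_.Matrix.of_apply, _root_.Matrix.cons_val', _root_.Matrix.cons_val_fin_one, _root_.Matrix.cons_val_one, _root_.Matrix.cons_val_zero, _root_.map_zero, _root_.MulZeroClass.zero_mul, _root_.add_zero, _root_.map_one, _root_.one_mul, _root_.zero_add]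

/-- all cases without minus signs -/
theorem fd_one (a : ℕ) (h3 : 3 ≤ a) (h4 : a ≠ 4) : FD F a 0 := by
  induction a using Nat.strong_induction_on with
  | _ a ih =>
  rcases (show a = 3 ∨ a = 5 ∨ a = 7 ∨ (6 ≤ a ∧ a ≠ 7) by omega) with rfl | rfl | rfl | ⟨h, h7⟩
  · exact fd_D30 F
  · exact fd_D50 F
  · exact fd_D70 F
  · have h1 := (ih (a - 3) (by omega) (by omega) (by omega)).add (fd_D30 F)
    have h2 : a - 3 + 3 = a := by omega
    rwa [h2] at h1

/-- **all cases** -/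
theorem fd_all (t : ℕ) : ∀ a : ℕ, t ≤ a → 3 ≤ a + 2 * t → a + 2 * t ≠ 4 → FD F a (2 * t) := by
  induction t with
  | zero => intro a _ h3 h4; exact fd_one F a (by omega) (by omega)
  | succ t ih =>
    intro a hta h3 h4
    rcases (show (a = 1 ∧ t = 0) ∨ (a = 3 ∧ t = 0) ∨ (a = 5 ∧ t = 0) ∨ (a = 3 ∧ t = 1) ∨
      (3 ≤ (a - 1) + 2 * t ∧ (a - 1) + 2 * t ≠ 4) by omega) with ⟨rfl, rfl⟩ | ⟨rfl, rfl⟩ | ⟨rfl, rfl⟩ | ⟨rfl, rfl⟩ | ⟨h5, h6⟩
    · exact fd_D12 F
    · exact fd_D32 F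
    · exact fd_D52 F
    · exact fd_D34 F
    · have h1 := (ih (a - 1) (by omega) h5 h6).add (fd_D12 F)
      have h2 : a - 1 + 1 = a := by omega
      have h7 : 2 * t + 2 = 2 * (t + 1) := by ring
      rwa [h2, h7] at h1

/-- **the mixed case** -/
theorem fj_all (t a : ℕ) (hta : t ≤ a) (h3 : 3 ≤ a + 2 * t) (h4 : a + 2 * t ≠ 4) :
    Fac (F1.map (ι3 F)) (F2.map (ι3 F)) kk ((jj F).prodMap (std F (a + 1) (2 * t))) := by
  have h := Fac.prod (fj F) (fd_all F t a hta h3 h4)
  let e1 : (Fin (a + 1) → F) ≃ₗ[F] F × (Fin a → F) := LinearEquiv.ofFinrankEq _ _ (by simp only [add_comm, _root_.Module.finrank_fintype_fun_eq_card, _root_.Fintype.card_fin, _root_.Module.finrank_prod, _root_.Module.finrank_self, _root_.Nat.add_left_cancel_iff])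
  let e : ((F × F) × ((Fin (a + 1) → F) × (Fin (2 * t) → F))) ≃ₗ[F]
      (((F × F) × F) × ((Fin a → F) × (Fin (2 * t) → F))) :=
    { toFun := fun v => ((v.1, (e1 v.2.1).1), ((e1 v.2.1).2, v.2.2))
      map_add' := fun v w => by
        simp only [Prod.fst_add, Prod.snd_add, map_add, Prod.mk_add_mk]
      map_smul' := fun c v => by
        simp only [Prod.smul_fst, Prod.smul_snd, map_smul, RingHom.id_apply, Prod.smul_mk]
      invFun := fun v => (v.1.1, (e1.symm (v.1.2, v.2.1), v.2.2))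
      left_inv := fun v => by
        simp only [Prod.mk.eta, LinearEquiv.symm_apply_apply]
      right_inv := fun v => by
        simp only [LinearEquiv.apply_symm_apply, Prod.mk.eta] }
  exact h.conj e (fun v => rfl)

end Cfsg.Agent.H649.PwSp
end
end

-- part: H649/PwSp/Mixed
section
/-!
# The mixed case: `g = 1` on `R`, `g = -1` on `S`, both of odd rank, characteristic three
-/

set_option autoImplicit false
open Polynomial

noncomputable section

namespace Cfsg.Agent.H649.PwSp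

open Cfsg.Agent.H144

variable {F V : Type*} [Field F] [AddCommGroup V] [Module F V] [FiniteDimensional F V]

/-- split off a hyperbolic pair -/
theorem split_pair {B : LinearMap.BilinForm F V} (hB : Alt B) {g : V ≃ₗ[F] V} {R : Submodule F V}
    (nR : Nd B R) (hI : _root_.Cfsg.Agent.H144.Inv g R) (h : C1On B g R) {a : ℕ} (hR : Module.finrank F R = 2 * (a + 1)) :
    ∃ P Q A D : Submodule F V, ∃ e ∈ P, ∃ f ∈ Q, B e f = 1 ∧ Orth B P P ∧ Orth B Q Q ∧ P ⊔ Q = R ∧
      A ≤ P ∧ D ≤ Q ∧ (∀ v ∈ A, B v f = 0) ∧ (∀ v ∈ D, B e v = 0) ∧ P ≤ A ⊔ Submodule.span F {e} ∧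
      Q ≤ D ⊔ Submodule.span F {f} ∧ Module.finrank F A = a := by
  have hC := dat_c1 hB nR hI hR h
  obtain ⟨P, C, Q, h1, h2, h3, h4, -, -, h7, h8⟩ := hC
  have hC0 : C = ⊥ := Submodule.finrank_eq_zero.1 h8
  subst hC0
  rw [sup_bot_eq] at h1 h3
  have hP0 : P ≠ ⊥ := by
    rintro rfl
    rw [finrank_bot] at h7
    omega
  obtain ⟨e, he, he0⟩ := Submodule.exists_mem_ne_zero_of_ne_bot hP0
  have hPR : P ≤ R := by rw [← h3]; exact le_sup_left
  obtain ⟨f₀, hf₀, hne⟩ : ∃ f ∈ Q, B e f ≠ 0 := by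
    by_contra hcon
    push Not at hcon
    apply he0
    apply nR e (hPR he)
    intro w hw
    rw [← h3] at hw
    obtain ⟨p, hp, q, hq, rfl⟩ := Submodule.mem_sup.1 hw
    rw [map_add, h1 e he p hp, hcon q hq, add_zero]
  set f : V := (B e f₀)⁻¹ • f₀ with hf
  have hfQ : f ∈ Q := Q.smul_mem _ hf₀
  have hef : B e f = 1 := by rw [hf, map_smul, smul_eq_mul, inv_mul_cancel₀ hne]
  clear_value f
  let A : Submodule F V := P ⊓ LinearMap.ker (B.flip f)
  let D : Submodule F V := Q ⊓ LinearMap.ker (B e)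
  have hA : ∀ {v}, v ∈ A ↔ v ∈ P ∧ B v f = 0 := fun {v} => Iff.rfl
  have hD : ∀ {v}, v ∈ D ↔ v ∈ Q ∧ B e v = 0 := fun {v} => Iff.rfl
  have hPA : P ≤ A ⊔ Submodule.span F {e} := by
    intro v hv
    rw [Submodule.mem_sup]
    refine ⟨v - B v f • e, hA.2 ⟨P.sub_mem hv (P.smul_mem _ he), ?_⟩, B v f • e,
      Submodule.smul_mem _ _ (Submodule.mem_span_singleton_self e), by abel⟩
    rw [map_sub, map_smul, LinearMap.sub_apply, LinearMap.smul_apply, hef, smul_eq_mul, mul_one, sub_self]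
  have hQD : Q ≤ D ⊔ Submodule.span F {f} := by
    intro v hv
    rw [Submodule.mem_sup]
    refine ⟨v - B e v • f, hD.2 ⟨Q.sub_mem hv (Q.smul_mem _ hfQ), ?_⟩, B e v • f,
      Submodule.smul_mem _ _ (Submodule.mem_span_singleton_self f), by abel⟩
    rw [map_sub, map_smul, hef, smul_eq_mul, mul_one, sub_self]
  have hdis : A ⊓ Submodule.span F {e} = ⊥ := by
    rw [Submodule.eq_bot_iff]
    rintro v ⟨hv, hv'⟩
    obtain ⟨c, rfl⟩ := Submodule.mem_span_singleton.1 hv'
    have h5 := (hA.1 hv).2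
    rw [map_smul, LinearMap.smul_apply, smul_eq_mul, hef, mul_one] at h5
    rw [h5, zero_smul]
  have hPe : A ⊔ Submodule.span F {e} = P :=
    le_antisymm (sup_le inf_le_left ((Submodule.span_singleton_le_iff_mem _ _).2 he)) hPA
  refine ⟨P, Q, A, D, e, he, f, hfQ, hef, h1, h2, h3, inf_le_left, inf_le_left, fun v hv => (hA.1 hv).2,
    fun v hv => (hD.1 hv).2, hPA, hQD, ?_⟩
  have e1 := Submodule.finrank_sup_add_finrank_inf_eq A (Submodule.span F {e})
  rw [hPe, hdis, finrank_bot, finrank_span_singleton he0, h7] at e1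
  omega

variable [Finite F]

/-- **The mixed case.** -/
theorem prB_mixed {B : LinearMap.BilinForm F V} (hB : Alt B) (hN : Nond B) (h3 : (3 : F) = 0) {N : ℕ}
    {g : V ≃ₗ[F] V} (hg : Iso B g) {R S : Submodule F V} (o : Orth B R S) (nR : Nd B R) (nS : Nd B S)
    (iR : _root_.Cfsg.Agent.H144.Inv g R) (iS : _root_.Cfsg.Agent.H144.Inv (ng g) S) (htop : R ⊔ S = ⊤) (gR : ∀ v ∈ R, g v = v) (gS : ∀ v ∈ S, g v = -v)
    (cR : C1On B g R) (cS : C1On B (ng g) S) {a b : ℕ} (hR : Module.finrank F R = 2 * (a + 1))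
    (hS : Module.finrank F S = 2 * (b + 1)) {f₁ f₂ : F[X]} (hcop : IsCoprime f₁ f₂) {k : ℕ} (hk : k.Coprime N)
    (hF : Fac f₁ f₂ k ((jj F).prodMap (std F a b))) : PrB B N g := by
  obtain ⟨P, Q, A, D, e, he, f, hf, hef, hP, hQ, hPQ, hAP, hDQ, hAf, hDe, hPA, hQD, hfA⟩ :=
    split_pair hB nR iR cR hR
  obtain ⟨P', Q', A', D', e', he', f', hf', hef', hP', hQ', hPQ', hAP', hDQ', hAf', hDe', hPA', hQD', hfA'⟩ :=
    split_pair hB nS iS cS hS
  have hPR : P ≤ R := by rw [← hPQ]; exact le_sup_left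
  have hQR : Q ≤ R := by rw [← hPQ]; exact le_sup_right
  have hPS : P' ≤ S := by rw [← hPQ']; exact le_sup_left
  have hQS : Q' ≤ S := by rw [← hPQ']; exact le_sup_right
  have oo : ∀ {x y : V}, x ∈ R → y ∈ S → B x y = 0 := fun hx hy => o _ hx _ hy
  have oo' : ∀ {x y : V}, x ∈ S → y ∈ R → B x y = 0 := fun hx hy => hB.zero (o _ hy _ hx)
  have h2 : (2 : F) ≠ 0 := by
    intro h0
    have : (1 : F) = 0 := by linear_combination h3 - h0
    exact one_ne_zero this
  let eA : (Fin a → F) ≃ₗ[F] A := LinearEquiv.ofFinrankEq _ _ (by simp only [hfA, _root_.Module.finrank_fintype_fun_eq_card, _root_.Fintype.card_fin])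
  let eC : (Fin b → F) ≃ₗ[F] A' := LinearEquiv.ofFinrankEq _ _ (by simp only [hfA', _root_.Module.finrank_fintype_fun_eq_card, _root_.Fintype.card_fin])
  set p₁ : V := e + e' with hp₁
  set p₂ : V := (e - e') + (f - f') with hp₂
  set q₁ : V := -(f + f') with hq₁
  set q₂ : V := -(e - e') + (f - f') with hq₂
  let φ : ((F × F) × ((Fin a → F) × (Fin b → F))) →ₗ[F] V :=
    { toFun := fun w => w.1.1 • p₁ + w.1.2 • p₂ + ((eA w.2.1 : V) + (eC w.2.2 : V))
      map_add' := fun v w => by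
        simp only [Prod.fst_add, Prod.snd_add, map_add, Submodule.coe_add, add_smul]
        abel
      map_smul' := fun c v => by
        simp only [Prod.smul_fst, Prod.smul_snd, map_smul, Submodule.coe_smul, RingHom.id_apply, smul_eq_mul]
        module }
  have hφ : ∀ w, φ w = w.1.1 • p₁ + w.1.2 • p₂ + ((eA w.2.1 : V) + (eC w.2.2 : V)) := fun w => rfl
  -- the table
  have eR : e ∈ R := hPR he
  have fR : f ∈ R := hQR hf
  have eS : e' ∈ S := hPS he'
  have fS : f' ∈ S := hQS hf'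
  have hfe : B f e = -1 := by rw [hB.neg, hef]
  have hfe' : B f' e' = -1 := by rw [hB.neg, hef']
  have t1 := oo eR eS
  have t2 := oo eR fS
  have t3 := oo fR eS
  have t4 := oo fR fS
  have t5 := oo' eS eR
  have t6 := oo' eS fR
  have t7 := oo' fS eR
  have t8 := oo' fS fR
  have tee := hB e
  have tff := hB f
  have tee' := hB e'
  have tff' := hB f'
  -- values on `A`, `A'`, `D`, `D'`
  have uA : ∀ x : Fin a → F, B (eA x : V) e = 0 ∧ B (eA x : V) f = 0 ∧ B (eA x : V) e' = 0 ∧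
      B (eA x : V) f' = 0 ∧ B e (eA x : V) = 0 ∧ B f (eA x : V) = 0 ∧ B e' (eA x : V) = 0 ∧
      B f' (eA x : V) = 0 := by
    intro x
    have h1 : (eA x : V) ∈ P := hAP (eA x).2
    have h5 := hP _ h1 e he
    have h6 := hAf _ (eA x).2
    exact ⟨h5, h6, oo (hPR h1) eS, oo (hPR h1) fS, hB.zero h5, hB.zero h6, oo' eS (hPR h1), oo' fS (hPR h1)⟩
  have uC : ∀ x : Fin b → F, B (eC x : V) e = 0 ∧ B (eC x : V) f = 0 ∧ B (eC x : V) e' = 0 ∧
      B (eC x : V) f' = 0 ∧ B e (eC x : V) = 0 ∧ B f (eC x : V) = 0 ∧ B e' (eC x : V) = 0 ∧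
      B f' (eC x : V) = 0 := by
    intro x
    have h1 : (eC x : V) ∈ P' := hAP' (eC x).2
    have h5 := hP' _ h1 e' he'
    have h6 := hAf' _ (eC x).2
    exact ⟨oo' (hPS h1) eR, oo' (hPS h1) fR, h5, h6, oo eR (hPS h1), oo fR (hPS h1), hB.zero h5, hB.zero h6⟩
  have uAA : ∀ x y : Fin a → F, B (eA x : V) (eA y : V) = 0 := fun x y => hP _ (hAP (eA x).2) _ (hAP (eA y).2)
  have uCC : ∀ x y : Fin b → F, B (eC x : V) (eC y : V) = 0 := fun x y => hP' _ (hAP' (eC x).2) _ (hAP' (eC y).2)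
  have uAC : ∀ (x : Fin a → F) (y : Fin b → F), B (eA x : V) (eC y : V) = 0 := fun x y =>
    oo (hPR (hAP (eA x).2)) (hPS (hAP' (eC y).2))
  have uCA : ∀ (x : Fin b → F) (y : Fin a → F), B (eC x : V) (eA y : V) = 0 := fun x y =>
    oo' (hPS (hAP' (eC x).2)) (hPR (hAP (eA y).2))
  have vD : ∀ x ∈ D, B x e = 0 ∧ B x f = 0 ∧ B x e' = 0 ∧ B x f' = 0 ∧ B e x = 0 ∧ B f x = 0 ∧
      B e' x = 0 ∧ B f' x = 0 := by
    intro x hx
    have h1 : x ∈ Q := hDQ hx
    have h5 := hDe x hx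
    have h6 := hQ _ h1 f hf
    exact ⟨hB.zero h5, h6, oo (hQR h1) eS, oo (hQR h1) fS, h5, hB.zero h6, oo' eS (hQR h1), oo' fS (hQR h1)⟩
  have vD' : ∀ x ∈ D', B x e = 0 ∧ B x f = 0 ∧ B x e' = 0 ∧ B x f' = 0 ∧ B e x = 0 ∧ B f x = 0 ∧
      B e' x = 0 ∧ B f' x = 0 := by
    intro x hx
    have h1 : x ∈ Q' := hDQ' hx
    have h5 := hDe' x hx
    have h6 := hQ' _ h1 f' hf'
    exact ⟨oo' (hQS h1) eR, oo' (hQS h1) fR, hB.zero h5, h6, oo eR (hQS h1), oo fR (hQS h1), h5, hB.zero h6⟩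
  refine prB_model hB hN hg (φ := φ) (Q := (D ⊔ D') ⊔ (Submodule.span F {q₁} ⊔ Submodule.span F {q₂}))
    ?_ ?_ ?_ ?_ ?_ hcop hk hF
  · -- injective
    rw [← LinearMap.ker_eq_bot, LinearMap.ker_eq_bot']
    rintro ⟨⟨x, y⟩, ⟨v, w⟩⟩ h0
    rw [hφ] at h0
    simp only at h0
    have k1 := congrArg (fun t => B t f) h0
    have k2 := congrArg (fun t => B t f') h0
    simp only [hp₁, hp₂, map_add, map_sub, map_smul, LinearMap.add_apply, LinearMap.sub_apply,
      LinearMap.smul_apply, smul_eq_mul, map_zero, LinearMap.zero_apply, hef, hef', t2, t6, t4, t8, tff, tff',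
      (uA v).2.1, (uA v).2.2.2.1, (uC w).2.1, (uC w).2.2.2.1] at k1 k2
    have hx : x = 0 := by
      have : (2 : F) * x = 0 := by linear_combination k1 + k2
      exact (mul_eq_zero.1 this).resolve_left h2
    have hy : y = 0 := by
      rw [hx] at k1
      linear_combination k1
    rw [hx, hy, zero_smul, zero_smul, zero_add, zero_add] at h0
    have hd : Disjoint R S := by
      rw [Submodule.disjoint_def]
      intro t ht ht'
      exact nR t ht (fun u hu => oo' ht' hu)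
    have e1 : (eA v : V) = 0 := Submodule.disjoint_def.1 hd _ (hPR (hAP (eA v).2)) (by
      rw [eq_neg_of_add_eq_zero_left h0]; exact S.neg_mem (hPS (hAP' (eC w).2)))
    rw [e1, zero_add] at h0
    have e2 : v = 0 := eA.map_eq_zero_iff.1 (Subtype.ext e1)
    have e3 : w = 0 := eC.map_eq_zero_iff.1 (Subtype.ext h0)
    rw [hx, hy, e2, e3]; rfl
  · -- isotropic image
    rintro ⟨⟨x, y⟩, ⟨v, w⟩⟩ ⟨⟨x', y'⟩, ⟨v', w'⟩⟩
    rw [hφ, hφ]
    obtain ⟨a1, a2, a3, a4, -, -, -, -⟩ := uA v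
    obtain ⟨b1, b2, b3, b4, -, -, -, -⟩ := uC w
    obtain ⟨-, -, -, -, a5, a6, a7, a8⟩ := uA v'
    obtain ⟨-, -, -, -, b5, b6, b7, b8⟩ := uC w'
    simp only [hp₁, hp₂, map_add, map_sub, map_smul, LinearMap.add_apply, LinearMap.sub_apply,
      LinearMap.smul_apply, smul_eq_mul, hef, hef', hfe, hfe', t1, t2, t3, t4, t5, t6, t7, t8, tee, tff, tee', tff',
      a1, a2, a3, a4, a5, a6, a7, a8, b1, b2, b3, b4, b5, b6, b7, b8, uAA, uCC, uAC, uCA]
    ring
  · -- isotropic `Q`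
    refine isotropic_sup hB ?_ ?_ ?_
    · exact isotropic_sup hB (fun x hx y hy => hQ x (hDQ hx) y (hDQ hy))
        (fun x hx y hy => hQ' x (hDQ' hx) y (hDQ' hy)) (fun x hx y hy => oo (hQR (hDQ hx)) (hQS (hDQ' hy)))
    · refine isotropic_sup hB ?_ ?_ ?_
      · intro x hx y hy
        obtain ⟨c, rfl⟩ := Submodule.mem_span_singleton.1 hx
        obtain ⟨d, rfl⟩ := Submodule.mem_span_singleton.1 hy
        rw [map_smul, map_smul, LinearMap.smul_apply, hB q₁, smul_zero, smul_zero]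
      · intro x hx y hy
        obtain ⟨c, rfl⟩ := Submodule.mem_span_singleton.1 hx
        obtain ⟨d, rfl⟩ := Submodule.mem_span_singleton.1 hy
        rw [map_smul, map_smul, LinearMap.smul_apply, hB q₂, smul_zero, smul_zero]
      · intro x hx y hy
        obtain ⟨c, rfl⟩ := Submodule.mem_span_singleton.1 hx
        obtain ⟨d, rfl⟩ := Submodule.mem_span_singleton.1 hy
        simp only [hq₁, hq₂, map_add, map_sub, map_neg, map_smul, LinearMap.add_apply, LinearMap.sub_apply,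
          LinearMap.neg_apply, LinearMap.smul_apply, smul_eq_mul, hef, hef', hfe, hfe', t1, t2, t3, t4, t5, t6,
          t7, t8, tee, tff, tee', tff']
        ring
    · have h5 : ∀ x : V, (B x e = 0 ∧ B x f = 0 ∧ B x e' = 0 ∧ B x f' = 0) →
          ∀ y ∈ Submodule.span F {q₁} ⊔ Submodule.span F {q₂}, B x y = 0 := by
        rintro x ⟨x1, x2, x3, x4⟩ y hy
        obtain ⟨y₁, hy₁, y₂, hy₂, rfl⟩ := Submodule.mem_sup.1 hy
        obtain ⟨c, rfl⟩ := Submodule.mem_span_singleton.1 hy₁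
        obtain ⟨d, rfl⟩ := Submodule.mem_span_singleton.1 hy₂
        simp only [hq₁, hq₂, map_add, map_sub, map_neg, map_smul, smul_eq_mul, x1, x2, x3, x4]
        ring
      intro x hx y hy
      obtain ⟨d, hd, d', hd', rfl⟩ := Submodule.mem_sup.1 hx
      rw [map_add, LinearMap.add_apply,
        h5 d ⟨(vD d hd).1, (vD d hd).2.1, (vD d hd).2.2.1, (vD d hd).2.2.2.1⟩ y hy,
        h5 d' ⟨(vD' d' hd').1, (vD' d' hd').2.1, (vD' d' hd').2.2.1, (vD' d' hd').2.2.2.1⟩ y hy, add_zero]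
  · -- everything
    set T : Submodule F V := LinearMap.range φ ⊔ ((D ⊔ D') ⊔ (Submodule.span F {q₁} ⊔ Submodule.span F {q₂}))
      with hT
    have m1 : p₁ ∈ T := Submodule.mem_sup_left ⟨((1, 0), (0, 0)), by rw [hφ]; simp⟩
    have m2 : p₂ ∈ T := Submodule.mem_sup_left ⟨((0, 1), (0, 0)), by rw [hφ]; simp only [_root_.zero_smul, _root_.one_smul, _root_.zero_add, _root_.map_zero, _root_.ZeroMemClass.coe_zero, _root_.add_zero]⟩
    have m3 : q₁ ∈ T := Submodule.mem_sup_right (Submodule.mem_sup_right (Submodule.mem_sup_left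
      (Submodule.mem_span_singleton_self _)))
    have m4 : q₂ ∈ T := Submodule.mem_sup_right (Submodule.mem_sup_right (Submodule.mem_sup_right
      (Submodule.mem_span_singleton_self _)))
    have m5 : A ≤ T := fun v hv => Submodule.mem_sup_left ⟨((0, 0), (eA.symm ⟨v, hv⟩, 0)), by rw [hφ]; simp⟩
    have m6 : A' ≤ T := fun v hv => Submodule.mem_sup_left ⟨((0, 0), (0, eC.symm ⟨v, hv⟩)), by rw [hφ]; simp⟩
    have m7 : D ≤ T := fun v hv => Submodule.mem_sup_right (Submodule.mem_sup_left (Submodule.mem_sup_left hv))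
    have m8 : D' ≤ T := fun v hv => Submodule.mem_sup_right (Submodule.mem_sup_left (Submodule.mem_sup_right hv))
    have z3 : ∀ v : V, (3 : F) • v = 0 := fun v => by rw [h3, zero_smul]
    have n1 : e ∈ T := by
      have : e = p₂ - p₁ - q₂ + (3 : F) • e' := by rw [hp₂, hp₁, hq₂]; module
      rw [this, z3, add_zero]
      exact T.sub_mem (T.sub_mem m2 m1) m4
    have n2 : e' ∈ T := by
      have : e' = p₁ - e := by rw [hp₁]; abel
      rw [this]
      exact T.sub_mem m1 n1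
    have n3 : f - f' ∈ T := by
      have : f - f' = p₂ - e + e' := by rw [hp₂]; abel
      rw [this]
      exact T.add_mem (T.sub_mem m2 n1) n2
    have n4 : f ∈ T := by
      have : f = q₁ - (f - f') + (3 : F) • f := by rw [hq₁]; module
      rw [this, z3, add_zero]
      exact T.sub_mem m3 n3
    have n5 : f' ∈ T := by
      have : f' = f - (f - f') := by abel
      rw [this]
      exact T.sub_mem n4 n3
    have s1 : ∀ {x : V}, x ∈ T → Submodule.span F {x} ≤ T := fun hx => (Submodule.span_singleton_le_iff_mem _ _).2 hx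
    rw [eq_top_iff, ← htop, ← hPQ, ← hPQ']
    exact sup_le (sup_le (hPA.trans (sup_le m5 (s1 n1))) (hQD.trans (sup_le m7 (s1 n4))))
      (sup_le (hPA'.trans (sup_le m6 (s1 n2))) (hQD'.trans (sup_le m8 (s1 n5))))
  · -- the compression
    rintro ⟨⟨x, y⟩, ⟨v, w⟩⟩
    have hge := gR e eR
    have hgf := gR f fR
    have hge' := gS e' eS
    have hgf' := gS f' fS
    have hgv := gR _ (hPR (hAP (eA v).2))
    have hgw := gS _ (hPS (hAP' (eC w).2))
    have hq1 : q₁ ∈ (D ⊔ D') ⊔ (Submodule.span F {q₁} ⊔ Submodule.span F {q₂}) :=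
      Submodule.mem_sup_right (Submodule.mem_sup_left (Submodule.mem_span_singleton_self _))
    have hq2 : q₂ ∈ (D ⊔ D') ⊔ (Submodule.span F {q₁} ⊔ Submodule.span F {q₂}) :=
      Submodule.mem_sup_right (Submodule.mem_sup_right (Submodule.mem_span_singleton_self _))
    have key : g (φ ((x, y), (v, w))) - φ ((jj F).prodMap (std F a b) ((x, y), (v, w))) =
        x • q₂ - y • q₁ + (3 : F) • (x • (e - e')) := by
      rw [hφ, hφ]
      change g (x • p₁ + y • p₂ + ((eA v : V) + (eC w : V))) -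
        (y • p₁ + (-x) • p₂ + ((eA v : V) + (eC (-w) : V))) = _
      simp only [hp₁, hp₂, hq₁, hq₂, map_add, map_sub, map_smul, hge, hgf, hge', hgf', hgv, hgw, map_neg,
        Submodule.coe_neg]
      module
    rw [key, h3, zero_smul, add_zero]
    exact Submodule.sub_mem _ (Submodule.smul_mem _ _ hq2) (Submodule.smul_mem _ _ hq1)

end Cfsg.Agent.H649.PwSp
end
end

-- part: H649/PwSp/Blk3
section
/-!
# The blocks `[[0, 1], [-1, 0]] ⊕ 1` of size 5 and 7
-/

set_option autoImplicit false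
set_option maxRecDepth 20000
open Polynomial

noncomputable section

namespace Cfsg.Agent.H649.PwSp

open Cfsg.Agent.H144 Cfsg.Agent.H934.MF


theorem cert_J13 : dm 5 806546627557 * dm 5 347042359576 = dm 5 282817488900 ∧ aeval (dm 5 806546627557) (toP l5) = 0 ∧
    aeval (dm 5 347042359576) (toP l5.reverse) = 0 :=
  cert_of (by decide +kernel)


theorem fjs3 (F : Type*) [Field F] [CharP F 3] :
    Fac (F1.map (ι3 F)) (F2.map (ι3 F)) kk ((jj F).prodMap (std F 3 0)) := by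
  have hc := cert_J13
  have h := fac_of_cert F (L' := dm 5 282817488660) dvd5 (by decide) d51 d52 (by decide +kernel) hc.1 hc.2.1 hc.2.2
  let e : ((F × F) × ((Fin 3 → F) × (Fin 0 → F))) ≃ₗ[F] (Fin 5 → F) :=
    { toFun := fun v => ![v.1.1, v.1.2, v.2.1 0, v.2.1 1, v.2.1 2]
      map_add' := fun v w => by ext i; fin_cases i <;> rfl
      map_smul' := fun c v => by ext i; fin_cases i <;> rfl
      invFun := fun v => ((v 0, v 1), (![v 2, v 3, v 4], 0))
      left_inv := fun v => by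
        obtain ⟨⟨x, y⟩, ⟨v, w⟩⟩ := v
        refine Prod.ext rfl (Prod.ext ?_ (Subsingleton.elim _ _))
        ext i; fin_cases i <;> rfl
      right_inv := fun v => by ext i; fin_cases i <;> rfl }
  refine h.conj e ?_
  rintro ⟨⟨x, y⟩, ⟨v, w⟩⟩
  have hd : dm 5 282817488900 = !![0, 1, 0, 0, 0; 2, 0, 0, 0, 0; 0, 0, 1, 0, 0; 0, 0, 0, 1, 0; 0, 0, 0, 0, 1] := by decide +kernel
  have h2 : ι3 F 2 = -1 := by
    have : (2 : ZMod 3) = -1 := by decide
    rw [this, map_neg, map_one]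
  rw [ψ3_apply, hd]
  change ![y, -x, v 0, v 1, v 2] = (Matrix.map !![0, 1, 0, 0, 0; 2, 0, 0, 0, 0; 0, 0, 1, 0, 0; 0, 0, 0, 1, 0; 0, 0, 0, 0, 1] (ι3 F)).mulVec ![x, y, v 0, v 1, v 2]
  ext i
  (revert i; simp only [Matrix.mulVec, dotProduct, Fin.sum_univ_succ, h2, _root_.Fin.forall_fin_succ, _root_.Nat.succ_eq_add_one, Nat.reduceAdd, Fin.isValue, _root_.Matrix.map_apply, _root_.Matrix.of_apply, _root_.Matrix.cons_val', _root_.Matrix.cons_val_fin_one, _root_.Matrix.cons_val_zero, _root_.Matrix.cons_val_succ, _root_.Finset.univ_unique, _root_.Fin.default_eq_zero, _root_.Finset.sum_const, _root_.Finset.card_singleton, _root_.one_smul, _root_.map_zero, _root_.MulZeroClass.zero_mul, _root_.map_one, _root_.one_mul, _root_.add_zero, _root_.zero_add, _root_.neg_mul, _root_.implies_true, _root_.and_self])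


theorem cert_J15 : dm 7 14669727728299744584454 * dm 7 86372794991396951036545 = dm 7 79778602595634228231582 ∧ aeval (dm 7 14669727728299744584454) (toP l7) = 0 ∧
    aeval (dm 7 86372794991396951036545) (toP l7.reverse) = 0 :=
  cert_of (by decide +kernel)


theorem fjs5 (F : Type*) [Field F] [CharP F 3] :
    Fac (F1.map (ι3 F)) (F2.map (ι3 F)) kk ((jj F).prodMap (std F 5 0)) := by
  have hc := cert_J15
  have h := fac_of_cert F (L' := dm 7 79778602595634228229398) dvd7 (by decide) d71 d72 (by decide +kernel) hc.1 hc.2.1 hc.2.2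
  let e : ((F × F) × ((Fin 5 → F) × (Fin 0 → F))) ≃ₗ[F] (Fin 7 → F) :=
    { toFun := fun v => ![v.1.1, v.1.2, v.2.1 0, v.2.1 1, v.2.1 2, v.2.1 3, v.2.1 4]
      map_add' := fun v w => by ext i; fin_cases i <;> rfl
      map_smul' := fun c v => by ext i; fin_cases i <;> rfl
      invFun := fun v => ((v 0, v 1), (![v 2, v 3, v 4, v 5, v 6], 0))
      left_inv := fun v => by
        obtain ⟨⟨x, y⟩, ⟨v, w⟩⟩ := v
        refine Prod.ext rfl (Prod.ext ?_ (Subsingleton.elim _ _))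
        ext i; fin_cases i <;> rfl
      right_inv := fun v => by ext i; fin_cases i <;> rfl }
  refine h.conj e ?_
  rintro ⟨⟨x, y⟩, ⟨v, w⟩⟩
  have hd : dm 7 79778602595634228231582 = !![0, 1, 0, 0, 0, 0, 0; 2, 0, 0, 0, 0, 0, 0; 0, 0, 1, 0, 0, 0, 0; 0, 0, 0, 1, 0, 0, 0; 0, 0, 0, 0, 1, 0, 0; 0, 0, 0, 0, 0, 1, 0; 0, 0, 0, 0, 0, 0, 1] := by decide +kernel
  have h2 : ι3 F 2 = -1 := by
    have : (2 : ZMod 3) = -1 := by decide
    rw [this, map_neg, map_one]
  rw [ψ3_apply, hd]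
  change ![y, -x, v 0, v 1, v 2, v 3, v 4] = (Matrix.map !![0, 1, 0, 0, 0, 0, 0; 2, 0, 0, 0, 0, 0, 0; 0, 0, 1, 0, 0, 0, 0; 0, 0, 0, 1, 0, 0, 0; 0, 0, 0, 0, 1, 0, 0; 0, 0, 0, 0, 0, 1, 0; 0, 0, 0, 0, 0, 0, 1] (ι3 F)).mulVec ![x, y, v 0, v 1, v 2, v 3, v 4]
  ext i
  (revert i; simp only [Matrix.mulVec, dotProduct, Fin.sum_univ_succ, h2, _root_.Fin.forall_fin_succ, _root_.Nat.succ_eq_add_one, Nat.reduceAdd, Fin.isValue, _root_.Matrix.map_apply, _root_.Matrix.of_apply, _root_.Matrix.cons_val', _root_.Matrix.cons_val_fin_one, _root_.Matrix.cons_val_zero, _root_.Matrix.cons_val_succ, _root_.Finset.univ_unique, _root_.Fin.default_eq_zero, _root_.Finset.sum_const, _root_.Finset.card_singleton, _root_.one_smul, _root_.map_zero, _root_.MulZeroClass.zero_mul, _root_.map_one, _root_.one_mul, _root_.add_zero, _root_.zero_add, _root_.neg_mul, _root_.implies_true, _root_.and_self])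


end Cfsg.Agent.H649.PwSp
end
end

-- part: H649/PwSp/Three
section
/-!
# Symplectic groups in characteristic three: `All 6` of `PSp_2n(3^k)`, `n ≥ 3`, `n ≠ 4`
-/

set_option autoImplicit false
open Polynomial

noncomputable section

namespace Cfsg.Agent.H649.PwSp

open Cfsg.Agent.H144

theorem ng_ng {F V : Type*} [Field F] [AddCommGroup V] [Module F V] (g : V ≃ₗ[F] V) : ng (ng g) = g := by
  ext v
  rw [ng_apply, ng_apply, neg_neg]

theorem inv_ng {F V : Type*} [Field F] [AddCommGroup V] [Module F V] {g : V ≃ₗ[F] V} {P : Submodule F V}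
    (h : _root_.Cfsg.Agent.H144.Inv g P) : _root_.Cfsg.Agent.H144.Inv (ng g) P := fun v hv => by
  rw [ng_apply]; exact P.neg_mem (h v hv)

variable {F V : Type*} [Field F] [Finite F] [CharP F 3] [AddCommGroup V] [Module F V] [FiniteDimensional F V]

theorem cop_map (F : Type*) [Field F] [CharP F 3] : IsCoprime (F1.map (ι3 F)) (F2.map (ι3 F)) :=
  cop12.map (mapRingHom (ι3 F))

omit [Finite F] in
theorem rank_of_c1 {B : LinearMap.BilinForm F V} (hB : Alt B) {g : V ≃ₗ[F] V} {R : Submodule F V}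
    (hR : Nd B R) (hI : _root_.Cfsg.Agent.H144.Inv g R) (h : C1On B g R) : ∃ a, Module.finrank F R = 2 * a := by
  obtain ⟨W, W', h3, h4, h5, h6⟩ := c1_of_c1On hI h
  exact ⟨_, finrank_two (restrict_alt hB R) (restrict_nond hR) h3 h4 h5⟩

theorem three_core {B : LinearMap.BilinForm F V} (hB : Alt B) (hN : Nond B) {n : ℕ} (hn3 : 3 ≤ n) (hn4 : n ≠ 4)
    {g : V ≃ₗ[F] V} (hg : Iso B g) {R S : Submodule F V} (o : Orth B R S) (iR : _root_.Cfsg.Agent.H144.Inv g R) (iS : _root_.Cfsg.Agent.H144.Inv g S)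
    (nR : Nd B R) (nS : Nd B S) (htop : R ⊔ S = ⊤) (cR : C1On B g R) (cS : C1On B (ng g) S) {a b : ℕ}
    (ha : Module.finrank F R = 2 * a) (hb : Module.finrank F S = 2 * b) (hab : a + b = n) (hba : b ≤ a) :
    PrB B 6 g ∨ PrB B 6 (ng g) := by
  have h3 : (3 : F) = 0 := by exact_mod_cast CharP.cast_eq_zero F 3
  have h2 : (2 : F) ≠ 0 := by
    intro h0
    have : (1 : F) = 0 := by linear_combination h3 - h0
    exact one_ne_zero this
  have hd : Disjoint R S := by
    rw [Submodule.disjoint_def]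
    intro t ht ht'
    exact nR t ht (fun u hu => hB.zero (o u hu t ht'))
  have iS' := inv_ng iS
  have dS : DatOn B g S 0 b := by
    have := (dat_c1 hB nS iS' hb cS).neg
    rwa [ng_ng] at this
  have dR : DatOn B g R a 0 := dat_c1 hB nR iR ha cR
  -- from data to the conclusion
  have fin1 : ∀ t a' : ℕ, t ≤ a' → a' + 2 * t = n → DatOn B g ⊤ a' (2 * t) → PrB B 6 g := by
    intro t a' hta hn hdat
    exact prB_dat hB hN hg hdat (cop_map F) kk_cop (fd_all F t a' hta (by omega) (by omega))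
  rcases Nat.even_or_odd' b with ⟨t, hbt | hbt⟩
  · left
    have h1 := DatOn.sup hB o hd dR dS
    rw [htop, add_zero, zero_add, hbt] at h1
    exact fin1 t a (by omega) (by omega) h1
  by_cases hcR : ∃ v ∈ R, g v ≠ v
  · left
    have h1 := DatOn.sup hB o hd (dat_refl hB h2 hg nR iR ha cR hcR) dS
    rw [htop, add_zero] at h1
    exact fin1 (t + 1) (a - 1) (by omega) (by (clear * - hab hba hbt; omega)) (by
      have : 1 + b = 2 * (t + 1) := by omega
      rwa [this] at h1)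
  by_cases hcS : ∃ v ∈ S, ng g v ≠ v
  · left
    have h0 := (dat_refl hB h2 (ng_iso hg) nS iS' hb cS hcS).neg
    rw [ng_ng] at h0
    have h1 := DatOn.sup hB o hd dR h0
    rw [htop, zero_add] at h1
    exact fin1 t (a + 1) (by omega) (by omega) (by
      have : b - 1 = 2 * t := by omega
      rwa [this] at h1)
  push Not at hcR hcS
  have gS : ∀ v ∈ S, g v = -v := by
    intro v hv
    have := hcS v hv
    rw [ng_apply] at this
    rw [← this, neg_neg, this]
  have mixed : ∀ a' b' : ℕ, a = a' + 1 → b = b' + 1 →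
      Fac (F1.map (ι3 F)) (F2.map (ι3 F)) kk ((jj F).prodMap (std F a' b')) → PrB B 6 g := by
    intro a' b' ha' hb' hF
    exact prB_mixed hB hN h3 hg o nR nS iR iS' htop hcR gS cR cS (by rw [ha, ha']) (by rw [hb, hb'])
      (cop_map F) kk_cop hF
  -- the opposite sign
  have opp : ∀ s : ℕ, a = 2 * s → s ≤ b → PrB B 6 (ng g) := by
    intro s hs hsb
    have h1 := (DatOn.sup hB o hd dR dS).neg
    rw [htop, add_zero, zero_add, hs] at h1
    exact prB_dat hB hN (ng_iso hg) h1 (cop_map F) kk_cop (fd_all F s b hsb (by omega) (by omega))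
  rcases (show (a = 2 ∧ b = 1) ∨ (a = 4 ∧ b = 1) ∨ (a = 6 ∧ b = 1) ∨ (a = 4 ∧ b = 3) ∨ (6 ≤ n ∧ n ≠ 7) by (clear * - hn3 hn4 hab hba hbt; omega))
    with ⟨h5, h6⟩ | ⟨h5, h6⟩ | ⟨h5, h6⟩ | ⟨h5, h6⟩ | ⟨h5, h6⟩
  · exact Or.inr (opp 1 (by omega) (by omega))
  · exact Or.inl (mixed 3 0 (by omega) (by omega) (fjs3 F))
  · exact Or.inl (mixed 5 0 (by omega) (by omega) (fjs5 F))
  · exact Or.inr (opp 2 (by omega) (by omega))
  · left
    refine mixed (a - 2 + 1) (2 * t) (by omega) (by omega) (fj_all F t (a - 2) (by omega) (by omega) (by omega))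

/-- **Characteristic three.** -/
theorem prB_three {B : LinearMap.BilinForm F V} (hB : Alt B) (hN : Nond B) {n : ℕ}
    (hV : Module.finrank F V = 2 * n) (hn3 : 3 ≤ n) (hn4 : n ≠ 4) {g : V ≃ₗ[F] V} (hg : Iso B g) :
    PrB B 6 g ∨ PrB B 6 (ng g) := by
  obtain ⟨R, S, o, iR, iS, nR, nS, htop, cR, cS⟩ :=
    exists_dec2 hB hg (Module.finrank F (⊤ : Submodule F V)) ⊤ (fun v _ => trivial)
      (fun v _ h => hN v (fun w => h w trivial)) rfl
  obtain ⟨a, ha⟩ := rank_of_c1 hB nR iR cR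
  obtain ⟨b, hb⟩ := rank_of_c1 hB nS (inv_ng iS) cS
  have hd : R ⊓ S = ⊥ := by
    rw [Submodule.eq_bot_iff]
    rintro t ⟨ht, ht'⟩
    exact nR t ht (fun u hu => hB.zero (o u hu t ht'))
  have hab : a + b = n := by
    have h1 := Submodule.finrank_sup_add_finrank_inf_eq R S
    rw [htop, hd, finrank_top, finrank_bot, hV, ha, hb] at h1
    omega
  rcases le_total b a with hba | hba
  · exact three_core hB hN hn3 hn4 hg o iR iS nR nS htop cR cS ha hb hab hba
  · have h1 := three_core hB hN hn3 hn4 (ng_iso hg) (o.symm hB) (inv_ng iS) (inv_ng iR) nS nR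
      (by rw [sup_comm]; exact htop) cS (by rw [ng_ng]; exact cR) hb ha (by omega) hba
    rw [ng_ng] at h1
    exact h1.symm

/-- `-g` -/
def mneg {F : Type*} [Field F] {m : ℕ} (g : Matrix.symplecticGroup (Fin m) F) :
    Matrix.symplecticGroup (Fin m) F := ⟨-g.1, SymplecticGroup.neg_mem g.2⟩

theorem pr_mk {F : Type*} [Field F] {m N : ℕ} {g : Matrix.symplecticGroup (Fin m) F}
    (h : PrB (Cfsg.Agent.S2445.form F m) N (ng (Cfsg.Agent.S2445.act g))) : H78.Pw.Pr N (mneg g) := by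
  apply pr_of_prB
  have : Cfsg.Agent.S2445.act (mneg g) = ng (Cfsg.Agent.S2445.act g) := by
    apply LinearEquiv.ext
    intro v
    rw [Cfsg.Agent.S2445.act_apply, ng_apply, Cfsg.Agent.S2445.act_apply]
    exact Matrix.neg_mulVec _ _
  rw [this]
  exact h

theorem neg_mk {F : Type*} [Field F] (m : ℕ) (g : Matrix.symplecticGroup (Fin m) F) :
    (QuotientGroup.mk' (Subgroup.center (Matrix.symplecticGroup (Fin m) F))) (mneg g) =
      (QuotientGroup.mk' (Subgroup.center (Matrix.symplecticGroup (Fin m) F))) g := by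
  rw [QuotientGroup.mk'_apply, QuotientGroup.mk'_apply, QuotientGroup.eq, Subgroup.mem_center_iff]
  intro h
  have e1 : (mneg g)⁻¹ * g = mneg 1 := by
    rw [inv_mul_eq_iff_eq_mul]
    apply Subtype.ext
    change g.1 = (-g.1) * (-1)
    rw [neg_mul_neg, mul_one]
  rw [e1]
  apply Subtype.ext
  change h.1 * (-1) = (-1) * h.1
  rw [mul_neg_one, neg_one_mul]

/-- **`PSp_2m(3^k)`: products of two elements of order prime to `6`**, `m ≥ 3`, `m ≠ 4` -/
theorem six_psp_three {F : Type*} [Field F] [Fintype F] [CharP F 3] (m : ℕ) (h3 : 3 ≤ m) (h4 : m ≠ 4) :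
    H78.Pw.All 6 (PSp m F) := by
  intro x
  obtain ⟨g, rfl⟩ := QuotientGroup.mk'_surjective _ x
  have hV : Module.finrank F (Fin m ⊕ Fin m → F) = 2 * m := by
    rw [Module.finrank_fintype_fun_eq_card, Fintype.card_sum, Fintype.card_fin]
    ring
  rcases prB_three Cfsg.Agent.S2445.form_alt Cfsg.Agent.S2445.form_nond hV h3 h4
    (Cfsg.Agent.S2445.act_iso g) with h | h
  · exact (pr_of_prB h).map _
  · have := (pr_mk h).map (QuotientGroup.mk' (Subgroup.center (Matrix.symplecticGroup (Fin m) F)))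
    rwa [neg_mk] at this

end Cfsg.Agent.H649.PwSp
end
end

private theorem dce_4377ec0096b7 : _root_.True := by
  try have : _root_.True := by simp only [_root_.Cfsg.Agent.H649.PwSp.ι3.congr_simp]
  try have : _root_.True := by simp only [_root_.Cfsg.Agent.H649.PwSp.F2.eq_1]
  try have : _root_.True := by simp only [_root_.Cfsg.Agent.H649.PwSp.std.eq_1]
  try have : _root_.True := by simp only [_root_.Cfsg.Agent.H649.PwSp.F1.eq_1]
  exact _root_.True.intro
end

-- part: H143/Pw/Cor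
section
prune_inst 0x4070041ee002000018809663201c76ea000422004b8c00ace00b020fc0ae62c9c32e61bdf025175ab21cc568310068111000800220000000200400011b008000800006b148010842009e000000000000000000300000000000000000000004000000000
set_option linter.all false
open scoped Cfsg.Agent.FastGrp

-- part: H143/Pw/Lin
section
/-!
Linear algebra for the corner (S2465, exceptional rows over the fields of two and three elements).

* `exists_pair` : an endomorphism `N` of a space of dimension at least four such that `N - λ` has rank at least two for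
  all `λ` has two vectors `w₁`, `w₂` with `w₁, w₂, N w₁, N w₂` linearly independent;
* `exists_SL` : a linearly independent family is the image of the first basis vectors under a matrix of determinant one.
-/

set_option autoImplicit false

namespace Cfsg.Agent.H143.Pw.Lin

open Module

universe u v

section

variable {F : Type u} [Field F] {V : Type v} [AddCommGroup V] [Module F V]

theorem exists_not_mem_two {A B : Submodule F V} (hA : A ≠ ⊤) (hB : B ≠ ⊤) : ∃ x, x ∉ A ∧ x ∉ B := by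
  by_contra hcon
  push Not at hcon
  have hA' : ∃ a, a ∉ A := by
    by_contra h
    push Not at h
    exact hA (eq_top_iff.2 fun x _ => h x)
  have hB' : ∃ b, b ∉ B := by
    by_contra h
    push Not at h
    exact hB (eq_top_iff.2 fun x _ => h x)
  obtain ⟨a, ha⟩ := hA'
  obtain ⟨b, hb⟩ := hB'
  have hab := hcon a ha
  have hbA : b ∈ A := by
    by_contra h
    exact hb (hcon b h)
  have h1 : a + b ∉ A := fun h => ha (by simpa using A.sub_mem h hbA)
  have h2 := hcon _ h1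
  exact hb (by simpa using B.sub_mem h2 hab)

variable [FiniteDimensional F V]

theorem exists_pair (N : V →ₗ[F] V) (hd : 4 ≤ finrank F V)
    (h : ∀ c : F, 2 ≤ finrank F (LinearMap.range (N - c • LinearMap.id))) :
    ∃ w₁ w₂ : V, LinearIndependent F ![w₁, w₂, N w₁, N w₂] := by
  -- a non-eigenvector
  have h1 : ∃ w₁ : V, LinearIndependent F ![w₁, N w₁] := by
    by_contra hcon
    push Not at hcon
    obtain ⟨c, hc⟩ := LinearMap.exists_eq_smul_id_of_forall_notLinearIndependent hcon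
    have := h c
    have h0 : N - c • LinearMap.id = 0 := by rw [hc]; exact sub_self _
    rw [h0, LinearMap.range_zero, finrank_bot] at this
    omega
  obtain ⟨w₁, hw₁⟩ := h1
  set E : Submodule F V := Submodule.span F {w₁, N w₁} with hE
  have hE2 : finrank F E = 2 := by
    have h2 := finrank_span_eq_card hw₁
    have h3 : Set.range ![w₁, N w₁] = {w₁, N w₁} := by
      ext x
      simp only [Matrix.range_cons, Matrix.range_empty, Set.union_empty, Set.mem_union, Set.mem_singleton_iff,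
        Set.mem_insert_iff]
    rw [h3] at h2
    simpa [hE] using h2
  by_cases hgen : ∃ w₂, LinearIndependent F ![E.mkQ w₂, E.mkQ (N w₂)]
  · obtain ⟨w₂, hw₂⟩ := hgen
    refine ⟨w₁, w₂, ?_⟩
    rw [Fintype.linearIndependent_iff] at hw₂ ⊢
    intro g hg
    rw [Fin.sum_univ_four] at hg
    simp only [Matrix.cons_val_zero, Matrix.cons_val_one, Matrix.cons_val] at hg
    have e1 := congrArg E.mkQ hg
    have m1 : E.mkQ w₁ = 0 := by
      rw [Submodule.mkQ_apply, Submodule.Quotient.mk_eq_zero]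
      exact Submodule.subset_span (by simp)
    have m2 : E.mkQ (N w₁) = 0 := by
      rw [Submodule.mkQ_apply, Submodule.Quotient.mk_eq_zero]
      exact Submodule.subset_span (by simp)
    rw [map_add, map_add, map_add, map_smul, map_smul, map_smul, map_smul, m1, m2, map_zero, smul_zero, smul_zero,
      zero_add, add_zero] at e1
    have h4 := hw₂ ![g 1, g 3] (by rw [Fin.sum_univ_two]; simpa using e1)
    have g1 : g 1 = 0 := h4 0
    have g3 : g 3 = 0 := h4 1
    rw [g1, g3, zero_smul, zero_smul, add_zero, add_zero] at hg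
    rw [Fintype.linearIndependent_iff] at hw₁
    have h5 := hw₁ ![g 0, g 2] (by rw [Fin.sum_univ_two]; simpa using hg)
    have g0 : g 0 = 0 := h5 0
    have g2 : g 2 = 0 := h5 1
    intro i
    fin_cases i
    · exact g0
    · exact g1
    · exact g2
    · exact g3
  · push Not at hgen
    -- `N` is `c` plus a map to `E`
    have key : ∃ c : F, ∀ x, E.mkQ (N x) = c • E.mkQ x := by
      have hq : 2 ≤ finrank F (V ⧸ E) := by
        have := Submodule.finrank_quotient_add_finrank E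
        omega
      have hEinv : ∀ e ∈ E, E.mkQ (N e) = 0 := by
        intro e he
        -- a vector outside `E` and outside a line
        by_contra hne
        have hq1 : ∃ x : V ⧸ E, x ∉ Submodule.span F {E.mkQ (N e)} := by
          by_contra hc
          push Not at hc
          have h2 : Submodule.span F {E.mkQ (N e)} = ⊤ := eq_top_iff.2 fun x _ => hc x
          have h3 := finrank_span_singleton (K := F) hne
          rw [h2, finrank_top] at h3
          omega
        obtain ⟨x, hx⟩ := hq1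
        obtain ⟨w, rfl⟩ := E.mkQ_surjective x
        have hw0 : E.mkQ w ≠ 0 := fun h0 => hx (by rw [h0]; exact zero_mem _)
        have a1 : ∃ c : F, E.mkQ (N w) = c • E.mkQ w := by
          have h2 := hgen w
          rw [LinearIndependent.pair_iff] at h2
          push Not at h2
          obtain ⟨s, t, hst, hne0⟩ := h2
          have ht : t ≠ 0 := by
            rintro rfl
            rw [zero_smul, add_zero] at hst
            rcases smul_eq_zero.1 hst with h3 | h3
            · exact hne0 h3 rfl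
            · exact hw0 h3
          refine ⟨-(t⁻¹ * s), ?_⟩
          have h3 : t • E.mkQ (N w) = -(s • E.mkQ w) := by rw [eq_neg_iff_add_eq_zero, add_comm]; exact hst
          calc E.mkQ (N w) = t⁻¹ • t • E.mkQ (N w) := by rw [smul_smul, inv_mul_cancel₀ ht, one_smul]
            _ = _ := by rw [h3, smul_neg, smul_smul, neg_smul]
        have a2 : ∃ c : F, E.mkQ (N (w + e)) = c • E.mkQ w := by
          have h2 := hgen (w + e)
          have he0 : E.mkQ e = 0 := by
            rw [Submodule.mkQ_apply, Submodule.Quotient.mk_eq_zero]; exact he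
          have hwe : E.mkQ (w + e) = E.mkQ w := by rw [map_add, he0, add_zero]
          rw [hwe, LinearIndependent.pair_iff] at h2
          push Not at h2
          obtain ⟨s, t, hst, hne0⟩ := h2
          have ht : t ≠ 0 := by
            rintro rfl
            rw [zero_smul, add_zero] at hst
            rcases smul_eq_zero.1 hst with h3 | h3
            · exact hne0 h3 rfl
            · exact hw0 h3
          refine ⟨-(t⁻¹ * s), ?_⟩
          have h3 : t • E.mkQ (N (w + e)) = -(s • E.mkQ w) := by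
            rw [eq_neg_iff_add_eq_zero, add_comm]; exact hst
          calc E.mkQ (N (w + e)) = t⁻¹ • t • E.mkQ (N (w + e)) := by rw [smul_smul, inv_mul_cancel₀ ht, one_smul]
            _ = _ := by rw [h3, smul_neg, smul_smul, neg_smul]
        obtain ⟨c₁, h1⟩ := a1
        obtain ⟨c₂, h2⟩ := a2
        rw [map_add, map_add, h1] at h2
        have h3 : E.mkQ (N e) = (c₂ - c₁) • E.mkQ w := by
          rw [sub_smul, ← h2, add_sub_cancel_left]
        have hc : c₂ - c₁ ≠ 0 := by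
          intro h0
          rw [h0, zero_smul] at h3
          exact hne h3
        refine hx ?_
        rw [h3]
        have : E.mkQ w = (c₂ - c₁)⁻¹ • (c₂ - c₁) • E.mkQ w := by
          rw [smul_smul, inv_mul_cancel₀ hc, one_smul]
        rw [this]
        refine Submodule.smul_mem _ _ ?_
        rw [← this]
        exact Submodule.mem_span_singleton_self _
      let Nb : (V ⧸ E) →ₗ[F] (V ⧸ E) := E.mapQ E N (fun e he => by
        have := hEinv e he
        rwa [Submodule.mkQ_apply, Submodule.Quotient.mk_eq_zero] at this)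
      have hNb : ∀ x, Nb (E.mkQ x) = E.mkQ (N x) := fun x => rfl
      have h2 : ∀ x : V ⧸ E, ¬ LinearIndependent F ![x, Nb x] := by
        intro x
        obtain ⟨w, rfl⟩ := E.mkQ_surjective x
        rw [hNb]
        exact hgen w
      obtain ⟨c, hc⟩ := LinearMap.exists_eq_smul_id_of_forall_notLinearIndependent h2
      exact ⟨c, fun x => by rw [← hNb, hc]; rfl⟩
    obtain ⟨c, hc⟩ := key
    set R : V →ₗ[F] V := N - c • LinearMap.id with hR
    have hRx : ∀ x, R x = N x - c • x := fun x => rfl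
    have hRE : LinearMap.range R ≤ E := by
      rintro _ ⟨x, rfl⟩
      rw [hRx, ← Submodule.Quotient.mk_eq_zero, ← Submodule.mkQ_apply, map_sub, hc, map_smul, sub_self]
    have hR2 : finrank F (LinearMap.range R) = 2 := by
      have h2 := Submodule.finrank_mono hRE
      have h3 := h c
      rw [hE2] at h2
      exact le_antisymm h2 h3
    have hker := LinearMap.finrank_range_add_finrank_ker R
    -- first vector
    have hk : LinearMap.ker R ≠ ⊤ := by
      intro h2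
      rw [h2, finrank_top] at hker
      omega
    have hr : LinearMap.range R ≠ ⊤ := by
      intro h2
      rw [h2, finrank_top] at hR2
      omega
    obtain ⟨u₁, hu1, hu1'⟩ := exists_not_mem_two hk hr
    have hk2 : LinearMap.ker R ⊔ Submodule.span F {u₁} ≠ ⊤ := by
      intro h2
      have h3 := Submodule.finrank_add_le_finrank_add_finrank (LinearMap.ker R) (Submodule.span F {u₁})
      rw [h2, finrank_top] at h3
      have h4 := finrank_span_le_card (R := F) ({u₁} : Set V)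
      simp at h4
      omega
    have hr2 : LinearMap.range R ⊔ Submodule.span F {u₁} ≠ ⊤ := by
      intro h2
      have h3 := Submodule.finrank_add_le_finrank_add_finrank (LinearMap.range R) (Submodule.span F {u₁})
      rw [h2, finrank_top] at h3
      have h4 := finrank_span_le_card (R := F) ({u₁} : Set V)
      simp at h4
      omega
    obtain ⟨u₂, hu2, hu2'⟩ := exists_not_mem_two hk2 hr2
    have hsep : ∀ A : Submodule F V, u₁ ∉ A → u₂ ∉ A ⊔ Submodule.span F {u₁} → ∀ a b : F, a • u₁ + b • u₂ ∈ A →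
        a = 0 ∧ b = 0 := by
      intro A hA1 hA2 a b hab
      have hb : b = 0 := by
        by_contra hb
        refine hA2 ?_
        have e : u₂ = b⁻¹ • (a • u₁ + b • u₂) + -(b⁻¹ * a) • u₁ := by
          rw [smul_add, smul_smul, smul_smul, inv_mul_cancel₀ hb, one_smul, neg_smul]
          abel
        rw [e]
        exact Submodule.add_mem_sup (A.smul_mem _ hab) (Submodule.smul_mem _ _ (Submodule.mem_span_singleton_self _))
      refine ⟨?_, hb⟩
      by_contra ha
      rw [hb, zero_smul, add_zero] at hab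
      have := A.smul_mem a⁻¹ hab
      rw [smul_smul, inv_mul_cancel₀ ha, one_smul] at this
      exact hA1 this
    refine ⟨u₁, u₂, ?_⟩
    rw [Fintype.linearIndependent_iff]
    intro g hg
    rw [Fin.sum_univ_four] at hg
    simp only [Matrix.cons_val_zero, Matrix.cons_val_one, Matrix.cons_val] at hg
    have hN : ∀ x, N x = R x + c • x := fun x => by rw [hRx, sub_add_cancel]
    rw [hN, hN] at hg
    have e1 : (g 0 + g 2 * c) • u₁ + (g 1 + g 3 * c) • u₂ = R (-(g 2 • u₁ + g 3 • u₂)) := by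
      rw [map_neg, map_add, map_smul, map_smul, eq_neg_iff_add_eq_zero, ← hg, add_smul, add_smul, mul_smul, mul_smul,
        smul_add, smul_add]
      abel
    obtain ⟨f0, f1⟩ := hsep _ hu1' hu2' (g 0 + g 2 * c) (g 1 + g 3 * c) (by rw [e1]; exact ⟨_, rfl⟩)
    rw [f0, f1, zero_smul, zero_smul, add_zero] at e1
    obtain ⟨g2, g3⟩ := hsep _ hu1 hu2 (g 2) (g 3) (by
      rw [LinearMap.mem_ker]
      have := e1.symm
      rw [map_neg, neg_eq_zero] at this
      exact this)
    rw [g2, zero_mul, add_zero] at f0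
    rw [g3, zero_mul, add_zero] at f1
    intro i
    fin_cases i
    · exact f0
    · exact f1
    · exact g2
    · exact g3

end

section

variable {F : Type u} [Field F]

theorem exists_basis_ext {V : Type*} [AddCommGroup V] [Module F V] [Module.Finite F V] {k m : ℕ}
    (hkm : k + m = finrank F V) (b : Fin k → V) (hb : LinearIndependent F b) :
    ∃ B : Basis (Fin k ⊕ Fin m) F V, ∀ i, B (Sum.inl i) = b i := by
  obtain ⟨W', hW'⟩ := Submodule.exists_isCompl (Submodule.span F (Set.range b))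
  have h1 : finrank F (Submodule.span F (Set.range b)) = k := by
    rw [finrank_span_eq_card hb, Fintype.card_fin]
  have h2 := Submodule.finrank_add_eq_of_isCompl hW'
  have h3 : finrank F W' = m := by omega
  refine ⟨((Basis.span hb).prod (Module.finBasisOfFinrankEq F W' h3)).map
    (Submodule.prodEquivOfIsCompl _ W' hW'), fun i => ?_⟩
  rw [Basis.map_apply, Submodule.coe_prodEquivOfIsCompl', Basis.prod_apply_inl_fst, Basis.prod_apply_inl_snd,
    Basis.span_apply]
  simp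

/-- a linearly independent family is the image of the first basis vectors under a matrix of determinant one -/
theorem exists_SL {k d : ℕ} {w : Fin k → (Fin (k + (d + 1)) → F)} (hw : LinearIndependent F w) :
    ∃ P : Matrix.SpecialLinearGroup (Fin (k + (d + 1))) F,
      ∀ (i : Fin k) (j : Fin (k + (d + 1))), P.1 j (Fin.castAdd (d + 1) i) = w i j := by
  obtain ⟨B, hB⟩ := exists_basis_ext (m := d + 1) (by simp) w hw
  let B' : Basis (Fin (k + (d + 1))) F (Fin (k + (d + 1)) → F) := B.reindex finSumFinEquiv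
  have hB' : ∀ i, B' (Fin.castAdd (d + 1) i) = w i := fun i => by
    rw [Basis.reindex_apply, finSumFinEquiv_symm_apply_castAdd, hB]
  let Q : Matrix (Fin (k + (d + 1))) (Fin (k + (d + 1))) F := Matrix.of fun j i => B' i j
  have hQ : Q = (Pi.basisFun F _).toMatrix B' := by
    ext i j
    simp [Q, Basis.toMatrix_apply]
  have hdet : Q.det ≠ 0 := by
    intro h0
    have h1 := Basis.toMatrix_mul_toMatrix_flip (Pi.basisFun F (Fin (k + (d + 1)))) B'
    have h2 := congrArg Matrix.det h1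
    rw [Matrix.det_mul, ← hQ, h0, zero_mul, Matrix.det_one] at h2
    exact zero_ne_one h2
  refine ⟨⟨Q.updateCol (Fin.last (k + d)) (Q.det⁻¹ • Q.col (Fin.last (k + d))), ?_⟩, fun i j => ?_⟩
  · rw [Matrix.det_updateCol_smul]
    have : Q.updateCol (Fin.last (k + d)) (Q.col (Fin.last (k + d))) = Q := Matrix.updateCol_eq_self _ _
    rw [this, inv_mul_cancel₀ hdet]
  · have hne : Fin.castAdd (d + 1) i ≠ Fin.last (k + d) := by
      intro h
      have := congrArg Fin.val h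
      simp at this
      omega
    change Q.updateCol _ _ j (Fin.castAdd (d + 1) i) = _
    rw [Matrix.updateCol_ne hne]
    change B' (Fin.castAdd (d + 1) i) j = _
    rw [hB']

end

end Cfsg.Agent.H143.Pw.Lin
end

-- part: H143/Pw/Cor
section
/-!
The corner in `SL_5` and `SL_6` (S2465, exceptional rows over the fields of two and three elements).
-/

set_option autoImplicit false

namespace Cfsg.Agent.H143.Pw.Cor

open Module Matrix
open Cfsg.Agent.H143.Pw.Lin
open Cfsg.Agent.H162.GaussPSL (eqf eqf_inl embf embf_apply)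

universe u

variable {F : Type u} [Field F]

local notation "SL" => Matrix.SpecialLinearGroup

/-! ### The block decomposition -/

/-- the last `n` coordinates -/
def sh (n : ℕ) : Fin n ↪ Fin (n + 2) where
  toFun i := i.succ.succ
  inj' a b h := by simpa using h

theorem sh_compl {n : ℕ} {c : Fin (n + 2)} (hc : ∀ k, sh n k ≠ c) : c = 0 ∨ c = 1 := by
  by_contra hcon
  push Not at hcon
  obtain ⟨j, rfl⟩ := Fin.exists_succ_eq.2 hcon.1
  have hj : j ≠ 0 := by
    rintro rfl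
    exact hcon.2 rfl
  obtain ⟨k, rfl⟩ := Fin.exists_succ_eq.2 hj
  exact hc k rfl

/-- the first two basis vectors are fixed modulo the span of the others -/
def Good {n : ℕ} (A : Matrix (Fin (n + 2)) (Fin (n + 2)) F) : Prop :=
  A 0 0 = 1 ∧ A 0 1 = 0 ∧ A 1 0 = 0 ∧ A 1 1 = 1

/-- the lower block -/
def lowB (n : ℕ) (F : Type u) [Field F] : Subgroup (SL (Fin (n + 2)) F) :=
  Subgroup.closure {x | ∃ (a : Fin n) (c : Fin (n + 2)) (h : sh n a ≠ c) (t : F), (c = 0 ∨ c = 1) ∧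
    x = Matrix.SpecialLinearGroup.transvection h t}

/-- the upper block -/
def upB (n : ℕ) (F : Type u) [Field F] : Subgroup (SL (Fin (n + 2)) F) :=
  Subgroup.closure {x | ∃ (a : Fin n) (c : Fin (n + 2)) (h : c ≠ sh n a) (t : F), (c = 0 ∨ c = 1) ∧
    x = Matrix.SpecialLinearGroup.transvection h t}

section

variable {n : ℕ}

/-- the complement -/
abbrev Cp (n : ℕ) := {c : Fin (n + 2) // ∀ k, sh n k ≠ c}

theorem det_lo (C : Matrix (Fin n) (Cp n) F) : (reindex (eqf (sh n)) (eqf (sh n)) (fromBlocks 1 C 0 1)).det = 1 := by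
  rw [det_reindex_self, det_fromBlocks_zero₂₁, det_one, det_one, mul_one]

theorem det_up (B : Matrix (Cp n) (Fin n) F) : (reindex (eqf (sh n)) (eqf (sh n)) (fromBlocks 1 0 B 1)).det = 1 := by
  rw [det_reindex_self, det_fromBlocks_zero₁₂, det_one, det_one, mul_one]

theorem lo_mem (C : Matrix (Fin n) (Cp n) F) :
    (⟨reindex (eqf (sh n)) (eqf (sh n)) (fromBlocks 1 C 0 1), det_lo C⟩ : SL (Fin (n + 2)) F) ∈ lowB n F := by
  refine Matrix.induction_on' C ?_ ?_ ?_
  · refine (congrArg (· ∈ lowB n F) ?_).mpr (one_mem (lowB n F))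
    apply Subtype.ext
    change reindex (eqf (sh n)) (eqf (sh n)) (fromBlocks (1 : Matrix (Fin n) (Fin n) F) 0 0 1) = 1
    rw [fromBlocks_one]
    simp
  · intro C C' h h'
    refine (congrArg (· ∈ lowB n F) ?_).mpr (mul_mem h h')
    apply Subtype.ext
    change reindex (eqf (sh n)) (eqf (sh n)) (fromBlocks 1 (C + C') 0 1) =
      reindex (eqf (sh n)) (eqf (sh n)) (fromBlocks 1 C 0 1) * reindex (eqf (sh n)) (eqf (sh n)) (fromBlocks 1 C' 0 1)
    rw [reindex_apply, reindex_apply, reindex_apply, submatrix_mul_equiv, fromBlocks_multiply]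
    simp [add_comm]
  · intro a c t
    refine Subgroup.subset_closure ⟨a, c.1, c.2 a, t, sh_compl c.2, ?_⟩
    apply Subtype.ext
    change reindex (eqf (sh n)) (eqf (sh n)) (fromBlocks 1 (single a c t) 0 1) = 1 + single (sh n a) c.1 t
    ext i j
    obtain ⟨x, rfl⟩ := (eqf (sh n)).surjective i
    obtain ⟨y, rfl⟩ := (eqf (sh n)).surjective j
    have h2 : (sh n a = eqf (sh n) x) ↔ x = Sum.inl a := by
      rw [← eqf_inl, EmbeddingLike.apply_eq_iff_eq, eq_comm]
    have h3 : (c.1 = eqf (sh n) y) ↔ y = Sum.inr c := by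
      have : (c : Fin (n + 2)) = eqf (sh n) (Sum.inr c) := rfl
      rw [this, EmbeddingLike.apply_eq_iff_eq, eq_comm]
    simp only [reindex_apply, submatrix_apply, Equiv.symm_apply_apply, Matrix.add_apply, Matrix.one_apply, single_apply,
      EmbeddingLike.apply_eq_iff_eq, h2, h3]
    rcases x with x | x <;> rcases y with y | y
    · simp [Matrix.one_apply]
    · simp [single_apply, eq_comm]
    · simp
    · simp [Matrix.one_apply]

theorem up_mem (B : Matrix (Cp n) (Fin n) F) :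
    (⟨reindex (eqf (sh n)) (eqf (sh n)) (fromBlocks 1 0 B 1), det_up B⟩ : SL (Fin (n + 2)) F) ∈ upB n F := by
  refine Matrix.induction_on' B ?_ ?_ ?_
  · refine (congrArg (· ∈ upB n F) ?_).mpr (one_mem (upB n F))
    apply Subtype.ext
    change reindex (eqf (sh n)) (eqf (sh n)) (fromBlocks (1 : Matrix (Fin n) (Fin n) F) 0 0 1) = 1
    rw [fromBlocks_one]
    simp
  · intro C C' h h'
    refine (congrArg (· ∈ upB n F) ?_).mpr (mul_mem h h')
    apply Subtype.ext
    change reindex (eqf (sh n)) (eqf (sh n)) (fromBlocks 1 0 (C + C') 1) =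
      reindex (eqf (sh n)) (eqf (sh n)) (fromBlocks 1 0 C 1) * reindex (eqf (sh n)) (eqf (sh n)) (fromBlocks 1 0 C' 1)
    rw [reindex_apply, reindex_apply, reindex_apply, submatrix_mul_equiv, fromBlocks_multiply]
    simp [add_comm]
  · intro c a t
    refine Subgroup.subset_closure ⟨a, c.1, (c.2 a).symm, t, sh_compl c.2, ?_⟩
    apply Subtype.ext
    change reindex (eqf (sh n)) (eqf (sh n)) (fromBlocks 1 0 (single c a t) 1) = 1 + single c.1 (sh n a) t
    ext i j
    obtain ⟨x, rfl⟩ := (eqf (sh n)).surjective i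
    obtain ⟨y, rfl⟩ := (eqf (sh n)).surjective j
    have h2 : (sh n a = eqf (sh n) y) ↔ y = Sum.inl a := by
      rw [← eqf_inl, EmbeddingLike.apply_eq_iff_eq, eq_comm]
    have h3 : (c.1 = eqf (sh n) x) ↔ x = Sum.inr c := by
      have : (c : Fin (n + 2)) = eqf (sh n) (Sum.inr c) := rfl
      rw [this, EmbeddingLike.apply_eq_iff_eq, eq_comm]
    simp only [reindex_apply, submatrix_apply, Equiv.symm_apply_apply, Matrix.add_apply, Matrix.one_apply, single_apply,
      EmbeddingLike.apply_eq_iff_eq, h2, h3]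
    rcases x with x | x <;> rcases y with y | y
    · simp [Matrix.one_apply]
    · simp
    · simp [single_apply, eq_comm]
    · simp [Matrix.one_apply]

/-- **The block decomposition.** -/
theorem exists_dec {A : SL (Fin (n + 2)) F} (hA : Good A.1) :
    ∃ L ∈ lowB n F, ∃ S : SL (Fin n) F, ∃ U ∈ upB n F, A = L * embf F (sh n) S * U := by
  set A' : Matrix (Fin n ⊕ Cp n) (Fin n ⊕ Cp n) F := A.1.submatrix (eqf (sh n)) (eqf (sh n)) with hA'
  have h22 : A'.toBlocks₂₂ = 1 := by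
    ext c d
    change A.1 c.1 d.1 = _
    obtain ⟨h00, h01, h10, h11⟩ := hA
    rcases sh_compl c.2 with hc | hc <;> rcases sh_compl d.2 with hd | hd
    · rw [hc, hd, h00, (Subtype.ext (hc.trans hd.symm) : c = d), Matrix.one_apply_eq]
    · rw [hc, hd, h01, Matrix.one_apply_ne]
      rintro rfl
      rw [hc] at hd
      exact absurd hd (by simp)
    · rw [hc, hd, h10, Matrix.one_apply_ne]
      rintro rfl
      rw [hc] at hd
      exact absurd hd (by simp)
    · rw [hc, hd, h11, (Subtype.ext (hc.trans hd.symm) : c = d), Matrix.one_apply_eq]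
  have hdec : A' = fromBlocks 1 A'.toBlocks₁₂ 0 1 * fromBlocks (A'.toBlocks₁₁ - A'.toBlocks₁₂ * A'.toBlocks₂₁) 0 0 1 *
      fromBlocks 1 0 A'.toBlocks₂₁ 1 := by
    conv_lhs => rw [← fromBlocks_toBlocks A', h22]
    rw [fromBlocks_multiply, fromBlocks_multiply]
    simp
  have hAre : A.1 = reindex (eqf (sh n)) (eqf (sh n)) A' := by
    ext i j
    simp [hA']
  have hdet : (A'.toBlocks₁₁ - A'.toBlocks₁₂ * A'.toBlocks₂₁).det = 1 := by
    have h1 : A'.det = 1 := by
      rw [hA', det_submatrix_equiv_self]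
      exact A.2
    rw [hdec, det_mul, det_mul, det_fromBlocks_zero₂₁, det_fromBlocks_zero₂₁, det_fromBlocks_zero₁₂] at h1
    simpa using h1
  refine ⟨_, lo_mem A'.toBlocks₁₂, ⟨_, hdet⟩, _, up_mem A'.toBlocks₂₁, ?_⟩
  apply Subtype.ext
  change A.1 = reindex (eqf (sh n)) (eqf (sh n)) (fromBlocks 1 A'.toBlocks₁₂ 0 1) *
    reindex (eqf (sh n)) (eqf (sh n)) (fromBlocks (A'.toBlocks₁₁ - A'.toBlocks₁₂ * A'.toBlocks₂₁) 0 0 1) *
    reindex (eqf (sh n)) (eqf (sh n)) (fromBlocks 1 0 A'.toBlocks₂₁ 1)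
  rw [hAre]
  conv_lhs => rw [hdec]
  rw [reindex_apply, reindex_apply, reindex_apply, reindex_apply, submatrix_mul_equiv, submatrix_mul_equiv]

end

end Cfsg.Agent.H143.Pw.Cor
end
end

-- part: H143/Pw/EGrp
section
prune_inst 0x44040001ee200000018809621200032240004b2004004000ce0014201408c6049832040090021175a088c01000100200010008000600000042004000000000000800200b1480008400090000080000000000000300000000000000000000004000000000
set_option linter.all false
open scoped Cfsg.Agent.FastGrp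
attribute [local instance] Cfsg.Agent.TitsThree.RTFast.decRTb Cfsg.Agent.TitsThree.RTFast.decRTc

-- part: H143/Pw/Dich
section
/-!
The corner in `SL_5` and `SL_6` (S2465): conjugation into the corner form.
-/

set_option autoImplicit false

namespace Cfsg.Agent.H143.Pw.Cor

open Module Matrix
open Cfsg.Agent.H143.Pw.Lin

universe u

variable {F : Type u} [Field F]

local notation "SL" => Matrix.SpecialLinearGroup

theorem good_conj {n : ℕ} {M P : SL (Fin (n + 2)) F} {c₀ c₁ : Fin (n + 2) → F}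
    (h0 : M.1 *ᵥ (P.1 *ᵥ Pi.single 0 1) = P.1 *ᵥ (Pi.single 0 1 + c₀)) (h00 : c₀ 0 = 0) (h01 : c₀ 1 = 0)
    (h1 : M.1 *ᵥ (P.1 *ᵥ Pi.single 1 1) = P.1 *ᵥ (Pi.single 1 1 + c₁)) (h10 : c₁ 0 = 0) (h11 : c₁ 1 = 0) :
    Good (P⁻¹ * M * P).1 := by
  have hP : ∀ x, (P⁻¹).1 *ᵥ (P.1 *ᵥ x) = x := by
    intro x
    rw [Matrix.mulVec_mulVec, ← Matrix.SpecialLinearGroup.coe_mul, inv_mul_cancel, Matrix.SpecialLinearGroup.coe_one,
      Matrix.one_mulVec]
  have e : ∀ x, (P⁻¹ * M * P).1 *ᵥ x = (P⁻¹).1 *ᵥ (M.1 *ᵥ (P.1 *ᵥ x)) := by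
    intro x
    rw [Matrix.mulVec_mulVec, Matrix.mulVec_mulVec]
    rfl
  have e0 : ∀ i, (P⁻¹ * M * P).1 i 0 = (Pi.single 0 1 + c₀ : Fin (n + 2) → F) i := by
    intro i
    have := congrFun (e (Pi.single 0 1)) i
    rw [h0, hP, Matrix.mulVec_single_one] at this
    exact this
  have e1 : ∀ i, (P⁻¹ * M * P).1 i 1 = (Pi.single 1 1 + c₁ : Fin (n + 2) → F) i := by
    intro i
    have := congrFun (e (Pi.single 1 1)) i
    rw [h1, hP, Matrix.mulVec_single_one] at this
    exact this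
  refine ⟨?_, ?_, ?_, ?_⟩
  · rw [e0]; simp [h00]
  · rw [e1]; simp [h10]
  · rw [e0]; simp [h01]
  · rw [e1]; simp [h11]

theorem good_of_li5 {M : SL (Fin 5) F} {w₁ w₂ : Fin 5 → F}
    (h : LinearIndependent F ![w₁, w₂, M.1 *ᵥ w₁ - w₁, M.1 *ᵥ w₂ - w₂]) : ∃ P : SL (Fin 5) F, Good (P⁻¹ * M * P).1 := by
  obtain ⟨P, hP⟩ := exists_SL (k := 4) (d := 0) h
  have c0 : P.1 *ᵥ Pi.single 0 1 = w₁ := by
    rw [Matrix.mulVec_single_one]; funext j; exact hP 0 j
  have c1 : P.1 *ᵥ Pi.single 1 1 = w₂ := by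
    rw [Matrix.mulVec_single_one]; funext j; exact hP 1 j
  have c2 : P.1 *ᵥ Pi.single 2 1 = M.1 *ᵥ w₁ - w₁ := by
    rw [Matrix.mulVec_single_one]; funext j; exact hP 2 j
  have c3 : P.1 *ᵥ Pi.single 3 1 = M.1 *ᵥ w₂ - w₂ := by
    rw [Matrix.mulVec_single_one]; funext j; exact hP 3 j
  refine ⟨P, good_conj (n := 3) (c₀ := Pi.single 2 1) (c₁ := Pi.single 3 1) ?_ (by simp) (by simp) ?_ (by simp) (by simp)⟩
  · rw [Matrix.mulVec_add]
    erw [c0, c2]
    abel
  · rw [Matrix.mulVec_add]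
    erw [c1, c3]
    abel

theorem good_of_li6 {M : SL (Fin 6) F} {w₁ w₂ : Fin 6 → F}
    (h : LinearIndependent F ![w₁, w₂, M.1 *ᵥ w₁ - w₁, M.1 *ᵥ w₂ - w₂]) : ∃ P : SL (Fin 6) F, Good (P⁻¹ * M * P).1 := by
  obtain ⟨P, hP⟩ := exists_SL (k := 4) (d := 1) h
  have c0 : P.1 *ᵥ Pi.single 0 1 = w₁ := by
    rw [Matrix.mulVec_single_one]; funext j; exact hP 0 j
  have c1 : P.1 *ᵥ Pi.single 1 1 = w₂ := by
    rw [Matrix.mulVec_single_one]; funext j; exact hP 1 j
  have c2 : P.1 *ᵥ Pi.single 2 1 = M.1 *ᵥ w₁ - w₁ := by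
    rw [Matrix.mulVec_single_one]; funext j; exact hP 2 j
  have c3 : P.1 *ᵥ Pi.single 3 1 = M.1 *ᵥ w₂ - w₂ := by
    rw [Matrix.mulVec_single_one]; funext j; exact hP 3 j
  refine ⟨P, good_conj (n := 4) (c₀ := Pi.single 2 1) (c₁ := Pi.single 3 1) ?_ (by simp) (by simp) ?_ (by simp) (by simp)⟩
  · rw [Matrix.mulVec_add]
    erw [c0, c2]
    abel
  · rw [Matrix.mulVec_add]
    erw [c1, c3]
    abel

/-- rank at most one -/
theorem good_of_rank_one {M : SL (Fin 6) F} {z : Fin 6 → F} (h : ∀ x, ∃ a : F, M.1 *ᵥ x - x = a • z) :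
    ∃ P : SL (Fin 6) F, Good (P⁻¹ * M * P).1 := by
  by_cases hz : z = 0
  · refine ⟨1, ?_⟩
    have hM : ∀ x, M.1 *ᵥ x = x := by
      intro x
      obtain ⟨a, ha⟩ := h x
      rw [hz, smul_zero, sub_eq_zero] at ha
      exact ha
    refine good_conj (n := 4) (c₀ := 0) (c₁ := 0) ?_ rfl rfl ?_ rfl rfl
    · rw [hM, add_zero]
    · rw [hM, add_zero]
  · have h1 : LinearIndependent F ![z] := by
      rw [Fintype.linearIndependent_iff]
      intro g hg i
      rw [Fin.sum_univ_one] at hg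
      rw [Subsingleton.elim i 0]
      rcases smul_eq_zero.1 hg with h2 | h2
      · exact h2
      · exact absurd h2 hz
    obtain ⟨B, hB⟩ := exists_basis_ext (k := 1) (m := 5) (by simp) ![z] h1
    have h2 : LinearIndependent F ![B (Sum.inr 0), B (Sum.inr 1), z] := by
      have h3 := B.linearIndependent.comp (![Sum.inr 0, Sum.inr 1, Sum.inl 0] : Fin 3 → Fin 1 ⊕ Fin 5) (by decide)
      have h4 : (B ∘ (![Sum.inr 0, Sum.inr 1, Sum.inl 0] : Fin 3 → Fin 1 ⊕ Fin 5)) = ![B (Sum.inr 0), B (Sum.inr 1), z] := by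
        funext i
        fin_cases i
        · rfl
        · rfl
        · exact hB 0
      rwa [h4] at h3
    obtain ⟨P, hP⟩ := exists_SL (k := 3) (d := 2) h2
    have c0 : P.1 *ᵥ Pi.single 0 1 = B (Sum.inr 0) := by
      rw [Matrix.mulVec_single_one]; funext j; exact hP 0 j
    have c1 : P.1 *ᵥ Pi.single 1 1 = B (Sum.inr 1) := by
      rw [Matrix.mulVec_single_one]; funext j; exact hP 1 j
    have c2 : P.1 *ᵥ Pi.single 2 1 = z := by
      rw [Matrix.mulVec_single_one]; funext j; exact hP 2 j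
    obtain ⟨a, ha⟩ := h (B (Sum.inr 0))
    obtain ⟨b, hb⟩ := h (B (Sum.inr 1))
    refine ⟨P, good_conj (n := 4) (c₀ := a • Pi.single 2 1) (c₁ := b • Pi.single 2 1) ?_ (by simp) (by simp) ?_ (by simp)
      (by simp)⟩
    · rw [Matrix.mulVec_add, Matrix.mulVec_smul]
      erw [c0, c2]
      rw [← ha]
      abel
    · rw [Matrix.mulVec_add, Matrix.mulVec_smul]
      erw [c1, c2]
      rw [← hb]
      abel

/-! ### The other case -/

/-- the special form -/
def M0 (F : Type u) [Field F] : Matrix (Fin 6) (Fin 6) F := -(1 + single 0 1 1)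

/-- `-1` plus a map of rank at most one -/
theorem bad_form {M : SL (Fin 6) F} (hM : M.1 ≠ -1) {z : Fin 6 → F} (h : ∀ x, ∃ a : F, M.1 *ᵥ x + x = a • z) :
    ∃ P : SL (Fin 6) F, (P⁻¹ * M * P).1 = M0 F := by
  -- conjugates
  have hconj : ∀ P : SL (Fin 6) F, ∀ x, (P⁻¹ * M * P).1 *ᵥ x = (P⁻¹).1 *ᵥ (M.1 *ᵥ (P.1 *ᵥ x)) := by
    intro P x
    rw [Matrix.mulVec_mulVec, Matrix.mulVec_mulVec]
    rfl
  have hPP : ∀ (P : SL (Fin 6) F) x, (P⁻¹).1 *ᵥ (P.1 *ᵥ x) = x := by
    intro P x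
    rw [Matrix.mulVec_mulVec, ← Matrix.SpecialLinearGroup.coe_mul, inv_mul_cancel, Matrix.SpecialLinearGroup.coe_one,
      Matrix.one_mulVec]
  have hPP' : ∀ (P : SL (Fin 6) F) x, P.1 *ᵥ ((P⁻¹).1 *ᵥ x) = x := by
    intro P x
    rw [Matrix.mulVec_mulVec, ← Matrix.SpecialLinearGroup.coe_mul, mul_inv_cancel, Matrix.SpecialLinearGroup.coe_one,
      Matrix.one_mulVec]
  have hne : ∀ P : SL (Fin 6) F, (P⁻¹ * M * P).1 ≠ -1 := by
    intro P hP
    apply hM
    ext i j
    have h1 : M.1 *ᵥ Pi.single j 1 = - Pi.single j 1 := by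
      have h2 := hconj P ((P⁻¹).1 *ᵥ Pi.single j 1)
      rw [hPP', hP, Matrix.neg_mulVec, Matrix.one_mulVec] at h2
      have h3 := congrArg (fun y => P.1 *ᵥ y) h2
      simp only [Matrix.mulVec_neg, hPP'] at h3
      exact h3.symm
    have h2 := congrFun h1 i
    rw [Matrix.mulVec_single_one] at h2
    rw [Matrix.neg_apply, Matrix.one_apply]
    change M.1 i j = -(if i = j then 1 else 0)
    have h3 : M.1 i j = -(Pi.single j (1 : F) : Fin 6 → F) i := h2
    rw [h3, Pi.single_apply]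
  have hz : z ≠ 0 := by
    rintro rfl
    apply hM
    ext i j
    obtain ⟨a, ha⟩ := h (Pi.single j 1)
    rw [smul_zero, Matrix.mulVec_single_one] at ha
    have h3 := congrFun ha i
    have h4 : M.1 i j = -(Pi.single j (1 : F) : Fin 6 → F) i := eq_neg_of_add_eq_zero_left h3
    rw [h4, Pi.single_apply, Matrix.neg_apply, Matrix.one_apply]
  -- first step
  have h1 : LinearIndependent F ![z] := by
    rw [Fintype.linearIndependent_iff]
    intro g hg i
    rw [Fin.sum_univ_one] at hg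
    rw [Subsingleton.elim i 0]
    rcases smul_eq_zero.1 hg with h2 | h2
    · exact h2
    · exact absurd h2 hz
  obtain ⟨P, hP⟩ := exists_SL (k := 1) (d := 4) h1
  have c0 : P.1 *ᵥ Pi.single 0 1 = z := by
    rw [Matrix.mulVec_single_one]; funext j; exact hP 0 j
  have hrow : ∀ x, ∃ a : F, (P⁻¹ * M * P).1 *ᵥ x + x = a • Pi.single 0 1 := by
    intro x
    obtain ⟨a, ha⟩ := h (P.1 *ᵥ x)
    refine ⟨a, ?_⟩
    have h2 := congrArg (fun y => (P⁻¹).1 *ᵥ y) ha
    simp only [Matrix.mulVec_add, Matrix.mulVec_smul, hPP] at h2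
    rw [hconj, h2, ← c0]
    erw [hPP]
  -- entries
  have ent : ∀ B : SL (Fin 6) F, (∀ x, ∃ a : F, B.1 *ᵥ x + x = a • (Pi.single 0 1 : Fin 6 → F)) →
      ∀ i j, i ≠ 0 → B.1 i j = -(if i = j then 1 else 0) := by
    intro B hB i j hi
    obtain ⟨a, ha⟩ := hB (Pi.single j 1)
    rw [Matrix.mulVec_single_one] at ha
    have h2 := congrFun ha i
    have h3 : B.1 i j + (Pi.single j (1 : F) : Fin 6 → F) i = a * (Pi.single 0 (1 : F) : Fin 6 → F) i := h2
    rw [Pi.single_eq_of_ne hi, mul_zero, Pi.single_apply] at h3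
    exact eq_neg_of_add_eq_zero_left h3
  have ent0 : ∀ B : SL (Fin 6) F, (∀ x, ∃ a : F, B.1 *ᵥ x + x = a • (Pi.single 0 1 : Fin 6 → F)) →
      B.1 0 0 = -1 := by
    intro A hrow
    have hent := ent A hrow
    have hd : A.1.det = ∏ i, A.1 i i := Matrix.det_of_isUpperTriangular (fun i j hij => by
      rw [hent i j (by rintro rfl; exact absurd hij (by simp)), if_neg (by rintro rfl; exact lt_irrefl _ hij), neg_zero])
    rw [A.2, Fin.prod_univ_succ] at hd
    have h2 : ∏ i : Fin 5, A.1 i.succ i.succ = -1 := by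
      rw [Finset.prod_congr rfl (fun i _ => (by rw [hent _ _ (Fin.succ_ne_zero i), if_pos rfl] :
        A.1 i.succ i.succ = -1))]
      rw [Finset.prod_const, Finset.card_univ, Fintype.card_fin]
      norm_num
    rw [h2] at hd
    linear_combination hd
  set A : SL (Fin 6) F := P⁻¹ * M * P with hA
  have hent := ent A hrow
  have h00 := ent0 A hrow
  have hj0 : ∃ j, j ≠ 0 ∧ A.1 0 j ≠ 0 := by
    by_contra hcon
    push Not at hcon
    apply hne P
    ext i j
    rw [Matrix.neg_apply, Matrix.one_apply]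
    by_cases hi : i = 0
    · subst hi
      by_cases hj : j = 0
      · subst hj; rw [← hA, h00, if_pos rfl]
      · rw [← hA, hcon j hj, if_neg (Ne.symm hj), neg_zero]
    · rw [← hA, hent i j hi]
  obtain ⟨j₀, hj0, hj1⟩ := hj0
  -- second step
  set! b : Fin 6 → F := Pi.single j₀ (-(A.1 0 j₀)⁻¹) with hb
  have h2 : LinearIndependent F ![(Pi.single 0 1 : Fin 6 → F), b] := by
    rw [LinearIndependent.pair_iff]
    intro s t hst
    have e0 := congrFun hst 0
    have e1 := congrFun hst j₀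
    simp only [hb, Pi.add_apply, Pi.smul_apply, smul_eq_mul, Pi.single_eq_same, Pi.single_eq_of_ne hj0,
      Pi.single_eq_of_ne (Ne.symm hj0), mul_one, mul_zero, add_zero, zero_add, Pi.zero_apply] at e0 e1
    refine ⟨e0, ?_⟩
    rcases mul_eq_zero.1 e1 with h3 | h3
    · exact h3
    · exact absurd (neg_eq_zero.1 h3) (inv_ne_zero hj1)
  obtain ⟨Q', hQ⟩ := exists_SL (k := 2) (d := 3) h2
  let Q : SL (Fin 6) F := Q'
  have q0 : Q.1 *ᵥ (Pi.single 0 1 : Fin 6 → F) = (Pi.single 0 1 : Fin 6 → F) := by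
    rw [Matrix.mulVec_single_one]; funext j; exact hQ 0 j
  have q1 : Q.1 *ᵥ (Pi.single 1 1 : Fin 6 → F) = b := by
    rw [Matrix.mulVec_single_one]; funext j; exact hQ 1 j
  have qi0 : (Q⁻¹).1 *ᵥ (Pi.single 0 1 : Fin 6 → F) = Pi.single 0 1 := by
    conv_lhs => rw [← q0]
    exact hPP Q _
  have qi1 : (Q⁻¹).1 *ᵥ b = Pi.single 1 1 := by
    rw [← q1]
    exact hPP Q _
  have hconjA : ∀ x, (Q⁻¹ * A * Q).1 *ᵥ x = (Q⁻¹).1 *ᵥ (A.1 *ᵥ (Q.1 *ᵥ x)) := by
    intro x
    rw [Matrix.mulVec_mulVec, Matrix.mulVec_mulVec]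
    rfl
  have hrow' : ∀ x, ∃ a : F, (Q⁻¹ * A * Q).1 *ᵥ x + x = a • (Pi.single 0 1 : Fin 6 → F) := by
    intro x
    obtain ⟨a, ha⟩ := hrow (Q.1 *ᵥ x)
    refine ⟨a, ?_⟩
    have h2 := congrArg (fun y => (Q⁻¹).1 *ᵥ y) ha
    simp only [Matrix.mulVec_add, Matrix.mulVec_smul, hPP] at h2
    rw [hconjA, h2]
    erw [qi0]
  set A' : SL (Fin 6) F := Q⁻¹ * A * Q with hA'
  have hent' := ent A' hrow'
  have h00' := ent0 A' hrow'
  have h01' : A'.1 0 1 = -1 := by
    have h3 : A.1 *ᵥ b = -(Pi.single 0 1) - b := by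
      funext i
      rw [hb, Matrix.mulVec_single, Pi.sub_apply, Pi.neg_apply]
      change A.1 i j₀ * (-(A.1 0 j₀)⁻¹) = _
      by_cases hi : i = 0
      · subst hi
        rw [Pi.single_eq_same, Pi.single_eq_of_ne (Ne.symm hj0), sub_zero, mul_neg, mul_inv_cancel₀ hj1]
      · rw [hent i j₀ hi, Pi.single_eq_of_ne hi, neg_zero, zero_sub]
        by_cases hij : i = j₀
        · subst hij
          rw [if_pos rfl, Pi.single_eq_same]
          ring
        · rw [if_neg hij, Pi.single_eq_of_ne hij]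
          ring
    have h4 := hconjA (Pi.single 1 1)
    rw [q1, h3, Matrix.mulVec_sub, Matrix.mulVec_neg, qi1, qi0, Matrix.mulVec_single_one] at h4
    have h5 := congrFun h4 0
    have h6 : A'.1 0 1 = -(Pi.single 0 (1 : F) : Fin 6 → F) 0 - (Pi.single 1 (1 : F) : Fin 6 → F) 0 := h5
    rw [h6, Pi.single_eq_same, Pi.single_eq_of_ne (by decide), sub_zero]
  -- third step
  let Rm : Matrix (Fin 6) (Fin 6) F := Matrix.of fun i j => if i = j then 1 else if i = 1 ∧ 2 ≤ j.val then A'.1 0 j else 0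
  have hRd : Rm.det = 1 := by
    rw [Matrix.det_of_isUpperTriangular]
    · refine Finset.prod_eq_one fun i _ => ?_
      simp [Rm]
    · intro i j hij
      have h3 : ¬ i = j := by rintro rfl; exact lt_irrefl _ hij
      have h4 : ¬ (i = 1 ∧ 2 ≤ j.val) := by
        rintro ⟨rfl, h5⟩
        have h6 : j < (1 : Fin 6) := hij
        rw [Fin.lt_def] at h6
        have : ((1 : Fin 6) : ℕ) = 1 := rfl
        omega
      simp [Rm, h3, h4]
  let R : SL (Fin 6) F := ⟨Rm, hRd⟩
  have hAR : A'.1 * Rm = Rm * M0 F := by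
    have e : ∀ i j, i ≠ 0 → A'.1 i j = -(if i = j then 1 else 0) := hent'
    ext i j
    rw [Matrix.mul_apply, Matrix.mul_apply, Fin.sum_univ_six, Fin.sum_univ_six]
    by_cases hi : i = 0
    · subst hi
      rw [h00', h01']
      (revert j; simp only [Rm, M0, Matrix.single_apply, Matrix.one_apply, _root_.Fin.forall_fin_succ, Fin.isValue, _root_.Matrix.of_apply, _root_.zero_ne_one, _root_.false_and, ↓reduceIte, _root_.mul_ite, _root_.mul_one, _root_.MulZeroClass.mul_zero, _root_.true_and, _root_.neg_mul, _root_.one_mul, Fin.reduceEq, _root_.Matrix.neg_apply, _root_.Matrix.add_apply, _root_.neg_add_rev, _root_.Fin.coe_ofNat_eq_mod, _root_.Nat.one_mod, _root_.Nat.not_ofNat_le_one, _root_.and_self, _root_.not_false_eq_true, _root_.Matrix.single_apply_of_ne, _root_.add_zero, _root_.mul_neg, _root_.ite_self, _root_.neg_zero, Nat.reduceMod, _root_.Std.le_refl, _root_.and_true, Nat.reduceLeDiff, _root_.Nat.mod_succ, _root_.one_ne_zero, _root_.Nat.zero_mod,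 _root_.nonpos_iff_eq_zero, _root_.OfNat.ofNat_ne_zero, _root_.zero_add, _root_.Fin.val_succ, _root_.Fin.succ_zero_eq_one, _root_.le_add_iff_nonneg_left, _root_.zero_le, _root_.Fin.succ_one_eq_two, _root_.neg_add_cancel, Fin.reduceSucc, _root_.IsEmpty.forall_iff])
    · rw [e i 0 hi, e i 1 hi, e i 2 hi, e i 3 hi, e i 4 hi, e i 5 hi]
      fin_cases i <;> first | exact absurd rfl hi | ((revert j; simp only [Rm, M0, Matrix.single_apply, Matrix.one_apply, _root_.Fin.forall_fin_succ, _root_.Fin.mk_one, Fin.isValue, _root_.one_ne_zero, ↓reduceIte, _root_.neg_zero, _root_.Matrix.of_apply, _root_.zero_ne_one, _root_.false_and, _root_.mul_ite, _root_.mul_one, _root_.MulZeroClass.mul_zero, _root_.ite_self, _root_.true_and, _root_.neg_mul, _root_.one_mul, _root_.zero_add, Fin.reduceEq, _root_.add_zero, _root_.Fin.coe_ofNat_eq_mod, _root_.Nat.zero_mod, _root_.nonpos_iff_eq_zero, _root_.OfNat.ofNat_ne_zero, _root_.and_false, _root_.Matrix.neg_apply,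 _root_.Matrix.add_apply, _root_.neg_add_rev, _root_.MulZeroClass.zero_mul, _root_.not_false_eq_true, _root_.Matrix.single_apply_of_ne, _root_.mul_neg, Nat.reduceMod, _root_.Std.le_refl, _root_.and_self, Nat.reduceLeDiff, _root_.Nat.mod_succ, _root_.Fin.val_succ, _root_.Fin.succ_zero_eq_one, _root_.le_add_iff_nonneg_left, _root_.zero_le, _root_.Fin.succ_one_eq_two, Fin.reduceSucc, _root_.IsEmpty.forall_iff, Fin.reduceFinMk, _root_.Nat.one_mod, _root_.Nat.not_ofNat_le_one, _root_.and_true]))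
  refine ⟨P * Q * R, ?_⟩
  have h5 : (P * Q * R)⁻¹ * M * (P * Q * R) = R⁻¹ * A' * R := by
    rw [hA', hA]
    group
  rw [h5]
  have h6 : A' * R = R * (R⁻¹ * A' * R) := by group
  have h7 : (R⁻¹ * A' * R).1 = (R⁻¹).1 * (A'.1 * Rm) := by
    rw [← Matrix.mul_assoc]
    rfl
  rw [h7, hAR, ← Matrix.mul_assoc]
  have h8 : (R⁻¹).1 * Rm = 1 := by
    have := congrArg Subtype.val (inv_mul_cancel R)
    exact this
  rw [h8, Matrix.one_mul]

/-! ### The dichotomy -/

theorem card_two_or_three {F : Type u} [Field F] [Finite F] (hK : Nat.card F = 2 ∨ Nat.card F = 3) :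
    (∀ c : F, c = 0 ∨ c = -1 ∨ (c = 1 ∧ (3 : F) = 0)) := by
  classical
  have := Fintype.ofFinite F
  rw [Nat.card_eq_fintype_card] at hK
  intro c
  have h1 := FiniteField.pow_card c
  have h0 : ((Fintype.card F : ℕ) : F) = 0 := Nat.cast_card_eq_zero F
  rcases hK with hK | hK
  · rw [hK] at h1 h0
    have h2 : c * (c - 1) = 0 := by linear_combination h1
    rcases mul_eq_zero.1 h2 with h3 | h3
    · exact Or.inl h3
    · right; left
      have h4 : (2 : F) = 0 := by exact_mod_cast h0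
      linear_combination h3 + h4
  · rw [hK] at h1 h0
    have h2 : c * ((c + 1) * (c - 1)) = 0 := by linear_combination h1
    rcases mul_eq_zero.1 h2 with h3 | h3
    · exact Or.inl h3
    · rcases mul_eq_zero.1 h3 with h4 | h4
      · right; left
        linear_combination h4
      · right; right
        exact ⟨by linear_combination h4, by exact_mod_cast h0⟩

theorem exists_of_finrank {V : Type*} [AddCommGroup V] [Module F V] [FiniteDimensional F V] {T : V →ₗ[F] V}
    (h : finrank F (LinearMap.range T) < 2) : ∃ z : V, ∀ x, ∃ a : F, T x = a • z := by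
  rcases Nat.lt_or_ge (finrank F (LinearMap.range T)) 1 with h0 | h0
  · have h1 : LinearMap.range T = ⊥ := Submodule.finrank_eq_zero.1 (by omega)
    refine ⟨0, fun x => ⟨0, ?_⟩⟩
    have : T x ∈ LinearMap.range T := ⟨x, rfl⟩
    rw [h1, Submodule.mem_bot] at this
    rw [this, smul_zero]
  · obtain ⟨z, -, hz⟩ := finrank_eq_one_iff'.1 (le_antisymm (by omega) h0)
    refine ⟨z.1, fun x => ?_⟩
    obtain ⟨a, ha⟩ := hz ⟨T x, x, rfl⟩
    exact ⟨a, (congrArg Subtype.val ha).symm⟩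

/-- **The dichotomy.** -/
theorem dich [Finite F] (hK : Nat.card F = 2 ∨ Nat.card F = 3) {M : SL (Fin 6) F} (hM : M.1 ≠ -1) :
    (∃ P : SL (Fin 6) F, Good (P⁻¹ * M * P).1) ∨
      ((3 : F) = 0 ∧ ∃ P : SL (Fin 6) F, (P⁻¹ * M * P).1 = M0 F) := by
  set N : (Fin 6 → F) →ₗ[F] (Fin 6 → F) := M.1.mulVecLin - LinearMap.id with hN
  have hNx : ∀ x, N x = M.1 *ᵥ x - x := fun x => rfl
  by_cases h : ∀ c : F, 2 ≤ finrank F (LinearMap.range (N - c • LinearMap.id))
  · left
    obtain ⟨w₁, w₂, hw⟩ := exists_pair N (by simp) h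
    exact good_of_li6 hw
  · push Not at h
    obtain ⟨c, hc⟩ := h
    obtain ⟨z, hz⟩ := exists_of_finrank hc
    rcases card_two_or_three hK c with h0 | h0 | ⟨h0, h3⟩
    · left
      refine good_of_rank_one (z := z) fun x => ?_
      obtain ⟨a, ha⟩ := hz x
      refine ⟨a, ?_⟩
      rw [← ha, h0, zero_smul, sub_zero, hNx]
    · exfalso
      -- then `M` has rank at most one
      have h2 : ∀ x, ∃ a : F, M.1 *ᵥ x = a • z := by
        intro x
        obtain ⟨a, ha⟩ := hz x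
        refine ⟨a, ?_⟩
        rw [← ha, h0]
        have h5 : (N - (-1 : F) • (LinearMap.id : (Fin 6 → F) →ₗ[F] (Fin 6 → F))) x = N x + x := by simp
        rw [h5, hNx, sub_add_cancel]
      have h3 : ∀ x, M.1 *ᵥ ((M⁻¹).1 *ᵥ x) = x := by
        intro x
        rw [Matrix.mulVec_mulVec, ← Matrix.SpecialLinearGroup.coe_mul, mul_inv_cancel,
          Matrix.SpecialLinearGroup.coe_one, Matrix.one_mulVec]
      have h4 : ∀ x : Fin 6 → F, ∃ a : F, x = a • z := by
        intro x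
        obtain ⟨a, ha⟩ := h2 ((M⁻¹).1 *ᵥ x)
        exact ⟨a, by rw [← ha, h3]⟩
      obtain ⟨a, ha⟩ := h4 (Pi.single 0 1)
      obtain ⟨b, hb⟩ := h4 (Pi.single 1 1)
      have e00 := congrFun ha 0
      have e01 := congrFun ha 1
      have e11 := congrFun hb 1
      simp only [Pi.single_eq_same, Pi.smul_apply, smul_eq_mul] at e00 e11
      rw [Pi.single_eq_of_ne (by decide), Pi.smul_apply, smul_eq_mul] at e01
      have hz1 : z 1 ≠ 0 := fun h5 => by rw [h5, mul_zero] at e11; exact one_ne_zero e11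
      rcases mul_eq_zero.1 e01.symm with h5 | h5
      · rw [h5, zero_mul] at e00
        exact one_ne_zero e00
      · exact hz1 h5
    · right
      refine ⟨h3, bad_form hM (z := z) fun x => ?_⟩
      obtain ⟨a, ha⟩ := hz x
      refine ⟨a, ?_⟩
      rw [← ha, h0, one_smul, LinearMap.sub_apply, hNx, LinearMap.id_apply]
      funext i
      simp only [Pi.add_apply, Pi.sub_apply]
      linear_combination (x i) * h3

/-! ### The second component -/

/-- the matrix of the second component -/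
def MK (a0 a2 a3 b0 b1 b2 b3 : F) : Matrix (Fin 5) (Fin 5) F :=
  !![-1, -1, 0, 0, -(b0 + b1); 0, -1, 0, 0, -b1; 0, 0, -1, 0, -b2; 0, 0, 0, -1, -b3;
    -a0, -a0, -a2, -a3, 1 - (a0 * b0 + a0 * b1 + a2 * b2 + a3 * b3)]

theorem MK_li (h3 : (3 : F) = 0) (a0 a2 a3 b0 b1 b2 b3 : F) : ∃ w₁ w₂ : Fin 5 → F,
    LinearIndependent F ![w₁, w₂, MK a0 a2 a3 b0 b1 b2 b3 *ᵥ w₁ - w₁, MK a0 a2 a3 b0 b1 b2 b3 *ᵥ w₂ - w₂] := by
  have key : ∀ w₁ w₂ : Fin 5 → F, (∀ s t u v : F, (∀ i, s * w₁ i + t * w₂ i +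
      u * ((MK a0 a2 a3 b0 b1 b2 b3 *ᵥ w₁) i - w₁ i) + v * ((MK a0 a2 a3 b0 b1 b2 b3 *ᵥ w₂) i - w₂ i) = 0) →
      s = 0 ∧ t = 0 ∧ u = 0 ∧ v = 0) →
      LinearIndependent F ![w₁, w₂, MK a0 a2 a3 b0 b1 b2 b3 *ᵥ w₁ - w₁, MK a0 a2 a3 b0 b1 b2 b3 *ᵥ w₂ - w₂] := by
    intro w₁ w₂ h
    rw [Fintype.linearIndependent_iff]
    intro g hg
    rw [Fin.sum_univ_four] at hg
    obtain ⟨h0, h1, h2, h3⟩ := h (g 0) (g 1) (g 2) (g 3) (fun i => congrFun hg i)
    intro i
    fin_cases i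
    · exact h0
    · exact h1
    · exact h2
    · exact h3
  have two : ∀ v : F, 2 * v = 0 → v = 0 := fun v hv => by linear_combination v * h3 - hv
  by_cases ha : a2 ≠ 0
  · refine ⟨![0, 1, 0, 0, 0], ![0, 0, 1, 0, 0], key _ _ fun s t u v h => ?_⟩
    have e0 := h 0
    have e1 := h 1
    have e2 := h 2
    have e4 := h 4
    simp only [MK, Matrix.mulVec, dotProduct, Fin.sum_univ_five, _root_.Fin.isValue, _root_.Matrix.cons_val_zero, _root_.MulZeroClass.mul_zero, _root_.add_zero, _root_.neg_add_rev, _root_.Matrix.of_apply, _root_.Matrix.cons_val', _root_.Matrix.cons_val_fin_one, _root_.Matrix.cons_val_one, _root_.mul_one, _root_.zero_add, _root_.Matrix.cons_val, _root_.sub_zero, _root_.mul_neg, _root_.sub_self, _root_.neg_eq_zero] at e0 e1 e2 e4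
    have hu : u = 0 := by simpa using e0
    have hv : a2 * v = 0 := by linear_combination -e4 - a0 * hu
    have hv' := (mul_eq_zero.1 hv).resolve_left ha
    refine ⟨by linear_combination e1 + 2 * hu, by linear_combination e2 + 2 * hv', hu, hv'⟩
  · by_cases ha' : a3 ≠ 0
    · refine ⟨![0, 1, 0, 0, 0], ![0, 0, 0, 1, 0], key _ _ fun s t u v h => ?_⟩
      have e0 := h 0
      have e1 := h 1
      have e2 := h 3
      have e4 := h 4
      simp only [MK, Matrix.mulVec, dotProduct, Fin.sum_univ_five, _root_.Fin.isValue, _root_.Matrix.cons_val_zero, _root_.MulZeroClass.mul_zero, _root_.add_zero, _root_.neg_add_rev, _root_.Matrix.of_apply, _root_.Matrix.cons_val', _root_.Matrix.cons_val_fin_one, _root_.Matrix.cons_val_one, _root_.mul_one, _root_.zero_add, _root_.Matrix.cons_val, _root_.sub_zero, _root_.mul_neg, _root_.sub_self, _root_.neg_eq_zero] at e0 e1 e2 e4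
      have hu : u = 0 := by simpa using e0
      have hv : a3 * v = 0 := by linear_combination -e4 - a0 * hu
      have hv' := (mul_eq_zero.1 hv).resolve_left ha'
      refine ⟨by linear_combination e1 + 2 * hu, by linear_combination e2 + 2 * hv', hu, hv'⟩
    · push Not at ha ha'
      subst ha ha'
      by_cases hb : b2 = 0 ∧ b3 = 0
      · obtain ⟨rfl, rfl⟩ := hb
        refine ⟨![0, 1, 1, 0, 0], ![0, 0, 0, 1, 1], key _ _ fun s t u v h => ?_⟩
        have e0 := h 0
        have e1 := h 1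
        have e2 := h 2
        have e3 := h 3
        have e4 := h 4
        simp only [MK, Matrix.mulVec, dotProduct, Fin.sum_univ_five, _root_.Fin.isValue, _root_.Matrix.cons_val_zero, _root_.MulZeroClass.mul_zero, _root_.add_zero, _root_.neg_add_rev, _root_.neg_zero, _root_.Matrix.of_apply, _root_.Matrix.cons_val', _root_.Matrix.cons_val_fin_one, _root_.Matrix.cons_val_one, _root_.mul_one, _root_.zero_add, _root_.Matrix.cons_val, _root_.sub_zero, _root_.mul_neg, _root_.sub_self, _root_.sub_sub_cancel_left] at e0 e1 e2 e3 e4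
        have hu : u = -(b0 + b1) * v := by first | linear_combination -e0 | linear_combination e0
        have ht : t = 0 := by linear_combination e4 + a0 * hu
        have hv : v = 0 := two v (by linear_combination ht - e3)
        have hu' : u = 0 := by rw [hu, hv, mul_zero]
        exact ⟨by linear_combination e2 + 2 * hu', ht, hu', hv⟩
      · refine ⟨![0, 1, 0, 0, 0], ![0, 0, 0, 0, 1], key _ _ fun s t u v h => ?_⟩
        have e0 := h 0
        have e1 := h 1
        have e2 := h 2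
        have e3 := h 3
        have e4 := h 4
        simp only [MK, Matrix.mulVec, dotProduct, Fin.sum_univ_five, _root_.Fin.isValue, _root_.Matrix.cons_val_zero, _root_.MulZeroClass.mul_zero, _root_.add_zero, _root_.neg_add_rev, _root_.neg_zero, _root_.MulZeroClass.zero_mul, _root_.Matrix.of_apply, _root_.Matrix.cons_val', _root_.Matrix.cons_val_fin_one, _root_.Matrix.cons_val_one, _root_.mul_one, _root_.zero_add, _root_.Matrix.cons_val, _root_.sub_zero, _root_.mul_neg, _root_.sub_self, _root_.neg_eq_zero, _root_.mul_eq_zero, _root_.sub_sub_cancel_left] at e0 e1 e2 e3 e4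
        have hv : v = 0 := by
          by_contra hv
          exact hb ⟨by (clear * - e2 hv; tauto), by (clear * - e3 hv; tauto)⟩
        subst hv
        have hu : u = 0 := by simpa using e0
        subst hu
        exact ⟨by linear_combination e1, by linear_combination e4, rfl, rfl⟩

end Cfsg.Agent.H143.Pw.Cor
end

-- part: H143/Pw/ETab
section
/-!
The corner in `E₆` (S2465): tables and inclusions.
-/

set_option autoImplicit false
set_option linter.unusedSectionVars false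

namespace Cfsg.Agent.H143.Pw.ESix

open CoxeterSystem Cfsg.Agent.ChevalleyStructure.CoxeterGeom Cfsg.Agent.Tits.Roots Cfsg.Agent.Tits.Core
  Cfsg.Agent.Nodes.Reps Cfsg.Agent.Nodes.BNOf Cfsg.Agent.Nodes.RGDLib Cfsg.Agent.Nodes.Bruhat
  Cfsg.Agent.Nodes.OppDec Cfsg.Agent.Nodes.LeviDec Cfsg.Agent.Nodes.KindChev Cfsg.Agent.Nodes.ChevCls
  Cfsg.Agent.Nodes.StabComb
  Cfsg.Agent.OddHalf.NI.ModelChev
  Cfsg.Agent.H162.GaussDec Cfsg.Agent.H162.GaussLevi Cfsg.Agent.H162.GaussSL
  Cfsg.Agent.H162.GaussMain Cfsg.Agent.H162.GaussPQ Cfsg.Agent.H162.GaussExc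
open Cfsg.Lie Cfsg.Agent.ChevalleyStructure Cfsg.Agent.ChevalleyStructure.Elts
  Cfsg.Agent.ChevalleyStructure.RootVec Cfsg.Agent.ChevalleyStructure.NPerm
  Cfsg.Agent.ChevalleyStructure.CoxeterGeomTypes Cfsg.Agent.Nodes.RGDChev Cfsg.Agent.KFacts.RgdChevCoord
open Cfsg.Agent.TitsThree.KExcRT Cfsg.Agent.AGraded
open Cfsg.Agent.H162.GaussExcMain (exists_hom_D)
open Cfsg.Agent.H162.GaussPSL (embf embf_tv)
open Cfsg.Agent.H143.Pw.Cor

universe u

/-- the block of type `A₅` -/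
def a5 : Fin 6 → Fin 6 → ℕ := ![![0, 36, 38, 41, 45, 60], ![35, 0, 37, 40, 44, 59], ![33, 34, 0, 39, 43, 58],
  ![30, 31, 32, 0, 42, 57], ![26, 27, 28, 29, 0, 56], ![11, 12, 13, 14, 15, 0]]

/-- the block of type `A₄` -/
def a4 : Fin 5 → Fin 5 → ℕ := ![![0, 36, 38, 41, 49], ![35, 0, 37, 40, 48], ![33, 34, 0, 39, 47], ![30, 31, 32, 0, 46],
  ![22, 23, 24, 25, 0]]

/-- the block of type `A₂` -/
def a2 : Fin 3 → Fin 3 → ℕ := ![![0, 42, 51], ![29, 0, 48], ![20, 23, 0]]

theorem rt5 : RTa chevE6 a5 ∧ (RTb chevE6 a5 fun _ _ => 1) ∧ RTc chevE6 a5 ∧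
    ∀ i j, i ≠ j → a5 j i = chevE6.neg (a5 i j) := by decide +kernel

theorem rt4 : RTa chevE6 a4 ∧ (RTb chevE6 a4 fun _ _ => 1) ∧ RTc chevE6 a4 ∧
    ∀ i j, i ≠ j → a4 j i = chevE6.neg (a4 i j) := by decide +kernel

theorem rt2 : RTa chevE6 a2 ∧ (RTb chevE6 a2 fun _ _ => 1) ∧ RTc chevE6 a2 ∧
    ∀ i j, i ≠ j → a2 j i = chevE6.neg (a2 i j) := by decide +kernel

/-- the type -/
theorem hp : IsType chevE6 6 CoxeterMatrix.E₆ := Cfsg.Agent.Nodes.KindE.isType6

/-- the Coxeter system -/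
abbrev cs := CoxeterMatrix.E₆.toCoxeterSystem

/-- the subgroup generated by the root groups with a property of the coordinates -/
def SP (K : Type u) [Field K] (P : (Fin 6 → ℤ) → Prop) : Subgroup ↥(chevE6.group K) :=
  RGD.Sup (XX chevE6 6 K) {x | IsRoot cs hp.isCartan x ∧ P x}

variable {K : Type u} [Field K]

theorem SP_le {P : (Fin 6 → ℤ) → Prop} {H : Subgroup ↥(chevE6.group K)}
    (h : ∀ q < 72, P (vec chevE6 6 q) → ∀ c : K, xc hp (vec chevE6 6 q) c ∈ H) : SP K P ≤ H := by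
  refine RGD.Sup_le fun x hx => ?_
  obtain ⟨hx1, hx2⟩ := hx
  obtain ⟨q, hq, rfl⟩ := (isRoot_iff hp _ x).1 hx1
  intro y hy
  obtain ⟨c, rfl⟩ := (mem_XX hp hq y).1 hy
  exact h q hq hx2 c

theorem mem_SP {P : (Fin 6 → ℤ) → Prop} {q : ℕ} (hq : q < 72) (h : P (vec chevE6 6 q)) (c : K) :
    xc hp (vec chevE6 6 q) c ∈ SP K P :=
  RGD.le_Sup (S := {x | IsRoot cs hp.isCartan x ∧ P x}) ⟨isRoot_vec hp _ hq, h⟩ ((mem_XX hp hq _).2 ⟨_, rfl⟩)

theorem SP_mono {P Q : (Fin 6 → ℤ) → Prop} (h : ∀ q < 72, P (vec chevE6 6 q) → Q (vec chevE6 6 q)) :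
    SP K P ≤ SP K Q := SP_le fun q hq hP c => mem_SP hq (h q hq hP) c

/-! ### Properties -/

/-- `J' = {0, 1, 2, 3, 5}` -/
abbrev Jp : List (Fin 6) := [0, 1, 2, 3, 5]

/-- the nodes of the block `A₅` -/
abbrev J5 : List (Fin 6) := [0, 2, 3, 4, 5]

/-- the nodes of the second block -/
abbrev JK : List (Fin 6) := [1, 3, 4, 5]

/-- lower part -/
abbrev Pm (x : Fin 6 → ℤ) : Prop := x 4 < 0 ∨ (x 4 = 0 ∧ x 5 = 0)

/-- upper part -/
abbrev Pp (x : Fin 6 → ℤ) : Prop := 0 < x 4 ∨ (x 4 = 0 ∧ x 5 = 0)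

/-- the block of type `A₄ = {0, 2, 3, 1}` -/
abbrev PL (x : Fin 6 → ℤ) : Prop := x 4 = 0 ∧ x 5 = 0

theorem VNJ_eq {J : List (Fin 6)} : VNJ cs hp.isCartan (XX chevE6 6 K) {k | k ∈ J} =
    SP K (fun x => ∃ k, k ∉ J ∧ x k < 0) := by
  refine le_antisymm (RGD.Sup_le fun x hx => ?_) (RGD.Sup_le fun x hx => ?_)
  · refine RGD.le_Sup (S := {x | IsRoot cs hp.isCartan x ∧ ∃ k, k ∉ J ∧ x k < 0}) ?_
    obtain ⟨h1, h2, k, hk, hk0⟩ := hx
    refine ⟨?_, k, hk, ?_⟩
    · have := h1.neg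
      rwa [_root_.neg_neg] at this
    · rw [Pi.neg_apply] at hk0
      linarith
  · obtain ⟨h1, k, hk, hk0⟩ := hx
    refine RGD.le_Sup (S := NotNJ cs hp.isCartan {k | k ∈ J}) ?_
    have h2 : 0 < (-x) k := by rw [Pi.neg_apply]; linarith
    exact ⟨h1.neg, nonneg_of_pos_apply h1.neg h2, k, hk, h2⟩

theorem VJ_eq {J : List (Fin 6)} : VJ cs hp.isCartan (XX chevE6 6 K) {k | k ∈ J} =
    SP K (fun x => ∃ k, k ∉ J ∧ 0 < x k) := by
  refine le_antisymm (RGD.Sup_le fun x hx => ?_) (RGD.Sup_le fun x hx => ?_)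
  · exact RGD.le_Sup (S := {x | IsRoot cs hp.isCartan x ∧ ∃ k, k ∉ J ∧ 0 < x k}) ⟨hx.1, hx.2.2⟩
  · obtain ⟨h1, k, hk, hk0⟩ := hx
    exact RGD.le_Sup (S := NotJ cs hp.isCartan {k | k ∈ J}) ⟨h1, nonneg_of_pos_apply h1 hk0, k, hk, hk0⟩

theorem tab5m : ∀ q < 72, (∃ k, k ∉ J5 ∧ vec chevE6 6 q k < 0) → Pm (vec chevE6 6 q) := by decide +kernel
theorem tab5p : ∀ q < 72, (∃ k, k ∉ J5 ∧ 0 < vec chevE6 6 q k) → Pp (vec chevE6 6 q) := by decide +kernel
theorem tabKm : ∀ q < 72, (∃ k, k ∉ JK ∧ vec chevE6 6 q k < 0) → Pm (vec chevE6 6 q) := by decide +kernel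
theorem tabKp : ∀ q < 72, (∃ k, k ∉ JK ∧ 0 < vec chevE6 6 q k) → Pp (vec chevE6 6 q) := by decide +kernel

theorem VNJ5_le : VNJ cs hp.isCartan (XX chevE6 6 K) {k | k ∈ J5} ≤ SP K Pm := by
  rw [VNJ_eq]; exact SP_mono tab5m

theorem VJ5_le : VJ cs hp.isCartan (XX chevE6 6 K) {k | k ∈ J5} ≤ SP K Pp := by
  rw [VJ_eq]; exact SP_mono tab5p

theorem VNJK_le : VNJ cs hp.isCartan (XX chevE6 6 K) {k | k ∈ JK} ≤ SP K Pm := by
  rw [VNJ_eq]; exact SP_mono tabKm

theorem VJK_le : VJ cs hp.isCartan (XX chevE6 6 K) {k | k ∈ JK} ≤ SP K Pp := by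
  rw [VJ_eq]; exact SP_mono tabKp

/-! ### The blocks -/

/-- the homomorphism of a block -/
def IsBlk {n : ℕ} (r : Fin n → Fin n → ℕ) (φ : Matrix.SpecialLinearGroup (Fin n) K →* ↥(chevE6.group K)) : Prop :=
  ∀ a b (hab : a ≠ b) c, φ (Matrix.SpecialLinearGroup.transvection hab c) = xc hp (vec chevE6 6 (r a b)) c

theorem exists_blk {n : ℕ} {r : Fin (n + 3) → Fin (n + 3) → ℕ}
    (h : RTa chevE6 r ∧ (RTb chevE6 r fun _ _ => 1) ∧ RTc chevE6 r ∧ ∀ i j, i ≠ j → r j i = chevE6.neg (r i j)) :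
    ∃ φ : Matrix.SpecialLinearGroup (Fin (n + 3)) K →* ↥(chevE6.group K), IsBlk r φ := by
  obtain ⟨φ, hφ⟩ := exists_hom_D hp (K := K) (ε := 1) (by norm_num) h.1 h.2.1 h.2.2.1 h.2.2.2
  exact ⟨φ, fun a b hab c => by rw [hφ, Int.cast_one, one_mul]⟩

theorem map_closure_le {n : ℕ} {r : Fin n → Fin n → ℕ} (hr : ∀ a b, a ≠ b → r a b < 72)
    {φ : Matrix.SpecialLinearGroup (Fin n) K →* ↥(chevE6.group K)} (hφ : IsBlk r φ) {P : (Fin 6 → ℤ) → Prop}
    {S : Set (Matrix.SpecialLinearGroup (Fin n) K)}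
    (hS : ∀ x ∈ S, ∃ (a b : Fin n) (h : a ≠ b) (t : K), P (vec chevE6 6 (r a b)) ∧
      x = Matrix.SpecialLinearGroup.transvection h t) {x : Matrix.SpecialLinearGroup (Fin n) K}
    (hx : x ∈ Subgroup.closure S) : φ x ∈ SP K P := by
  have h1 : Subgroup.closure S ≤ (SP K P).comap φ := by
    rw [Subgroup.closure_le]
    intro y hy
    obtain ⟨a, b, hab, t, hP, rfl⟩ := hS y hy
    change φ _ ∈ SP K P
    rw [hφ]
    exact mem_SP (hr a b hab) hP t
  exact h1 hx

theorem low5 : ∀ (a : Fin 4) (c : Fin 6), sh 4 a ≠ c → (c = 0 ∨ c = 1) → Pm (vec chevE6 6 (a5 (sh 4 a) c)) := by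
  decide +kernel
theorem up5 : ∀ (a : Fin 4) (c : Fin 6), c ≠ sh 4 a → (c = 0 ∨ c = 1) → Pp (vec chevE6 6 (a5 c (sh 4 a))) := by
  decide +kernel
theorem mid5 : ∀ (a b : Fin 4), a ≠ b → PL (vec chevE6 6 (a5 (sh 4 a) (sh 4 b))) := by
  decide +kernel
theorem low4 : ∀ (a : Fin 3) (c : Fin 5), sh 3 a ≠ c → (c = 0 ∨ c = 1) → Pm (vec chevE6 6 (a4 (sh 3 a) c)) := by
  decide +kernel
theorem up4 : ∀ (a : Fin 3) (c : Fin 5), c ≠ sh 3 a → (c = 0 ∨ c = 1) → Pp (vec chevE6 6 (a4 c (sh 3 a))) := by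
  decide +kernel
theorem mid4 : ∀ (a b : Fin 3), a ≠ b → PL (vec chevE6 6 (a4 (sh 3 a) (sh 3 b))) := by
  decide +kernel

theorem embf_mem {n m : ℕ} {r : Fin m → Fin m → ℕ} (hr : ∀ a b, a ≠ b → r a b < 72)
    {φ : Matrix.SpecialLinearGroup (Fin m) K →* ↥(chevE6.group K)} (hφ : IsBlk r φ) {P : (Fin 6 → ℤ) → Prop}
    {f : Fin n ↪ Fin m} (h : ∀ a b, a ≠ b → P (vec chevE6 6 (r (f a) (f b)))) (S : Matrix.SpecialLinearGroup (Fin n) K) :
    φ (embf K f S) ∈ SP K P := by
  have h1 : (⊤ : Subgroup (Matrix.SpecialLinearGroup (Fin n) K)) ≤ (SP K P).comap (φ.comp (embf K f)) := by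
    rw [← Cfsg.Agent.LieClassical.SLGen.closure_transvections, Subgroup.closure_le]
    rintro _ ⟨a, b, hab, c, rfl⟩
    change φ (embf K f (Matrix.SpecialLinearGroup.transvection hab c)) ∈ SP K P
    have hne : f a ≠ f b := fun h => hab (f.injective h)
    rw [embf_tv, Cfsg.Agent.TitsThree.KSideA.tv_of_ne hne, hφ]
    exact mem_SP (hr _ _ hne) (h a b hab) c
  exact h1 (Subgroup.mem_top S)

/-- a matrix in the corner form of the first block is in the cell -/
theorem cell5 {φ : Matrix.SpecialLinearGroup (Fin 6) K →* ↥(chevE6.group K)} (hφ : IsBlk a5 φ)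
    {A : Matrix.SpecialLinearGroup (Fin 6) K} (hA : _root_.Cfsg.Agent.H143.Pw.Cor.Good (n := 4) A.1) :
    ∃ a ∈ SP K Pm, ∃ l ∈ SP K PL, ∃ b ∈ SP K Pp, φ A = a * l * b := by
  obtain ⟨L, hL, S, U, hU, e⟩ := exists_dec hA
  refine ⟨φ L, map_closure_le rt5.1 hφ ?_ hL, φ (embf K (sh 4) S), embf_mem rt5.1 hφ mid5 S, φ U,
    map_closure_le rt5.1 hφ ?_ hU, by rw [e, map_mul, map_mul]⟩
  · rintro x ⟨a, c, h, t, hc, rfl⟩
    exact ⟨_, _, h, t, low5 a c h hc, rfl⟩
  · rintro x ⟨a, c, h, t, hc, rfl⟩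
    exact ⟨_, _, h, t, up5 a c h hc, rfl⟩

theorem cell4 {φ : Matrix.SpecialLinearGroup (Fin 5) K →* ↥(chevE6.group K)} (hφ : IsBlk a4 φ)
    {A : Matrix.SpecialLinearGroup (Fin 5) K} (hA : _root_.Cfsg.Agent.H143.Pw.Cor.Good (n := 3) A.1) :
    ∃ a ∈ SP K Pm, ∃ l ∈ SP K PL, ∃ b ∈ SP K Pp, φ A = a * l * b := by
  obtain ⟨L, hL, S, U, hU, e⟩ := exists_dec hA
  refine ⟨φ L, map_closure_le rt4.1 hφ ?_ hL, φ (embf K (sh 3) S), embf_mem rt4.1 hφ mid4 S, φ U,
    map_closure_le rt4.1 hφ ?_ hU, by rw [e, map_mul, map_mul]⟩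
  · rintro x ⟨a, c, h, t, hc, rfl⟩
    exact ⟨_, _, h, t, low4 a c h hc, rfl⟩
  · rintro x ⟨a, c, h, t, hc, rfl⟩
    exact ⟨_, _, h, t, up4 a c h hc, rfl⟩

end Cfsg.Agent.H143.Pw.ESix
end

-- part: H143/Pw/EGrp
section
/-!
The corner in `E₆` (S2465): the groups.
-/

set_option autoImplicit false
set_option linter.unusedSectionVars false

namespace Cfsg.Agent.H143.Pw.ESix

open CoxeterSystem Cfsg.Agent.ChevalleyStructure.CoxeterGeom Cfsg.Agent.Tits.Roots Cfsg.Agent.Tits.Core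
  Cfsg.Agent.Nodes.Reps Cfsg.Agent.Nodes.BNOf Cfsg.Agent.Nodes.RGDLib Cfsg.Agent.Nodes.Bruhat
  Cfsg.Agent.Nodes.OppDec Cfsg.Agent.Nodes.LeviDec Cfsg.Agent.Nodes.KindChev Cfsg.Agent.Nodes.ChevCls
  Cfsg.Agent.Nodes.StabComb
  Cfsg.Agent.OddHalf.NI.ModelChev
  Cfsg.Agent.H162.GaussDec Cfsg.Agent.H162.GaussLevi Cfsg.Agent.H162.GaussSL
  Cfsg.Agent.H162.GaussMain Cfsg.Agent.H162.GaussPQ Cfsg.Agent.H162.GaussExc
open Cfsg.Lie Cfsg.Agent.ChevalleyStructure Cfsg.Agent.ChevalleyStructure.Elts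
  Cfsg.Agent.ChevalleyStructure.RootVec Cfsg.Agent.ChevalleyStructure.NPerm
  Cfsg.Agent.ChevalleyStructure.CoxeterGeomTypes Cfsg.Agent.Nodes.RGDChev Cfsg.Agent.KFacts.RgdChevCoord
open Cfsg.Agent.TitsThree.KExcRT Cfsg.Agent.AGraded
open Cfsg.Agent.H162.GaussPSL (embf embf_tv)
open Cfsg.Agent.H143.Pw.Cor

universe u

variable {K : Type u} [Field K]

local notation "SLn" => Matrix.SpecialLinearGroup
local notation "tvn" => Matrix.SpecialLinearGroup.transvection

/-! ### The doublet -/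

/-- the linear form -/
abbrev gf (x : Fin 6 → ℤ) : ℤ := -x 0 - x 1 - x 3 + 2 * x 4 - 2 * x 5

/-- the roots of the radical outside the doublet -/
abbrev PN (x : Fin 6 → ℤ) : Prop := x 1 < 0 ∧ 0 < gf x

theorem SP_normalizer [Finite K] {x : Fin 6 → ℤ} (hx : IsRoot cs hp.isCartan x) (h1 : x 1 ≤ 0) (h2 : gf x = 0) :
    XX chevE6 6 K x ≤ Subgroup.normalizer (SP K PN : Set ↥(chevE6.group K)) := by
  obtain ⟨p, hpc⟩ := CharP.exists K
  have : Fact p.Prime := ⟨(CharP.char_is_prime_or_zero K p).resolve_right (CharP.char_ne_zero_of_finite K p)⟩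
  have R := rgd (K := K) hp cs p
  refine R.le_normalizer hx fun y hy => ⟨hy.1, Or.inr ⟨?_, fun z hz => ?_⟩⟩
  · rintro rfl
    have := hy.2.1
    simp only [Pi.neg_apply] at h1
    omega
  · obtain ⟨hr, m, a, b, hm, ha, hb, e⟩ := hz
    have e1 := congrFun e 1
    have ec : ∀ i, m * z i = a * x i + b * y i := fun i => by
      have := congrFun e i
      simpa only [Pi.add_apply, Pi.smul_apply, smul_eq_mul] using this
    refine ⟨hr, ?_, ?_⟩
    · have h3 : m * z 1 < 0 := by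
        rw [ec 1]
        have := mul_neg_of_pos_of_neg hb hy.2.1
        have h4 : a * x 1 ≤ 0 := mul_nonpos_of_nonneg_of_nonpos ha.le h1
        omega
      by_contra hcon
      exact absurd (mul_nonneg hm.le (not_lt.1 hcon)) (not_le.2 h3)
    · have h3 : m * gf z = b * gf y := by
        have : m * gf z = a * gf x + b * gf y := by
          simp only [gf]
          linear_combination -ec 0 - ec 1 - ec 3 + 2 * ec 4 - 2 * ec 5
        rw [this, h2, mul_zero, zero_add]
      have h4 : 0 < m * gf z := by rw [h3]; exact mul_pos hb hy.2.2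
      exact pos_of_mul_pos_right h4 hm.le

/-- a matrix of the doublet -/
def rw3 (c d : K) : SLn (Fin 3) K := ⟨!![1, 0, 0; 0, 1, 0; c, d, 1], by rw [Matrix.det_fin_three]; simp⟩

theorem rw3_mul (c d c' d' : K) : rw3 c d * rw3 c' d' = rw3 (c + c') (d + d') := by
  apply Subtype.ext
  change !![1, 0, 0; 0, 1, 0; c, d, 1] * !![1, 0, 0; 0, 1, 0; c', d', 1] = !![1, 0, 0; 0, 1, 0; c + c', d + d', 1]
  ext i j
  fin_cases i <;> fin_cases j <;> simp [Matrix.mul_apply, Fin.sum_univ_three, add_comm]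

theorem rw3_20 (h : (2 : Fin 3) ≠ 0) (c : K) : tvn h c = rw3 c 0 := by
  apply Subtype.ext
  ext i j
  (revert i j; simp only [rw3, Matrix.SpecialLinearGroup.transvection, Matrix.transvection, _root_.Fin.forall_fin_succ, Fin.isValue, _root_.Matrix.add_apply, _root_.Matrix.of_apply, _root_.Matrix.cons_val', _root_.Matrix.cons_val_fin_one, _root_.Matrix.cons_val_zero, _root_.Matrix.cons_val_succ, _root_.Fin.succ_zero_eq_one, _root_.zero_ne_one, _root_.and_false, _root_.not_false_eq_true, _root_.Matrix.single_apply_of_ne, _root_.add_zero, _root_.Fin.succ_one_eq_two, Fin.reduceEq, _root_.IsEmpty.forall_iff, _root_.and_true, _root_.Matrix.one_apply_eq, Nat.reduceAdd, _root_.ne_eq, _root_.Matrix.one_apply_ne, _root_.and_self, _root_.Fin.succ_ne_zero, _root_.zero_add, _root_.Matrix.single_apply_same])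

theorem rw3_21 (h : (2 : Fin 3) ≠ 1) (c : K) : tvn h c = rw3 0 c := by
  apply Subtype.ext
  ext i j
  (revert i j; simp only [rw3, Matrix.SpecialLinearGroup.transvection, Matrix.transvection, _root_.Fin.forall_fin_succ, Fin.isValue, _root_.Matrix.add_apply, _root_.Matrix.of_apply, _root_.Matrix.cons_val', _root_.Matrix.cons_val_fin_one, _root_.one_ne_zero, _root_.and_false, _root_.not_false_eq_true, _root_.Matrix.single_apply_of_ne, _root_.add_zero, _root_.Matrix.cons_val_zero, _root_.Matrix.cons_val_succ, _root_.Fin.succ_zero_eq_one, _root_.Fin.succ_one_eq_two, Fin.reduceEq, _root_.IsEmpty.forall_iff, _root_.and_true, _root_.Matrix.one_apply_eq, Nat.reduceAdd, _root_.ne_eq, _root_.zero_ne_one, _root_.Matrix.one_apply_ne, _root_.and_self, _root_.Fin.succ_ne_zero, _root_.true_and, _root_.Matrix.single_apply_same, _root_.zero_add])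

theorem rw3_eq (c d : K) : rw3 c d = tvn (show (2 : Fin 3) ≠ 0 by decide) c * tvn (show (2 : Fin 3) ≠ 1 by decide) d := by
  rw [rw3_20, rw3_21, rw3_mul, add_zero, zero_add]

theorem tab2a : ∀ q < 72, vec chevE6 6 q 1 < 0 → PN (vec chevE6 6 q) ∨ q = 20 ∨ q = 23 := by decide +kernel

/-- the doublet as a subgroup -/
def Row (φ : SLn (Fin 3) K →* ↥(chevE6.group K)) : Subgroup ↥(chevE6.group K) where
  carrier := {x | ∃ c d, x = φ (rw3 c d)}
  one_mem' := ⟨0, 0, by
    have : rw3 (0 : K) 0 = 1 := by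
      apply Subtype.ext
      ext i j
      (revert i j; simp only [rw3, _root_.Fin.forall_fin_succ, _root_.Matrix.of_apply, _root_.Matrix.cons_val', _root_.Matrix.cons_val_fin_one, _root_.Matrix.SpecialLinearGroup.coe_one, Fin.isValue, _root_.Matrix.cons_val_zero, _root_.Matrix.cons_val_succ, _root_.IsEmpty.forall_iff, _root_.and_true, _root_.Matrix.one_apply_eq, Nat.reduceAdd, _root_.Fin.succ_zero_eq_one, _root_.ne_eq, _root_.zero_ne_one, _root_.not_false_eq_true, _root_.Matrix.one_apply_ne, _root_.Fin.succ_one_eq_two, Fin.reduceEq, _root_.and_self, _root_.Fin.succ_ne_zero, _root_.true_and])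
    rw [this, map_one]⟩
  mul_mem' := by
    rintro _ _ ⟨c, d, rfl⟩ ⟨c', d', rfl⟩
    exact ⟨_, _, by rw [← map_mul, rw3_mul]⟩
  inv_mem' := by
    rintro _ ⟨c, d, rfl⟩
    refine ⟨-c, -d, ?_⟩
    rw [← map_inv]
    congr 1
    rw [inv_eq_iff_mul_eq_one, rw3_mul, add_neg_cancel, add_neg_cancel]
    apply Subtype.ext
    ext i j
    (revert i j; simp only [rw3, _root_.Fin.forall_fin_succ, _root_.Matrix.of_apply, _root_.Matrix.cons_val', _root_.Matrix.cons_val_fin_one, _root_.Matrix.SpecialLinearGroup.coe_one, Fin.isValue, _root_.Matrix.cons_val_zero, _root_.Matrix.cons_val_succ, _root_.IsEmpty.forall_iff, _root_.and_true, _root_.Matrix.one_apply_eq, Nat.reduceAdd, _root_.Fin.succ_zero_eq_one, _root_.ne_eq, _root_.zero_ne_one, _root_.not_false_eq_true, _root_.Matrix.one_apply_ne, _root_.Fin.succ_one_eq_two, Fin.reduceEq, _root_.and_self, _root_.Fin.succ_ne_zero, _root_.true_and])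

theorem nrm_phi2 [Finite K] {φ : SLn (Fin 3) K →* ↥(chevE6.group K)} (hφ : IsBlk a2 φ) {a b : Fin 3} (hab : a ≠ b)
    (h : vec chevE6 6 (a2 a b) 1 ≤ 0 ∧ gf (vec chevE6 6 (a2 a b)) = 0) (c : K) :
    φ (tvn hab c) ∈ Subgroup.normalizer (SP K PN : Set ↥(chevE6.group K)) := by
  rw [hφ]
  exact SP_normalizer (isRoot_vec hp _ (rt2.1 a b hab)) h.1 h.2 ((mem_XX hp (rt2.1 a b hab) _).2 ⟨_, rfl⟩)

theorem tab2b : ∀ a b : Fin 3, a ≠ b → b ≠ 2 → vec chevE6 6 (a2 a b) 1 ≤ 0 ∧ gf (vec chevE6 6 (a2 a b)) = 0 := by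
  decide +kernel

theorem tab5R : ∀ q < 72, (∃ k, k ∉ J5 ∧ vec chevE6 6 q k < 0) → vec chevE6 6 q 1 < 0 := by decide +kernel

/-- the elements of the radical -/
theorem exists_row [Finite K] {φ : SLn (Fin 3) K →* ↥(chevE6.group K)} (hφ : IsBlk a2 φ) {w : ↥(chevE6.group K)}
    (hw : w ∈ VNJ cs hp.isCartan (XX chevE6 6 K) {k | k ∈ J5}) :
    ∃ n ∈ SP K PN, ∃ c d : K, w = n * φ (rw3 c d) := by
  rw [VNJ_eq] at hw
  have h1 : SP K (fun x => ∃ k, k ∉ J5 ∧ x k < 0) ≤ SP K PN ⊔ Row φ := by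
    refine SP_le fun q hq hP c => ?_
    rcases tab2a q hq (tab5R q hq hP) with h | rfl | rfl
    · exact Subgroup.mem_sup_left (mem_SP hq h c)
    · refine Subgroup.mem_sup_right ⟨c, 0, ?_⟩
      have := hφ 2 0 (by decide) c
      rw [← rw3_20 (by decide), this]
      rfl
    · refine Subgroup.mem_sup_right ⟨0, c, ?_⟩
      have := hφ 2 1 (by decide) c
      rw [← rw3_21 (by decide), this]
      rfl
  have h2 : Row φ ≤ Subgroup.normalizer (SP K PN : Set ↥(chevE6.group K)) := by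
    rintro _ ⟨c, d, rfl⟩
    rw [rw3_eq, map_mul]
    exact mul_mem (nrm_phi2 hφ _ (tab2b _ _ (by decide) (by decide)) _)
      (nrm_phi2 hφ _ (tab2b _ _ (by decide) (by decide)) _)
  have h3 : w ∈ ((SP K PN ⊔ Row φ : Subgroup ↥(chevE6.group K)) : Set ↥(chevE6.group K)) := h1 hw
  rw [Subgroup.coe_mul_of_right_le_normalizer_left _ _ h2, Set.mem_mul] at h3
  obtain ⟨n, hn, _, ⟨c, d, rfl⟩, e⟩ := h3
  exact ⟨n, hn, c, d, e.symm⟩

/-- the group `SL₂` of the doublet -/
def S2 (K : Type u) [Field K] : Subgroup (SLn (Fin 3) K) :=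
  Subgroup.closure {x | ∃ (a b : Fin 3) (h : a ≠ b) (t : K), ((a = 0 ∧ b = 1) ∨ (a = 1 ∧ b = 0)) ∧ x = tvn h t}

theorem t01_mem (h : (0 : Fin 3) ≠ 1) (t : K) : tvn h t ∈ S2 K :=
  Subgroup.subset_closure ⟨0, 1, h, t, Or.inl ⟨rfl, rfl⟩, rfl⟩

theorem t10_mem (h : (1 : Fin 3) ≠ 0) (t : K) : tvn h t ∈ S2 K :=
  Subgroup.subset_closure ⟨1, 0, h, t, Or.inr ⟨rfl, rfl⟩, rfl⟩

theorem coe_t01 (h : (0 : Fin 3) ≠ 1) (t : K) : (tvn h t).1 = !![1, t, 0; 0, 1, 0; 0, 0, 1] := by
  ext i j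
  (revert i j; simp only [Matrix.SpecialLinearGroup.transvection, Matrix.transvection, _root_.Fin.forall_fin_succ, Fin.isValue, _root_.Matrix.add_apply, _root_.Matrix.of_apply, _root_.Matrix.cons_val', _root_.Matrix.cons_val_fin_one, _root_.one_ne_zero, _root_.and_false, _root_.not_false_eq_true, _root_.Matrix.single_apply_of_ne, _root_.add_zero, _root_.Matrix.cons_val_zero, _root_.Matrix.cons_val_succ, _root_.Fin.succ_zero_eq_one, _root_.Fin.succ_one_eq_two, Fin.reduceEq, _root_.IsEmpty.forall_iff, _root_.and_true, _root_.Matrix.one_apply_eq, Nat.reduceAdd, _root_.ne_eq, _root_.zero_ne_one, _root_.Matrix.one_apply_ne, _root_.Matrix.single_apply_same, _root_.zero_add, _root_.and_self, _root_.Fin.succ_ne_zero, _root_.true_and])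

theorem coe_t10 (h : (1 : Fin 3) ≠ 0) (t : K) : (tvn h t).1 = !![1, 0, 0; t, 1, 0; 0, 0, 1] := by
  ext i j
  (revert i j; simp only [Matrix.SpecialLinearGroup.transvection, Matrix.transvection, _root_.Fin.forall_fin_succ, Fin.isValue, _root_.Matrix.add_apply, _root_.Matrix.of_apply, _root_.Matrix.cons_val', _root_.Matrix.cons_val_fin_one, _root_.Matrix.cons_val_zero, _root_.Matrix.cons_val_succ, _root_.Fin.succ_zero_eq_one, _root_.zero_ne_one, _root_.and_false, _root_.not_false_eq_true, _root_.Matrix.single_apply_of_ne, _root_.add_zero, _root_.Fin.succ_one_eq_two, Fin.reduceEq, _root_.IsEmpty.forall_iff, _root_.and_true, _root_.Matrix.one_apply_eq, _root_.one_ne_zero, Nat.reduceAdd, _root_.ne_eq, _root_.Matrix.one_apply_ne, _root_.and_self, _root_.Fin.succ_ne_zero, _root_.zero_add, _root_.Matrix.single_apply_same])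

/-- the second coordinate of the doublet can be removed -/
theorem exists_kill (c d : K) : ∃ s ∈ S2 K, ∃ c' : K, s * rw3 c d = rw3 c' 0 * s := by
  have h01 : (0 : Fin 3) ≠ 1 := by decide
  have h10 : (1 : Fin 3) ≠ 0 := by decide
  by_cases hd : d = 0
  · exact ⟨1, one_mem _, c, by rw [hd, one_mul, mul_one]⟩
  by_cases hc : c = 0
  · -- rotate
    refine ⟨tvn h01 1 * tvn h10 (-1) * tvn h01 1, mul_mem (mul_mem (t01_mem _ _) (t10_mem _ _)) (t01_mem _ _), d, ?_⟩
    apply Subtype.ext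
    change (tvn h01 1).1 * (tvn h10 (-1)).1 * (tvn h01 1).1 * !![1, 0, 0; 0, 1, 0; c, d, 1] =
      !![1, 0, 0; 0, 1, 0; d, 0, 1] * ((tvn h01 1).1 * (tvn h10 (-1)).1 * (tvn h01 1).1)
    rw [coe_t01, coe_t10, hc]
    ext i j
    (revert i j; simp only [Matrix.mul_apply, Fin.sum_univ_three, _root_.Fin.forall_fin_succ, _root_.Matrix.cons_mul, _root_.Nat.succ_eq_add_one, Nat.reduceAdd, _root_.Matrix.vecMul_cons, _root_.Matrix.head_cons, _root_.one_smul, _root_.Matrix.tail_cons, _root_.zero_smul, _root_.Matrix.empty_vecMul, _root_.add_zero, _root_.Matrix.add_cons, _root_.add_neg_cancel, _root_.zero_add, _root_.Matrix.empty_add_empty, _root_.Matrix.empty_mul, _root_.Equiv.symm_apply_apply, _root_.neg_smul, _root_.Matrix.neg_cons, _root_.neg_zero, _root_.Matrix.neg_empty, _root_.neg_add_cancel, _root_.Matrix.of_apply, _root_.Matrix.cons_val', _root_.Matrix.cons_val_fin_one, Fin.isValue, _root_.Matrix.cons_val_zero, _root_.Matrix.cons_val_one,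 _root_.Matrix.cons_val, _root_.mul_one, _root_.MulZeroClass.mul_zero, _root_.mul_neg, _root_.Matrix.cons_val_succ, _root_.implies_true, _root_.and_true, _root_.MulZeroClass.zero_mul, _root_.and_self, _root_.one_mul])
  · refine ⟨tvn h01 (d / c), t01_mem _ _, c, ?_⟩
    apply Subtype.ext
    change (tvn h01 (d / c)).1 * !![1, 0, 0; 0, 1, 0; c, d, 1] = !![1, 0, 0; 0, 1, 0; c, 0, 1] * (tvn h01 (d / c)).1
    rw [coe_t01]
    ext i j
    (revert i j; simp only [Matrix.mul_apply, Fin.sum_univ_three, _root_.Fin.forall_fin_succ, _root_.Matrix.of_apply, _root_.Matrix.cons_val', _root_.Matrix.cons_val_fin_one, Fin.isValue, _root_.Matrix.cons_val_zero, _root_.Matrix.cons_val_one, _root_.Matrix.cons_val, _root_.mul_one, _root_.MulZeroClass.mul_zero, _root_.add_zero, _root_.Matrix.cons_val_succ, _root_.zero_add, _root_.implies_true, _root_.MulZeroClass.zero_mul, _root_.one_mul, _root_.forall_const, _root_.and_true, _root_.true_and]) <;> (repeat' with_reducible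 apply And.intro)
    field_simp

end Cfsg.Agent.H143.Pw.ESix
end

private theorem dce_64471e2750f2 : _root_.True := by
  try have : _root_.True := by simp only [_root_.Cfsg.Agent.H143.Pw.Cor.M0.eq_1]
  try have : _root_.True := by simp only [_root_.Cfsg.Agent.H143.Pw.Cor.MK.eq_1]
  try have : _root_.True := by simp only [_root_.Cfsg.Agent.H143.Pw.ESix.rw3.eq_1]
  exact _root_.True.intro
end

-- part: H150/Pw/ERow
section
prune_inst 0x214030440ee202000000858671201c36a40000b2006b84008c6003400340af4049820f600520311742280211200100200010008000400000042004000000002080800006b0480008460099000080000000000000300000000000000000000004000000000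
set_option linter.all false
open scoped Cfsg.Agent.FastGrp

-- part: H150/Pw/ESix
section
/-!
# `E₆(2)`, `E₆(3)`: products of two elements of order prime to `6` (S2465), from the corner and from `SL₅(q)`

* `Corner K` : every `g ≠ 1` is conjugate to `v l u`, `v ∈ VNJ`, `u ∈ VJ`, `J = {0, 1, 2, 3, 5}`, and `l` in the
  group generated by the root groups of the block `{0, 1, 2, 3}`;
* `A5 K` : every element `≠ 1` of `SL₅(K)` is a product of two elements with irreducible characteristic polynomials;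
* `six_small` : `All 6 (E₆(K))` from `Corner K` and `A5 K`.
-/

set_option autoImplicit false
set_option linter.unusedSectionVars false

namespace Cfsg.Agent.H150.Pw

open CoxeterSystem Cfsg.Agent.ChevalleyStructure.CoxeterGeom Cfsg.Agent.Tits.Roots Cfsg.Agent.Tits.Core
  Cfsg.Agent.Nodes.Reps Cfsg.Agent.Nodes.BNOf Cfsg.Agent.Nodes.RGDLib Cfsg.Agent.Nodes.Bruhat
  Cfsg.Agent.Nodes.OppDec Cfsg.Agent.Nodes.LeviDec Cfsg.Agent.Nodes.KindChev Cfsg.Agent.Nodes.ChevCls
  Cfsg.Agent.OddHalf.NI.ModelChev Cfsg.Agent.Nodes.StabComb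
  Cfsg.Agent.H162.GaussDec Cfsg.Agent.H162.GaussLevi Cfsg.Agent.H162.GaussSL Cfsg.Agent.H162.GaussReg
  Cfsg.Agent.H162.GaussPQ
  Cfsg.Agent.H928.Ore.Frame
open Cfsg.Lie Cfsg.Agent.ChevalleyStructure Cfsg.Agent.ChevalleyStructure.Elts
  Cfsg.Agent.ChevalleyStructure.RootVec Cfsg.Agent.ChevalleyStructure.NPerm
  Cfsg.Agent.ChevalleyStructure.CoxeterGeomTypes Cfsg.Agent.Nodes.RGDChev Cfsg.Agent.KFacts.RgdChevCoord
open Cfsg.Agent.H150.E6T (hp6 cs6)
open Cfsg.Agent.H78.Pw Cfsg.Agent.H85.Pw Cfsg.Agent.H194.Pw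
open Cfsg.Agent.H162.GaussExc (coord)

universe u

theorem sub4 : ∀ q < chevE6.nroots, vec chevE6 6 q 4 = 0 → vec chevE6 6 q 5 = 0 →
    ∃ a b : Fin 5, a ≠ b ∧ r5 a b = q := by
  intro q hq
  revert q
  refine @of_decide_eq_true _ ?_ ?_
  · refine @Nat.decidableBallLT _ _ fun q _ => ?_
    refine @instDecidableForall _ _ inferInstance ?_
    refine @instDecidableForall _ _ inferInstance ?_
    refine @Fintype.decidableExistsFintype _ _ (fun a => ?_) _
    refine @Fintype.decidableExistsFintype _ _ (fun b => ?_) _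
    infer_instance
  · decide +kernel

section

variable {K : Type u} [Field K]

/-- the group of the block `{0, 1, 2, 3}` -/
theorem sup_le_range : RGD.Sup (XX chevE6 6 K) {r | IsRoot cs6 hp6.isCartan r ∧ r 4 = 0 ∧ r 5 = 0} ≤
    (phi5 K).range := by
  refine RGD.Sup_le fun x hx => ?_
  obtain ⟨q, hq, rfl⟩ := (isRoot_iff hp6 _ x).1 hx.1
  intro y hy
  obtain ⟨c, rfl⟩ := (mem_XX hp6 hq _).1 hy
  obtain ⟨a, b, hab, rfl⟩ := sub4 q hq hx.2.1 hx.2.2
  refine ⟨Matrix.SpecialLinearGroup.transvection hab (((s5 a b : ℤ) : K) * c), ?_⟩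
  rw [phi5_tv, s5_sq]

/-- every `g ≠ 1` is conjugate to an element of the cell whose `A₁`-component is trivial -/
def Corner (K : Type u) [Field K] : Prop :=
  ∀ g : ↥(chevE6.group K), g ≠ 1 → ∃ x, ∃ v ∈ VNJ cs6 hp6.isCartan (XX chevE6 6 K) {k | k ∈ J5},
    ∃ l ∈ RGD.Sup (XX chevE6 6 K) {r | IsRoot cs6 hp6.isCartan r ∧ r 4 = 0 ∧ r 5 = 0},
    ∃ u ∈ VJ cs6 hp6.isCartan (XX chevE6 6 K) {k | k ∈ J5}, x * g * x⁻¹ = v * l * u

/-- every element `≠ 1` of `SL₅(K)` is a product of two elements with irreducible characteristic polynomials -/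
def A5 (K : Type u) [Field K] : Prop :=
  ∀ A : Matrix.SpecialLinearGroup (Fin 5) K, A ≠ 1 → ∃ X Y : Matrix.SpecialLinearGroup (Fin 5) K, A = X * Y ∧
    Irreducible (X : Matrix (Fin 5) (Fin 5) K).charpoly ∧ Irreducible (Y : Matrix (Fin 5) (Fin 5) K).charpoly

theorem A5.ne : (1 : Matrix.SpecialLinearGroup (Fin 5) K) ≠
    Matrix.SpecialLinearGroup.transvection (show (0 : Fin 5) ≠ 1 by decide) 1 := by
  intro h
  have h1 : (1 : Matrix.SpecialLinearGroup (Fin 5) K).1 0 1 =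
      (Matrix.SpecialLinearGroup.transvection (show (0 : Fin 5) ≠ 1 by decide) (1 : K)).1 0 1 := by rw [← h]
  have h2 : (Matrix.SpecialLinearGroup.transvection (show (0 : Fin 5) ≠ 1 by decide) (1 : K)).1 =
      Matrix.transvection 0 1 1 := rfl
  rw [h2] at h1
  simp [Matrix.transvection] at h1

theorem A5.exists_pair (h5 : A5 K) (A : Matrix.SpecialLinearGroup (Fin 5) K) :
    ∃ X Y : Matrix.SpecialLinearGroup (Fin 5) K, A = X * Y ∧
      Irreducible (X : Matrix (Fin 5) (Fin 5) K).charpoly ∧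
      (Irreducible (Y : Matrix (Fin 5) (Fin 5) K).charpoly ∨
        Irreducible ((Y⁻¹ : Matrix.SpecialLinearGroup (Fin 5) K) : Matrix (Fin 5) (Fin 5) K).charpoly) := by
  by_cases h : A = 1
  · obtain ⟨X, -, -, hX, -⟩ := h5 _ (A5.ne (K := K)).symm
    exact ⟨X, X⁻¹, by rw [h, mul_inv_cancel], hX, Or.inr (by rwa [inv_inv])⟩
  · obtain ⟨X, Y, h1, hX, hY⟩ := h5 A h
    exact ⟨X, Y, h1, hX, Or.inl hY⟩

theorem nf_inv {Y : Type*} [Group Y] {V : Subgroup Y} {c : Y} (h : NF V c⁻¹) : NF V c := by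
  intro x hx e
  refine h x hx ?_
  rw [inv_inv]
  calc c⁻¹ * x * c = c⁻¹ * (c * x * c⁻¹) * c := by rw [e]
    _ = x := by group

theorem pairs_small [Finite K] (hC : Corner K) (h5 : A5 K) (g : ↥(chevE6.group K)) :
    ∃ a b : ↥(chevE6.group K), g = a * b ∧
      a ^ (∑ a ∈ Finset.range 5, Nat.card K ^ a) = 1 ∧ b ^ (∑ a ∈ Finset.range 5, Nat.card K ^ a) = 1 := by
  obtain ⟨N, hN⟩ : ∃ N, N = ∑ a ∈ Finset.range 5, Nat.card K ^ a := ⟨_, rfl⟩
  rw [← hN]
  by_cases hg : g = 1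
  · exact ⟨1, 1, by rw [hg]; simp, one_pow _, one_pow _⟩
  obtain ⟨p, hpc⟩ := CharP.exists K
  have := Fintype.ofFinite K
  have : Fact p.Prime := ⟨(CharP.char_is_prime_or_zero K p).resolve_right (CharP.char_ne_zero_of_finite K p)⟩
  have := finite_W hp6 cs6
  have R := rgd (K := K) hp6 cs6 p
  have hord : ∀ X : Matrix.SpecialLinearGroup (Fin 5) K,
      Irreducible (X : Matrix (Fin 5) (Fin 5) K).charpoly → phi5 K X ^ N = 1 := by
    intro X hX
    have h3 := irr_pow hX
    rw [← hN] at h3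
    rw [← map_pow, h3, map_one]
  have hnf : ∀ X : Matrix.SpecialLinearGroup (Fin 5) K,
      Irreducible (X : Matrix (Fin 5) (Fin 5) K).charpoly →
      NF (VJ cs6 hp6.isCartan (XX chevE6 6 K) {k | k ∈ J5}) (phi5 K X) ∧
        NF (VNJ cs6 hp6.isCartan (XX chevE6 6 K) {k | k ∈ J5}) (phi5 K X) := by
    intro X hX
    have h := nf_six hX (x := 1) (one_pow _)
    rwa [Phi5_A] at h
  obtain ⟨x, v, hv, l, hl, u, hu, e⟩ := hC g hg
  obtain ⟨A, rfl⟩ := sup_le_range hl
  obtain ⟨X, Y, rfl, hX, hY⟩ := h5.exists_pair A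
  have hY1 : NF (VJ cs6 hp6.isCartan (XX chevE6 6 K) {k | k ∈ J5}) (phi5 K Y) ∧ phi5 K Y ^ N = 1 := by
    rcases hY with hY | hY
    · exact ⟨(hnf Y hY).1, hord Y hY⟩
    · refine ⟨nf_inv ?_, ?_⟩
      · rw [← map_inv]; exact (hnf _ hY).1
      · have := hord _ hY
        rwa [map_inv, inv_pow, inv_eq_one] at this
  obtain ⟨a, ha, e1⟩ := exists_conj_of_fix R (LJ_le_normalizer_VNJ R {k | k ∈ J5} (phi5_mem X)) (hnf X hX).2 hv
  have hu' : phi5 K Y * u * (phi5 K Y)⁻¹ ∈ VJ cs6 hp6.isCartan (XX chevE6 6 K) {k | k ∈ J5} :=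
    (Subgroup.mem_normalizer_iff.1 (LJ_le_normalizer_VJ R {k | k ∈ J5} (phi5_mem Y)) u).1 hu
  obtain ⟨b, hb, e2⟩ := exists_conj_of_fix R (LJ_le_normalizer_VJ R {k | k ∈ J5} (phi5_mem Y)) hY1.1 hu'
  have e3 : x * g * x⁻¹ = (a * phi5 K X * a⁻¹) * (b * phi5 K Y * b⁻¹) := by
    rw [e, ← e1, ← e2, map_mul]
    group
  refine ⟨x⁻¹ * (a * phi5 K X * a⁻¹) * x⁻¹⁻¹, x⁻¹ * (b * phi5 K Y * b⁻¹) * x⁻¹⁻¹, ?_, ?_, ?_⟩
  · calc g = x⁻¹ * (x * g * x⁻¹) * x := by group
      _ = _ := by rw [e3]; group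
  · rw [conj_pow, conj_pow, hord X hX]; group
  · rw [conj_pow, conj_pow, hY1.2]; group

theorem A5.congr {K' : Type} [Field K'] (σ : K' ≃+* K) (h : A5 K') : A5 K := by
  intro A hA
  have hne : (A.map (σ.symm : K →+* K') : Matrix.SpecialLinearGroup (Fin 5) K') ≠ 1 := by
    intro h1
    apply hA
    have h2 : A.1.map σ.symm = 1 := congrArg Subtype.val h1
    have h3 : (A.1.map σ.symm).map σ = (1 : Matrix (Fin 5) (Fin 5) K').map σ := by rw [h2]
    rw [Matrix.map_map, Matrix.map_one σ (map_zero σ) (map_one σ)] at h3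
    refine Subtype.ext ?_
    rw [Matrix.SpecialLinearGroup.coe_one, ← h3]
    ext i j
    simp
  obtain ⟨X, Y, e, hX, hY⟩ := h _ hne
  have key : ∀ Z : Matrix.SpecialLinearGroup (Fin 5) K', Irreducible (Z : Matrix (Fin 5) (Fin 5) K').charpoly →
      Irreducible ((Z.map (σ : K' →+* K) : Matrix.SpecialLinearGroup (Fin 5) K) : Matrix (Fin 5) (Fin 5) K).charpoly := by
    intro Z hZ
    have h1 : ((Z.map (σ : K' →+* K) : Matrix.SpecialLinearGroup (Fin 5) K) : Matrix (Fin 5) (Fin 5) K).charpoly =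
        Z.1.charpoly.map (σ : K' →+* K) := Matrix.charpoly_map Z.1 (σ : K' →+* K)
    rw [h1]
    exact (MulEquiv.irreducible_iff (Polynomial.mapEquiv σ)).2 hZ
  refine ⟨X.map (σ : K' →+* K), Y.map (σ : K' →+* K), ?_, key X hX, key Y hY⟩
  rw [← map_mul, ← e]
  ext i j
  simp

theorem zmod_one : ∀ x : ZMod 2, x ≠ 0 → x = 1 := by decide

theorem a5_two (hK : Nat.card K = 2) : A5 K := by
  have : Finite K := Nat.finite_of_card_ne_zero (by rw [hK]; norm_num)
  have := Fintype.ofFinite K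
  have : Fact (Nat.Prime 2) := ⟨Nat.prime_two⟩
  refine A5.congr (ZMod.ringEquivOfPrime K Nat.prime_two (by rw [← Nat.card_eq_fintype_card, hK])) ?_
  intro A hA
  obtain ⟨X, Y, e, hX, hY⟩ := Cfsg.Agent.H934.MF.prodFive A.1 (by rw [A.2]; exact one_ne_zero)
    (fun h => hA (Subtype.ext h))
  have hd : X.det * Y.det = 1 := by rw [← Matrix.det_mul, ← e, A.2]
  exact ⟨⟨X, zmod_one _ (left_ne_zero_of_mul_eq_one hd)⟩, ⟨Y, zmod_one _ (right_ne_zero_of_mul_eq_one hd)⟩, Subtype.ext e,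
    by change Irreducible X.charpoly; rw [hX]; exact Cfsg.Agent.H934.MF.irrFive,
    by change Irreducible Y.charpoly; rw [hY]; exact Cfsg.Agent.H934.MF.irrFive⟩

/-- from the form of helper126 -/
theorem a5_three_of [Finite K] (hK : Nat.card K = 3) (h : ∀ A : Matrix (Fin 5) (Fin 5) K, A.det = 1 →
    (∀ c : K, A ≠ c • (1 : Matrix (Fin 5) (Fin 5) K)) → ∃ X Y : Matrix (Fin 5) (Fin 5) K, A = X * Y ∧
      Irreducible X.charpoly ∧ Irreducible Y.charpoly ∧ X ^ 121 = 1 ∧ Y ^ 121 = 1) : A5 K := by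
  have := Fintype.ofFinite K
  have hc : ∀ x : K, x ^ 121 = 1 → x = 1 := by
    intro x hx
    have hx0 : x ≠ 0 := by rintro rfl; simp at hx
    have h2 : x ^ 2 = 1 := by
      have := FiniteField.pow_card_sub_one_eq_one x hx0
      rwa [← Nat.card_eq_fintype_card, hK] at this
    calc x = (x ^ 2) ^ 60 * x := by rw [h2, one_pow, one_mul]
      _ = x ^ 121 := by rw [← pow_mul, ← pow_succ]
      _ = 1 := hx
  have hc5 : ∀ x : K, x ^ 5 = 1 → x = 1 := by
    intro x hx
    have hx0 : x ≠ 0 := by rintro rfl; simp at hx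
    have h2 : x ^ 2 = 1 := by
      have := FiniteField.pow_card_sub_one_eq_one x hx0
      rwa [← Nat.card_eq_fintype_card, hK] at this
    calc x = (x ^ 2) ^ 2 * x := by rw [h2, one_pow, one_mul]
      _ = x ^ 5 := by rw [← pow_mul, ← pow_succ]
      _ = 1 := hx
  intro A hA
  obtain ⟨X, Y, e, hX, hY, hX1, hY1⟩ := h A.1 A.2 (fun c hc' => by
    apply hA
    have h1 : (c • (1 : Matrix (Fin 5) (Fin 5) K)).det = 1 := by rw [← hc', A.2]
    rw [Matrix.det_smul, Matrix.det_one, mul_one, Fintype.card_fin] at h1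
    refine Subtype.ext ?_
    rw [hc', hc5 c h1, one_smul]
    rfl)
  have hd : ∀ Z : Matrix (Fin 5) (Fin 5) K, Z ^ 121 = 1 → Z.det = 1 := by
    intro Z hZ
    apply hc
    rw [← Matrix.det_pow, hZ, Matrix.det_one]
  exact ⟨⟨X, hd X hX1⟩, ⟨Y, hd Y hY1⟩, Subtype.ext e, hX, hY⟩

/-- **`E₆(2)`, `E₆(3)`** : every element is a product of two elements of order prime to `6`. -/
theorem six_small [Finite K] (hC : Corner K) (h5 : A5 K) : All 6 ↥(chevE6.group K) :=
  all_of_pairs (sum5_coprime _) (pairs_small hC h5)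

end

end Cfsg.Agent.H150.Pw
end

-- part: H143/Pw/EMat
section
/-!
The corner in `E₆` (S2465): the matrices of the second block.
-/

set_option autoImplicit false
set_option linter.unusedSectionVars false

namespace Cfsg.Agent.H143.Pw.ESix

open CoxeterSystem Cfsg.Agent.ChevalleyStructure.CoxeterGeom Cfsg.Agent.Tits.Roots Cfsg.Agent.Tits.Core
  Cfsg.Agent.Nodes.Reps Cfsg.Agent.Nodes.BNOf Cfsg.Agent.Nodes.RGDLib Cfsg.Agent.Nodes.Bruhat
  Cfsg.Agent.Nodes.OppDec Cfsg.Agent.Nodes.LeviDec Cfsg.Agent.Nodes.KindChev Cfsg.Agent.Nodes.ChevCls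
  Cfsg.Agent.Nodes.StabComb
  Cfsg.Agent.OddHalf.NI.ModelChev
  Cfsg.Agent.H162.GaussDec Cfsg.Agent.H162.GaussLevi Cfsg.Agent.H162.GaussSL
  Cfsg.Agent.H162.GaussMain Cfsg.Agent.H162.GaussPQ Cfsg.Agent.H162.GaussExc
open Cfsg.Lie Cfsg.Agent.ChevalleyStructure Cfsg.Agent.ChevalleyStructure.Elts
  Cfsg.Agent.ChevalleyStructure.RootVec Cfsg.Agent.ChevalleyStructure.NPerm
  Cfsg.Agent.ChevalleyStructure.CoxeterGeomTypes Cfsg.Agent.Nodes.RGDChev Cfsg.Agent.KFacts.RgdChevCoord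
open Cfsg.Agent.TitsThree.KExcRT Cfsg.Agent.AGraded
open Cfsg.Agent.TitsThree.KExcBase (comm_nil)
open Cfsg.Agent.H162.GaussPSL (embf embf_tv)
open Cfsg.Agent.H143.Pw.Cor
open Matrix (single)

universe u

variable {K : Type u} [Field K]

local notation "SLn" => Matrix.SpecialLinearGroup
local notation "tvn" => Matrix.SpecialLinearGroup.transvection

/-- the Weyl element -/
def wl {n : ℕ} (K : Type u) [Field K] {i j : Fin n} (h : i ≠ j) : SLn (Fin n) K := tvn h 1 * tvn h.symm (-1) * tvn h 1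

theorem wl_coe {n : ℕ} {i j : Fin n} (h : i ≠ j) :
    (wl K h).1 = 1 + single i j (1 : K) - single j i 1 - single i i 1 - single j j 1 := by
  change (1 + single i j (1 : K)) * (1 + single j i (-1)) * (1 + single i j 1) = _
  have e0 : single j i (-1 : K) = - single j i 1 := by
    ext a b; simp [Matrix.single_apply, Matrix.neg_apply]; split_ifs <;> simp
  rw [e0]
  have e1 : single i j (1 : K) * single j i 1 = single i i 1 := by rw [Matrix.single_mul_single_same, mul_one]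
  have e2 : single i j (1 : K) * single i j 1 = 0 := Matrix.single_mul_single_of_ne _ _ _ _ h.symm _
  have e3 : single j i (1 : K) * single i j 1 = single j j 1 := by rw [Matrix.single_mul_single_same, mul_one]
  have e4 : single i i (1 : K) * single i j 1 = single i j 1 := by rw [Matrix.single_mul_single_same, mul_one]
  calc (1 + single i j (1 : K)) * (1 + -single j i 1) * (1 + single i j 1)
      = 1 + single i j 1 - single j i 1 - single i j 1 * single j i 1 + single i j 1 + single i j 1 * single i j 1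
        - single j i 1 * single i j 1 - (single i j 1 * single j i 1) * single i j 1 := by noncomm_ring
    _ = _ := by rw [e1, e2, e3, e4]; abel

theorem wl_sq {n : ℕ} {i j : Fin n} (h : i ≠ j) :
    (wl K h * wl K h).1 = 1 - (single i i (1 : K) + single i i 1) - (single j j 1 + single j j 1) := by
  change (wl K h).1 * (wl K h).1 = _
  rw [wl_coe]
  have e1 : single i j (1 : K) * single j i 1 = single i i 1 := by rw [Matrix.single_mul_single_same, mul_one]
  have e2 : single i j (1 : K) * single i j 1 = 0 := Matrix.single_mul_single_of_ne _ _ _ _ h.symm _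
  have e3 : single j i (1 : K) * single i j 1 = single j j 1 := by rw [Matrix.single_mul_single_same, mul_one]
  have e4 : single i i (1 : K) * single i j 1 = single i j 1 := by rw [Matrix.single_mul_single_same, mul_one]
  have e5 : single j i (1 : K) * single j i 1 = 0 := Matrix.single_mul_single_of_ne _ _ _ _ h _
  have e6 : single i j (1 : K) * single i i 1 = 0 := Matrix.single_mul_single_of_ne _ _ _ _ h.symm _
  have e7 : single i j (1 : K) * single j j 1 = single i j 1 := by rw [Matrix.single_mul_single_same, mul_one]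
  have e8 : single j i (1 : K) * single i i 1 = single j i 1 := by rw [Matrix.single_mul_single_same, mul_one]
  have e9 : single j i (1 : K) * single j j 1 = 0 := Matrix.single_mul_single_of_ne _ _ _ _ h _
  have f1 : single i i (1 : K) * single j i 1 = 0 := Matrix.single_mul_single_of_ne _ _ _ _ h _
  have f2 : single i i (1 : K) * single i i 1 = single i i 1 := by rw [Matrix.single_mul_single_same, mul_one]
  have f3 : single i i (1 : K) * single j j 1 = 0 := Matrix.single_mul_single_of_ne _ _ _ _ h _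
  have f4 : single j j (1 : K) * single i j 1 = 0 := Matrix.single_mul_single_of_ne _ _ _ _ h.symm _
  have f5 : single j j (1 : K) * single j i 1 = single j i 1 := by rw [Matrix.single_mul_single_same, mul_one]
  have f6 : single j j (1 : K) * single i i 1 = 0 := Matrix.single_mul_single_of_ne _ _ _ _ h.symm _
  have f7 : single j j (1 : K) * single j j 1 = single j j 1 := by rw [Matrix.single_mul_single_same, mul_one]
  simp only [mul_add, add_mul, mul_sub, sub_mul, mul_one, one_mul, e1, e2, e3, e4, e5, e6, e7, e8, e9, f1, f2, f3, f4,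
    f5, f6, f7]
  abel

/-! ### The elements -/

/-- the element of the first block -/
def T6 (K : Type u) [Field K] : SLn (Fin 6) K :=
  (wl K (show (0 : Fin 6) ≠ 1 by decide) * wl K (show (0 : Fin 6) ≠ 1 by decide)) *
  (wl K (show (2 : Fin 6) ≠ 3 by decide) * wl K (show (2 : Fin 6) ≠ 3 by decide)) *
  tvn (show (0 : Fin 6) ≠ 1 by decide) 1

/-- the element of the second block -/
def D5 (K : Type u) [Field K] : SLn (Fin 5) K :=
  (wl K (show (0 : Fin 5) ≠ 1 by decide) * wl K (show (0 : Fin 5) ≠ 1 by decide)) *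
  (wl K (show (2 : Fin 5) ≠ 3 by decide) * wl K (show (2 : Fin 5) ≠ 3 by decide)) *
  tvn (show (0 : Fin 5) ≠ 1 by decide) 1

/-- the central factor -/
def H6 (K : Type u) [Field K] : SLn (Fin 6) K :=
  wl K (show (4 : Fin 6) ≠ 5 by decide) * wl K (show (4 : Fin 6) ≠ 5 by decide)

theorem phi_T6 {φ : SLn (Fin 6) K →* ↥(chevE6.group K)} (hφ : IsBlk a5 φ) {ψ : SLn (Fin 5) K →* ↥(chevE6.group K)}
    (hψ : IsBlk a4 ψ) : φ (T6 K) = ψ (D5 K) := by
  unfold T6 D5 wl
  simp only [map_mul, hφ _ _ _ _, hψ _ _ _ _]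
  rfl

theorem eq_T6_H6 {A : SLn (Fin 6) K} (hA : A.1 = M0 K) : A = T6 K * H6 K := by
  apply Subtype.ext
  have h1 : (T6 K * H6 K).1 = ((1 - (single 0 0 (1 : K) + single 0 0 1) - (single 1 1 1 + single 1 1 1)) *
      (1 - (single 2 2 (1 : K) + single 2 2 1) - (single 3 3 1 + single 3 3 1)) * (1 + single 0 1 1)) *
      (1 - (single 4 4 (1 : K) + single 4 4 1) - (single 5 5 1 + single 5 5 1)) := by
    rw [← wl_sq (show (0 : Fin 6) ≠ 1 by decide), ← wl_sq (show (2 : Fin 6) ≠ 3 by decide),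
      ← wl_sq (show (4 : Fin 6) ≠ 5 by decide)]
    rfl
  rw [hA, h1]
  have d1 : (1 - (single 0 0 (1 : K) + single 0 0 1) - (single 1 1 1 + single 1 1 1) : Matrix (Fin 6) (Fin 6) K) =
      Matrix.diagonal ![-1, -1, 1, 1, 1, 1] := by
    ext i j
    (revert i j; simp +decide only [Matrix.single_apply, Matrix.diagonal, Matrix.one_apply, _root_.Fin.forall_fin_succ, Fin.isValue, _root_.Matrix.sub_apply, _root_.Matrix.add_apply, _root_.Nat.succ_eq_add_one, Nat.reduceAdd, _root_.Matrix.of_apply, _root_.and_true, _root_.and_false, ↓reduceIte, _root_.add_zero, _root_.sub_zero, _root_.Fin.succ_zero_eq_one, _root_.Fin.succ_one_eq_two, Fin.reduceSucc, _root_.IsEmpty.forall_iff, _root_.sub_add_cancel_right, _root_.Matrix.cons_val_zero, _root_.sub_self, _root_.and_self, _root_.Fin.succ_ne_zero, _root_.zero_sub, _root_.neg_add_rev, _root_.Matrix.cons_val_succ, _root_.neg_zero, _root_.Matrix.cons_val_fin_one, _root_.sub_eq_self]) <;> (repeat' with_reducible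 apply And.intro) <;> norm_num
  have d2 : (1 - (single 2 2 (1 : K) + single 2 2 1) - (single 3 3 1 + single 3 3 1) : Matrix (Fin 6) (Fin 6) K) =
      Matrix.diagonal ![1, 1, -1, -1, 1, 1] := by
    ext i j
    (revert i j; simp +decide only [Matrix.single_apply, Matrix.diagonal, Matrix.one_apply, _root_.Fin.forall_fin_succ, Fin.isValue, _root_.Matrix.sub_apply, _root_.Matrix.add_apply, _root_.Nat.succ_eq_add_one, Nat.reduceAdd, _root_.Matrix.of_apply, _root_.and_false, ↓reduceIte, _root_.add_zero, _root_.sub_zero, _root_.Fin.succ_zero_eq_one, _root_.Fin.succ_one_eq_two, _root_.and_true, Fin.reduceSucc, _root_.IsEmpty.forall_iff, _root_.Matrix.cons_val_zero, _root_.sub_self, _root_.and_self, _root_.Fin.succ_ne_zero, _root_.Matrix.cons_val_succ, _root_.true_and, _root_.sub_add_cancel_right, _root_.Matrix.cons_val_fin_one, _root_.sub_eq_self]) <;> (repeat' with_reducible apply And.intro) <;> norm_num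
  have d3 : (1 - (single 4 4 (1 : K) + single 4 4 1) - (single 5 5 1 + single 5 5 1) : Matrix (Fin 6) (Fin 6) K) =
      Matrix.diagonal ![1, 1, 1, 1, -1, -1] := by
    ext i j
    (revert i j; simp +decide only [Matrix.single_apply, Matrix.diagonal, Matrix.one_apply, _root_.Fin.forall_fin_succ, Fin.isValue, _root_.Matrix.sub_apply, _root_.Matrix.add_apply, _root_.Nat.succ_eq_add_one, Nat.reduceAdd, _root_.Matrix.of_apply, _root_.and_false, ↓reduceIte, _root_.add_zero, _root_.sub_zero, _root_.Fin.succ_zero_eq_one, _root_.Fin.succ_one_eq_two, Fin.reduceSucc, _root_.and_true, _root_.IsEmpty.forall_iff, _root_.Matrix.cons_val_zero, _root_.sub_self, _root_.and_self, _root_.Fin.succ_ne_zero, _root_.Matrix.cons_val_succ, _root_.true_and, _root_.sub_add_cancel_right, _root_.Matrix.cons_val_fin_one]) <;> (repeat' with_reducible apply And.intro) <;> norm_num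
  rw [d1, d2, d3, Matrix.diagonal_mul_diagonal]
  unfold M0
  ext i j
  rw [Matrix.mul_diagonal, Matrix.diagonal_mul]
  (revert i j; simp only [Matrix.one_apply, _root_.Fin.forall_fin_succ, Fin.isValue, _root_.Matrix.neg_apply, _root_.Matrix.add_apply, _root_.neg_add_rev, _root_.Nat.succ_eq_add_one, Nat.reduceAdd, _root_.one_ne_zero, _root_.and_false, _root_.not_false_eq_true, _root_.Matrix.single_apply_of_ne, _root_.neg_zero, _root_.zero_add, _root_.add_zero, _root_.mul_ite, _root_.mul_one, _root_.MulZeroClass.mul_zero, _root_.Matrix.cons_val_zero, _root_.Matrix.cons_val_succ, _root_.Fin.succ_zero_eq_one, _root_.Fin.succ_one_eq_two, Fin.reduceEq, Fin.reduceSucc, _root_.mul_neg, _root_.neg_inj, _root_.Matrix.cons_val_fin_one, _root_.IsEmpty.forall_iff, _root_.and_true, ↓reduceIte, _root_.Matrix.single_apply_same, _root_.zero_ne_one, _root_.and_self, _root_.Fin.succ_ne_zero, _root_.true_and, _root_.one_mul])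

/-- the last row -/
def ar (a c d : K) : SLn (Fin 5) K :=
  ⟨!![1, 0, 0, 0, 0; 0, 1, 0, 0, 0; 0, 0, 1, 0, 0; 0, 0, 0, 1, 0; a, 0, c, d, 1], by
    rw [Matrix.det_of_isLowerTriangular]
    · simp [Fin.prod_univ_five]
    · intro i j hij
      fin_cases i <;> fin_cases j <;> first | rfl | exact absurd hij (by decide)⟩

/-- the last column -/
def bc (a b c d : K) : SLn (Fin 5) K :=
  ⟨!![1, 0, 0, 0, a; 0, 1, 0, 0, b; 0, 0, 1, 0, c; 0, 0, 0, 1, d; 0, 0, 0, 0, 1], by
    rw [Matrix.det_of_isUpperTriangular]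
    · simp [Fin.prod_univ_five]
    · intro i j hij
      fin_cases i <;> fin_cases j <;> first | rfl | exact absurd hij (by decide)⟩

theorem ar_mul (a c d a' c' d' : K) : ar a c d * ar a' c' d' = ar (a + a') (c + c') (d + d') := by
  apply Subtype.ext
  change !![1, 0, 0, 0, 0; 0, 1, 0, 0, 0; 0, 0, 1, 0, 0; 0, 0, 0, 1, 0; a, 0, c, d, 1] *
    !![1, 0, 0, 0, 0; 0, 1, 0, 0, 0; 0, 0, 1, 0, 0; 0, 0, 0, 1, 0; a', 0, c', d', 1] =
    !![1, 0, 0, 0, 0; 0, 1, 0, 0, 0; 0, 0, 1, 0, 0; 0, 0, 0, 1, 0; a + a', 0, c + c', d + d', 1]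
  ext i j
  fin_cases i <;> fin_cases j <;> simp [Matrix.mul_apply, Fin.sum_univ_five, add_comm]

theorem bc_mul (a b c d a' b' c' d' : K) : bc a b c d * bc a' b' c' d' = bc (a + a') (b + b') (c + c') (d + d') := by
  apply Subtype.ext
  change !![1, 0, 0, 0, a; 0, 1, 0, 0, b; 0, 0, 1, 0, c; 0, 0, 0, 1, d; 0, 0, 0, 0, 1] *
    !![1, 0, 0, 0, a'; 0, 1, 0, 0, b'; 0, 0, 1, 0, c'; 0, 0, 0, 1, d'; 0, 0, 0, 0, 1] =
    !![1, 0, 0, 0, a + a'; 0, 1, 0, 0, b + b'; 0, 0, 1, 0, c + c'; 0, 0, 0, 1, d + d'; 0, 0, 0, 0, 1]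
  ext i j
  fin_cases i <;> fin_cases j <;> simp [Matrix.mul_apply, Fin.sum_univ_five, add_comm]

theorem ar_zero : ar (0 : K) 0 0 = 1 := by
  apply Subtype.ext
  ext i j
  (revert i j; simp only [ar, _root_.Fin.forall_fin_succ, _root_.Matrix.of_apply, _root_.Matrix.cons_val', _root_.Matrix.cons_val_fin_one, _root_.Matrix.SpecialLinearGroup.coe_one, Fin.isValue, _root_.Matrix.cons_val_zero, _root_.Matrix.cons_val_succ, _root_.IsEmpty.forall_iff, _root_.and_true, _root_.Matrix.one_apply_eq, Nat.reduceAdd, _root_.Fin.succ_zero_eq_one, _root_.ne_eq, _root_.zero_ne_one, _root_.not_false_eq_true, _root_.Matrix.one_apply_ne, _root_.Fin.succ_one_eq_two, Fin.reduceEq, Fin.reduceSucc, _root_.and_self, _root_.Fin.succ_ne_zero, _root_.true_and])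

theorem bc_zero : bc (0 : K) 0 0 0 = 1 := by
  apply Subtype.ext
  ext i j
  (revert i j; simp only [bc, _root_.Fin.forall_fin_succ, _root_.Matrix.of_apply, _root_.Matrix.cons_val', _root_.Matrix.cons_val_fin_one, _root_.Matrix.SpecialLinearGroup.coe_one, Fin.isValue, _root_.Matrix.cons_val_zero, _root_.Matrix.cons_val_succ, _root_.IsEmpty.forall_iff, _root_.and_true, _root_.Matrix.one_apply_eq, Nat.reduceAdd, _root_.Fin.succ_zero_eq_one, _root_.ne_eq, _root_.zero_ne_one, _root_.not_false_eq_true, _root_.Matrix.one_apply_ne, _root_.Fin.succ_one_eq_two, Fin.reduceEq, Fin.reduceSucc, _root_.and_self, _root_.Fin.succ_ne_zero, _root_.true_and])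

theorem ar_t0 (h : (4 : Fin 5) ≠ 0) (c : K) : tvn h c = ar c 0 0 := by
  apply Subtype.ext
  ext i j
  (revert i j; simp only [ar, Matrix.SpecialLinearGroup.transvection, Matrix.transvection, _root_.Fin.forall_fin_succ, Fin.isValue, _root_.Matrix.add_apply, _root_.Matrix.of_apply, _root_.Matrix.cons_val', _root_.Matrix.cons_val_fin_one, _root_.Matrix.cons_val_zero, _root_.Matrix.cons_val_succ, _root_.Fin.succ_zero_eq_one, _root_.zero_ne_one, _root_.and_false, _root_.not_false_eq_true, _root_.Matrix.single_apply_of_ne, _root_.add_zero, _root_.Fin.succ_one_eq_two, Fin.reduceEq, Fin.reduceSucc, _root_.IsEmpty.forall_iff, _root_.and_true, _root_.Matrix.one_apply_eq, Nat.reduceAdd, _root_.ne_eq, _root_.Matrix.one_apply_ne, _root_.and_self, _root_.Fin.succ_ne_zero, _root_.zero_add, _root_.Matrix.single_apply_same])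

theorem ar_t2 (h : (4 : Fin 5) ≠ 2) (c : K) : tvn h c = ar 0 c 0 := by
  apply Subtype.ext
  ext i j
  (revert i j; simp only [ar, Matrix.SpecialLinearGroup.transvection, Matrix.transvection, _root_.Fin.forall_fin_succ, Fin.isValue, _root_.Matrix.add_apply, _root_.Matrix.of_apply, _root_.Matrix.cons_val', _root_.Matrix.cons_val_fin_one, Fin.reduceEq, _root_.and_false, _root_.not_false_eq_true, _root_.Matrix.single_apply_of_ne, _root_.add_zero, _root_.Matrix.cons_val_zero, _root_.Matrix.cons_val_succ, _root_.Fin.succ_zero_eq_one, _root_.Fin.succ_one_eq_two, Fin.reduceSucc, _root_.IsEmpty.forall_iff, _root_.and_true, _root_.Matrix.one_apply_eq, Nat.reduceAdd, _root_.ne_eq, _root_.zero_ne_one, _root_.Matrix.one_apply_ne, _root_.and_self, _root_.Fin.succ_ne_zero, _root_.true_and, _root_.Matrix.single_apply_same, _root_.zero_add])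

theorem ar_t3 (h : (4 : Fin 5) ≠ 3) (c : K) : tvn h c = ar 0 0 c := by
  apply Subtype.ext
  ext i j
  (revert i j; simp only [ar, Matrix.SpecialLinearGroup.transvection, Matrix.transvection, _root_.Fin.forall_fin_succ, Fin.isValue, _root_.Matrix.add_apply, _root_.Matrix.of_apply, _root_.Matrix.cons_val', _root_.Matrix.cons_val_fin_one, Fin.reduceEq, _root_.and_false, _root_.not_false_eq_true, _root_.Matrix.single_apply_of_ne, _root_.add_zero, _root_.Matrix.cons_val_zero, _root_.Matrix.cons_val_succ, _root_.Fin.succ_zero_eq_one, _root_.Fin.succ_one_eq_two, Fin.reduceSucc, _root_.IsEmpty.forall_iff, _root_.and_true, _root_.Matrix.one_apply_eq, Nat.reduceAdd, _root_.ne_eq, _root_.zero_ne_one, _root_.Matrix.one_apply_ne, _root_.and_self, _root_.Fin.succ_ne_zero, _root_.true_and, _root_.Matrix.single_apply_same, _root_.zero_add])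

theorem bc_t0 (h : (0 : Fin 5) ≠ 4) (c : K) : tvn h c = bc c 0 0 0 := by
  apply Subtype.ext
  ext i j
  (revert i j; simp only [bc, Matrix.SpecialLinearGroup.transvection, Matrix.transvection, _root_.Fin.forall_fin_succ, Fin.isValue, _root_.Matrix.add_apply, _root_.Matrix.of_apply, _root_.Matrix.cons_val', _root_.Matrix.cons_val_fin_one, Fin.reduceEq, _root_.and_false, _root_.not_false_eq_true, _root_.Matrix.single_apply_of_ne, _root_.add_zero, _root_.Matrix.cons_val_zero, _root_.Matrix.cons_val_succ, _root_.Fin.succ_zero_eq_one, _root_.Fin.succ_one_eq_two, Fin.reduceSucc, _root_.IsEmpty.forall_iff, _root_.and_true, _root_.Matrix.one_apply_eq, Nat.reduceAdd, _root_.ne_eq, _root_.zero_ne_one, _root_.Matrix.one_apply_ne, _root_.Matrix.single_apply_same, _root_.zero_add, _root_.and_self, _root_.Fin.succ_ne_zero, _root_.true_and])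

theorem bc_t1 (h : (1 : Fin 5) ≠ 4) (c : K) : tvn h c = bc 0 c 0 0 := by
  apply Subtype.ext
  ext i j
  (revert i j; simp only [bc, Matrix.SpecialLinearGroup.transvection, Matrix.transvection, _root_.Fin.forall_fin_succ, Fin.isValue, _root_.Matrix.add_apply, _root_.Matrix.of_apply, _root_.Matrix.cons_val', _root_.Matrix.cons_val_fin_one, Fin.reduceEq, _root_.and_false, _root_.not_false_eq_true, _root_.Matrix.single_apply_of_ne, _root_.add_zero, _root_.Matrix.cons_val_zero, _root_.Matrix.cons_val_succ, _root_.Fin.succ_zero_eq_one, _root_.Fin.succ_one_eq_two, Fin.reduceSucc, _root_.IsEmpty.forall_iff, _root_.and_true, _root_.Matrix.one_apply_eq, Nat.reduceAdd, _root_.ne_eq, _root_.zero_ne_one, _root_.Matrix.one_apply_ne, _root_.one_ne_zero, _root_.and_self, _root_.Fin.succ_ne_zero, _root_.Matrix.single_apply_same, _root_.zero_add, _root_.true_and])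

theorem bc_t2 (h : (2 : Fin 5) ≠ 4) (c : K) : tvn h c = bc 0 0 c 0 := by
  apply Subtype.ext
  ext i j
  (revert i j; simp only [bc, Matrix.SpecialLinearGroup.transvection, Matrix.transvection, _root_.Fin.forall_fin_succ, Fin.isValue, _root_.Matrix.add_apply, _root_.Matrix.of_apply, _root_.Matrix.cons_val', _root_.Matrix.cons_val_fin_one, Fin.reduceEq, _root_.and_false, _root_.not_false_eq_true, _root_.Matrix.single_apply_of_ne, _root_.add_zero, _root_.Matrix.cons_val_zero, _root_.Matrix.cons_val_succ, _root_.Fin.succ_zero_eq_one, _root_.Fin.succ_one_eq_two, Fin.reduceSucc, _root_.IsEmpty.forall_iff, _root_.and_true, _root_.Matrix.one_apply_eq, Nat.reduceAdd, _root_.ne_eq, _root_.zero_ne_one, _root_.Matrix.one_apply_ne, _root_.and_self, _root_.Fin.succ_ne_zero, _root_.Matrix.single_apply_same, _root_.zero_add, _root_.true_and])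

theorem bc_t3 (h : (3 : Fin 5) ≠ 4) (c : K) : tvn h c = bc 0 0 0 c := by
  apply Subtype.ext
  ext i j
  (revert i j; simp only [bc, Matrix.SpecialLinearGroup.transvection, Matrix.transvection, _root_.Fin.forall_fin_succ, Fin.isValue, _root_.Matrix.add_apply, _root_.Matrix.of_apply, _root_.Matrix.cons_val', _root_.Matrix.cons_val_fin_one, Fin.reduceEq, _root_.and_false, _root_.not_false_eq_true, _root_.Matrix.single_apply_of_ne, _root_.add_zero, _root_.Matrix.cons_val_zero, _root_.Matrix.cons_val_succ, _root_.Fin.succ_zero_eq_one, _root_.Fin.succ_one_eq_two, Fin.reduceSucc, _root_.IsEmpty.forall_iff, _root_.and_true, _root_.Matrix.one_apply_eq, Nat.reduceAdd, _root_.ne_eq, _root_.zero_ne_one, _root_.Matrix.one_apply_ne, _root_.and_self, _root_.Fin.succ_ne_zero, _root_.Matrix.single_apply_same, _root_.zero_add, _root_.true_and])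

theorem MK_eq (a c d b0 b1 b2 b3 : K) : (ar a c d * D5 K * bc b0 b1 b2 b3).1 = MK a c d b0 b1 b2 b3 := by
  have h1 : (D5 K).1 = (1 - (single 0 0 (1 : K) + single 0 0 1) - (single 1 1 1 + single 1 1 1)) *
      (1 - (single 2 2 (1 : K) + single 2 2 1) - (single 3 3 1 + single 3 3 1)) * (1 + single 0 1 1) := by
    rw [← wl_sq (show (0 : Fin 5) ≠ 1 by decide), ← wl_sq (show (2 : Fin 5) ≠ 3 by decide)]
    rfl
  have d1 : (1 - (single 0 0 (1 : K) + single 0 0 1) - (single 1 1 1 + single 1 1 1) : Matrix (Fin 5) (Fin 5) K) =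
      Matrix.diagonal ![-1, -1, 1, 1, 1] := by
    ext i j
    (revert i j; simp +decide only [Matrix.single_apply, Matrix.diagonal, Matrix.one_apply, _root_.Fin.forall_fin_succ, Fin.isValue, _root_.Matrix.sub_apply, _root_.Matrix.add_apply, _root_.Nat.succ_eq_add_one, Nat.reduceAdd, _root_.Matrix.of_apply, _root_.and_true, _root_.and_false, ↓reduceIte, _root_.add_zero, _root_.sub_zero, _root_.Fin.succ_zero_eq_one, _root_.Fin.succ_one_eq_two, Fin.reduceSucc, _root_.IsEmpty.forall_iff, _root_.sub_add_cancel_right, _root_.Matrix.cons_val_zero, _root_.sub_self, _root_.and_self, _root_.Fin.succ_ne_zero, _root_.zero_sub, _root_.neg_add_rev, _root_.Matrix.cons_val_succ, _root_.neg_zero, _root_.Matrix.cons_val_fin_one, _root_.sub_eq_self]) <;> (repeat' with_reducible apply And.intro) <;> norm_num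
  have d2 : (1 - (single 2 2 (1 : K) + single 2 2 1) - (single 3 3 1 + single 3 3 1) : Matrix (Fin 5) (Fin 5) K) =
      Matrix.diagonal ![1, 1, -1, -1, 1] := by
    ext i j
    (revert i j; simp +decide only [Matrix.single_apply, Matrix.diagonal, Matrix.one_apply, _root_.Fin.forall_fin_succ, Fin.isValue, _root_.Matrix.sub_apply, _root_.Matrix.add_apply, _root_.Nat.succ_eq_add_one, Nat.reduceAdd, _root_.Matrix.of_apply, _root_.and_false, ↓reduceIte, _root_.add_zero, _root_.sub_zero, _root_.Fin.succ_zero_eq_one, _root_.Fin.succ_one_eq_two, _root_.and_true, Fin.reduceSucc, _root_.IsEmpty.forall_iff, _root_.Matrix.cons_val_zero, _root_.sub_self, _root_.and_self, _root_.Fin.succ_ne_zero, _root_.Matrix.cons_val_succ, _root_.true_and, _root_.sub_add_cancel_right, _root_.Matrix.cons_val_fin_one, _root_.sub_eq_self]) <;> (repeat' with_reducible apply And.intro) <;> norm_num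
  have h2 : (D5 K).1 = !![-1, -1, 0, 0, 0; 0, -1, 0, 0, 0; 0, 0, -1, 0, 0; 0, 0, 0, -1, 0; 0, 0, 0, 0, 1] := by
    rw [h1, d1, d2, Matrix.diagonal_mul_diagonal]
    ext i j
    rw [Matrix.diagonal_mul]
    (revert i j; simp only [Matrix.one_apply, _root_.Fin.forall_fin_succ, _root_.Nat.succ_eq_add_one, Nat.reduceAdd, Fin.isValue, _root_.Matrix.add_apply, _root_.Matrix.of_apply, _root_.Matrix.cons_val', _root_.Matrix.cons_val_fin_one, _root_.one_ne_zero, _root_.and_false, _root_.not_false_eq_true, _root_.Matrix.single_apply_of_ne, _root_.add_zero, _root_.mul_ite, _root_.mul_one, _root_.MulZeroClass.mul_zero, _root_.Matrix.cons_val_zero, _root_.Matrix.cons_val_succ, _root_.Fin.succ_zero_eq_one, _root_.Fin.succ_one_eq_two, Fin.reduceEq, Fin.reduceSucc, _root_.IsEmpty.forall_iff, _root_.and_true, ↓reduceIte, _root_.zero_ne_one, _root_.Matrix.single_apply_same, _root_.zero_add, _root_.and_self, _root_.Fin.succ_ne_zero, _root_.mul_neg, _root_.one_mul,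 _root_.ite_eq_right_iff, _root_.imp_false, _root_.ite_eq_left_iff, _root_.Decidable.not_not, _root_.true_and])
  change (ar a c d).1 * (D5 K).1 * (bc b0 b1 b2 b3).1 = _
  rw [h2]
  change !![1, 0, 0, 0, 0; 0, 1, 0, 0, 0; 0, 0, 1, 0, 0; 0, 0, 0, 1, 0; a, 0, c, d, 1] *
    !![-1, -1, 0, 0, 0; 0, -1, 0, 0, 0; 0, 0, -1, 0, 0; 0, 0, 0, -1, 0; 0, 0, 0, 0, 1] *
    !![1, 0, 0, 0, b0; 0, 1, 0, 0, b1; 0, 0, 1, 0, b2; 0, 0, 0, 1, b3; 0, 0, 0, 0, 1] = _
  unfold MK
  ext i j
  (revert i j; simp only [Matrix.mul_apply, Fin.sum_univ_five, _root_.Fin.forall_fin_succ, _root_.Matrix.cons_mul, _root_.Nat.succ_eq_add_one, Nat.reduceAdd, _root_.Matrix.vecMul_cons, _root_.Matrix.head_cons, _root_.one_smul, _root_.Matrix.tail_cons, _root_.zero_smul, _root_.Matrix.empty_vecMul, _root_.add_zero, _root_.zero_add, _root_.Matrix.smul_cons, _root_.smul_eq_mul, _root_.mul_neg, _root_.mul_one, _root_.MulZeroClass.mul_zero, _root_.Matrix.smul_empty, _root_.Matrix.add_cons,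 _root_.Matrix.empty_add_empty, _root_.Matrix.empty_mul, _root_.Equiv.symm_apply_apply, _root_.Matrix.of_apply, _root_.Matrix.cons_val', _root_.Matrix.cons_val_fin_one, Fin.isValue, _root_.Matrix.cons_val_zero, _root_.Matrix.cons_val_one, _root_.Matrix.cons_val, _root_.neg_add_rev, _root_.Matrix.cons_val_succ, _root_.forall_const, _root_.true_and, _root_.neg_mul, _root_.one_mul, _root_.MulZeroClass.zero_mul]) <;> (repeat' with_reducible apply And.intro) <;> ring

end Cfsg.Agent.H143.Pw.ESix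
end

-- part: H143/Pw/EMain
section
/-!
# The corner in `E₆(2)` and `E₆(3)` (S2465)

`corner` : every element outside the core is conjugate to `v l u`, `v ∈ V_J⁻`, `u ∈ V_J`, `J = {0, 1, 2, 3, 5}` and `l` in the
group generated by the root groups of the block `{0, 2, 3, 1}` of type `A₄`.
-/

set_option autoImplicit false
set_option linter.unusedSectionVars false

namespace Cfsg.Agent.H143.Pw.ESix

open CoxeterSystem Cfsg.Agent.ChevalleyStructure.CoxeterGeom Cfsg.Agent.Tits.Roots Cfsg.Agent.Tits.Core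
  Cfsg.Agent.Nodes.Reps Cfsg.Agent.Nodes.BNOf Cfsg.Agent.Nodes.RGDLib Cfsg.Agent.Nodes.Bruhat
  Cfsg.Agent.Nodes.OppDec Cfsg.Agent.Nodes.LeviDec Cfsg.Agent.Nodes.KindChev Cfsg.Agent.Nodes.ChevCls
  Cfsg.Agent.Nodes.StabComb
  Cfsg.Agent.OddHalf.NI.ModelChev
  Cfsg.Agent.H162.GaussDec Cfsg.Agent.H162.GaussLevi Cfsg.Agent.H162.GaussSL
  Cfsg.Agent.H162.GaussMain Cfsg.Agent.H162.GaussPQ Cfsg.Agent.H162.GaussExc
open Cfsg.Lie Cfsg.Agent.ChevalleyStructure Cfsg.Agent.ChevalleyStructure.Elts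
  Cfsg.Agent.ChevalleyStructure.RootVec Cfsg.Agent.ChevalleyStructure.NPerm
  Cfsg.Agent.ChevalleyStructure.CoxeterGeomTypes Cfsg.Agent.Nodes.RGDChev Cfsg.Agent.KFacts.RgdChevCoord
open Cfsg.Agent.TitsThree.KExcRT Cfsg.Agent.AGraded
open Cfsg.Agent.TitsThree.KExcBase (comm_nil)
open Cfsg.Agent.H162.GaussPSL (embf embf_tv)
open Cfsg.Agent.H143.Pw.Cor
open Matrix (single)

universe u

variable {K : Type u} [Field K]

local notation "SLn" => Matrix.SpecialLinearGroup
local notation "tvn" => Matrix.SpecialLinearGroup.transvection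

/-! ### The second block -/

set_option synthInstance.maxHeartbeats 200000 in
set_option synthInstance.maxSize 2000 in
theorem tabN' : ∀ q < 72, PN (vec chevE6 6 q) → (∃ k, k ∉ JK ∧ vec chevE6 6 q k < 0) ∨ q ∈ [22, 24, 25] := by
  decide +kernel

theorem tabN (q : ℕ) (hq : q < 72) (h : PN (vec chevE6 6 q)) :
    (∃ k, k ∉ JK ∧ vec chevE6 6 q k < 0) ∨ q = 22 ∨ q = 24 ∨ q = 25 := by
  have := tabN' q hq h
  simpa only [_root_.List.mem_cons, _root_.Fin.isValue, _root_.List.not_mem_nil, _root_.or_false, _root_.not_or] using this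

set_option synthInstance.maxHeartbeats 200000 in
set_option synthInstance.maxSize 2000 in
theorem tabB' : ∀ q < 72, (∃ k, k ∉ J5 ∧ 0 < vec chevE6 6 q k) → (∃ k, k ∉ JK ∧ 0 < vec chevE6 6 q k) ∨
    q ∈ [49, 48, 47, 46] := by
  decide +kernel

theorem tabB (q : ℕ) (hq : q < 72) (h : ∃ k, k ∉ J5 ∧ 0 < vec chevE6 6 q k) :
    (∃ k, k ∉ JK ∧ 0 < vec chevE6 6 q k) ∨ q = 49 ∨ q = 48 ∨ q = 47 ∨ q = 46 := by
  rcases tabB' q hq h with h | h
  · exact Or.inl h
  · right
    simpa using h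

/-- the rows -/
def Ar (ψ : SLn (Fin 5) K →* ↥(chevE6.group K)) : Subgroup ↥(chevE6.group K) where
  carrier := {x | ∃ a c d, x = ψ (ar a c d)}
  one_mem' := ⟨0, 0, 0, by rw [ar_zero, map_one]⟩
  mul_mem' := by
    rintro _ _ ⟨a, c, d, rfl⟩ ⟨a', c', d', rfl⟩
    exact ⟨_, _, _, by rw [← map_mul, ar_mul]⟩
  inv_mem' := by
    rintro _ ⟨a, c, d, rfl⟩
    refine ⟨-a, -c, -d, ?_⟩
    rw [← map_inv]
    congr 1
    rw [inv_eq_iff_mul_eq_one, ar_mul, add_neg_cancel, add_neg_cancel, add_neg_cancel, ar_zero]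

/-- the columns -/
def Bc (ψ : SLn (Fin 5) K →* ↥(chevE6.group K)) : Subgroup ↥(chevE6.group K) where
  carrier := {x | ∃ a b c d, x = ψ (bc a b c d)}
  one_mem' := ⟨0, 0, 0, 0, by rw [bc_zero, map_one]⟩
  mul_mem' := by
    rintro _ _ ⟨a, b, c, d, rfl⟩ ⟨a', b', c', d', rfl⟩
    exact ⟨_, _, _, _, by rw [← map_mul, bc_mul]⟩
  inv_mem' := by
    rintro _ ⟨a, b, c, d, rfl⟩
    refine ⟨-a, -b, -c, -d, ?_⟩
    rw [← map_inv]
    congr 1
    rw [inv_eq_iff_mul_eq_one, bc_mul, add_neg_cancel, add_neg_cancel, add_neg_cancel, add_neg_cancel, bc_zero]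

theorem phi_LJ {n : ℕ} {r : Fin n → Fin n → ℕ} {J : List (Fin 6)}
    (hr : ∀ a b, a ≠ b → r a b < 72 ∧ ∀ k, k ∉ J → vec chevE6 6 (r a b) k = 0)
    {φ : SLn (Fin n) K →* ↥(chevE6.group K)} (hφ : IsBlk r φ) (A : SLn (Fin n) K) :
    φ A ∈ LJ cs hp.isCartan (TT chevE6 K) (XX chevE6 6 K) {k | k ∈ J} := by
  have h1 : (⊤ : Subgroup (SLn (Fin n) K)) ≤
      (LJ cs hp.isCartan (TT chevE6 K) (XX chevE6 6 K) {k | k ∈ J}).comap φ := by
    rw [← Cfsg.Agent.LieClassical.SLGen.closure_transvections, Subgroup.closure_le]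
    rintro _ ⟨a, b, hab, c, rfl⟩
    change φ _ ∈ LJ cs hp.isCartan (TT chevE6 K) (XX chevE6 6 K) {k | k ∈ J}
    rw [hφ]
    refine X_le_LJ (J := {k | k ∈ J}) (x := vec chevE6 6 (r a b)) ⟨isRoot_vec hp _ (hr a b hab).1, (hr a b hab).2⟩ ?_
    exact (mem_XX hp (hr a b hab).1 _).2 ⟨_, rfl⟩
  exact h1 (Subgroup.mem_top A)

theorem tabJ5 : ∀ a b, a ≠ b → a5 a b < 72 ∧ ∀ k, k ∉ J5 → vec chevE6 6 (a5 a b) k = 0 := by decide +kernel

theorem tabJK : ∀ a b, a ≠ b → a4 a b < 72 ∧ ∀ k, k ∉ JK → vec chevE6 6 (a4 a b) k = 0 := by decide +kernel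

section

variable [Finite K]

/-- the lower part: from the radical of the first block to the second block -/
theorem exists_ar {ψ : SLn (Fin 5) K →* ↥(chevE6.group K)} (hψ : IsBlk a4 ψ) {w : ↥(chevE6.group K)}
    (hw : w ∈ SP K PN ⊔ VNJ cs hp.isCartan (XX chevE6 6 K) {k | k ∈ JK}) :
    ∃ n ∈ VNJ cs hp.isCartan (XX chevE6 6 K) {k | k ∈ JK}, ∃ a c d : K, w = n * ψ (ar a c d) := by
  obtain ⟨p, hpc⟩ := CharP.exists K
  have : Fact p.Prime := ⟨(CharP.char_is_prime_or_zero K p).resolve_right (CharP.char_ne_zero_of_finite K p)⟩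
  have R := rgd (K := K) hp cs p
  have h1 : SP K PN ⊔ VNJ cs hp.isCartan (XX chevE6 6 K) {k | k ∈ JK} ≤
      VNJ cs hp.isCartan (XX chevE6 6 K) {k | k ∈ JK} ⊔ Ar ψ := by
    refine sup_le (SP_le fun q hq hP c => ?_) le_sup_left
    rcases tabN q hq hP with h | rfl | rfl | rfl
    · refine Subgroup.mem_sup_left ?_
      rw [VNJ_eq]
      exact mem_SP hq h c
    · refine Subgroup.mem_sup_right ⟨c, 0, 0, ?_⟩
      have := hψ 4 0 (by decide) c
      rw [← ar_t0 (by decide), this]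
      rfl
    · refine Subgroup.mem_sup_right ⟨0, c, 0, ?_⟩
      have := hψ 4 2 (by decide) c
      rw [← ar_t2 (by decide), this]
      rfl
    · refine Subgroup.mem_sup_right ⟨0, 0, c, ?_⟩
      have := hψ 4 3 (by decide) c
      rw [← ar_t3 (by decide), this]
      rfl
  have h2 : Ar ψ ≤ Subgroup.normalizer (VNJ cs hp.isCartan (XX chevE6 6 K) {k | k ∈ JK} : Set ↥(chevE6.group K)) := by
    rintro _ ⟨a, c, d, rfl⟩
    exact LJ_le_normalizer_VNJ R _ (phi_LJ tabJK hψ _)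
  have h3 : w ∈ ((VNJ cs hp.isCartan (XX chevE6 6 K) {k | k ∈ JK} ⊔ Ar ψ : Subgroup ↥(chevE6.group K)) :
    Set ↥(chevE6.group K)) := h1 hw
  rw [Subgroup.coe_mul_of_right_le_normalizer_left _ _ h2, Set.mem_mul] at h3
  obtain ⟨n, hn, _, ⟨a, c, d, rfl⟩, e⟩ := h3
  exact ⟨n, hn, a, c, d, e.symm⟩

/-- the upper part -/
theorem exists_bc {ψ : SLn (Fin 5) K →* ↥(chevE6.group K)} (hψ : IsBlk a4 ψ) {w : ↥(chevE6.group K)}
    (hw : w ∈ VJ cs hp.isCartan (XX chevE6 6 K) {k | k ∈ J5}) :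
    ∃ n ∈ VJ cs hp.isCartan (XX chevE6 6 K) {k | k ∈ JK}, ∃ a b c d : K, w = ψ (bc a b c d) * n := by
  obtain ⟨p, hpc⟩ := CharP.exists K
  have : Fact p.Prime := ⟨(CharP.char_is_prime_or_zero K p).resolve_right (CharP.char_ne_zero_of_finite K p)⟩
  have R := rgd (K := K) hp cs p
  rw [VJ_eq] at hw
  have h1 : SP K (fun x => ∃ k, k ∉ J5 ∧ 0 < x k) ≤ Bc ψ ⊔ VJ cs hp.isCartan (XX chevE6 6 K) {k | k ∈ JK} := by
    refine SP_le fun q hq hP c => ?_
    rcases tabB q hq hP with h | rfl | rfl | rfl | rfl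
    · refine Subgroup.mem_sup_right ?_
      rw [VJ_eq]
      exact mem_SP hq h c
    · refine Subgroup.mem_sup_left ⟨c, 0, 0, 0, ?_⟩
      have := hψ 0 4 (by decide) c
      rw [← bc_t0 (by decide), this]
      rfl
    · refine Subgroup.mem_sup_left ⟨0, c, 0, 0, ?_⟩
      have := hψ 1 4 (by decide) c
      rw [← bc_t1 (by decide), this]
      rfl
    · refine Subgroup.mem_sup_left ⟨0, 0, c, 0, ?_⟩
      have := hψ 2 4 (by decide) c
      rw [← bc_t2 (by decide), this]
      rfl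
    · refine Subgroup.mem_sup_left ⟨0, 0, 0, c, ?_⟩
      have := hψ 3 4 (by decide) c
      rw [← bc_t3 (by decide), this]
      rfl
  have h2 : Bc ψ ≤ Subgroup.normalizer (VJ cs hp.isCartan (XX chevE6 6 K) {k | k ∈ JK} : Set ↥(chevE6.group K)) := by
    rintro _ ⟨a, b, c, d, rfl⟩
    exact LJ_le_normalizer_VJ R _ (phi_LJ tabJK hψ _)
  have h3 : w ∈ ((Bc ψ ⊔ VJ cs hp.isCartan (XX chevE6 6 K) {k | k ∈ JK} : Subgroup ↥(chevE6.group K)) :
    Set ↥(chevE6.group K)) := h1 hw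
  rw [Subgroup.coe_mul_of_left_le_normalizer_right _ _ h2, Set.mem_mul] at h3
  obtain ⟨_, ⟨a, b, c, d, rfl⟩, n, hn, e⟩ := h3
  exact ⟨n, hn, a, b, c, d, e.symm⟩

end

/-! ### Commuting elements -/

theorem tabC : ∀ a b, a ≠ b → (a4 a b ≠ 56 ∧ a4 a b ≠ chevE6.neg 56 ∧ chevE6.commTerms 56 (a4 a b) = []) ∧
    (a4 a b ≠ 15 ∧ a4 a b ≠ chevE6.neg 15 ∧ chevE6.commTerms 15 (a4 a b) = []) := by decide +kernel

theorem xc_comm {q r : ℕ} (hq : q < 72) (hr : r < 72) (h : r ≠ q ∧ r ≠ chevE6.neg q ∧ chevE6.commTerms q r = []) (c d : K) :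
    xc hp (vec chevE6 6 q) c * xc hp (vec chevE6 6 r) d = xc hp (vec chevE6 6 r) d * xc hp (vec chevE6 6 q) c := by
  apply Subtype.ext
  change ((xc hp (vec chevE6 6 q) c : ↥(chevE6.group K)) : GL chevE6.Idx K) * ((xc hp (vec chevE6 6 r) d : ↥(chevE6.group K)) : GL chevE6.Idx K) =
    ((xc hp (vec chevE6 6 r) d : ↥(chevE6.group K)) : GL chevE6.Idx K) * ((xc hp (vec chevE6 6 q) c : ↥(chevE6.group K)) : GL chevE6.Idx K)
  rw [coe_xc hp hq, coe_xc hp hr]
  exact comm_nil hp.inList hq hr h.1 h.2.1 h.2.2 c d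

theorem H6_comm {φ : SLn (Fin 6) K →* ↥(chevE6.group K)} (hφ : IsBlk a5 φ) {ψ : SLn (Fin 5) K →* ↥(chevE6.group K)}
    (hψ : IsBlk a4 ψ) (A : SLn (Fin 5) K) : φ (H6 K) * ψ A = ψ A * φ (H6 K) := by
  have h1 : ∀ c : K, ∀ A : SLn (Fin 5) K, xc hp (vec chevE6 6 56) c * ψ A = ψ A * xc hp (vec chevE6 6 56) c := by
    intro c A
    have h2 : (⊤ : Subgroup (SLn (Fin 5) K)) ≤ (Subgroup.centralizer {xc hp (vec chevE6 6 56) c}).comap ψ := by
      rw [← Cfsg.Agent.LieClassical.SLGen.closure_transvections, Subgroup.closure_le]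
      rintro _ ⟨a, b, hab, d, rfl⟩
      change ψ _ ∈ Subgroup.centralizer {xc hp (vec chevE6 6 56) c}
      rw [hψ, Subgroup.mem_centralizer_singleton_iff]
      exact (xc_comm (by norm_num) (rt4.1 a b hab) (tabC a b hab).1 c d).symm
    have h3 := h2 (Subgroup.mem_top A)
    rw [Subgroup.mem_comap, Subgroup.mem_centralizer_singleton_iff] at h3
    exact h3.symm
  have h1' : ∀ c : K, ∀ A : SLn (Fin 5) K, xc hp (vec chevE6 6 15) c * ψ A = ψ A * xc hp (vec chevE6 6 15) c := by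
    intro c A
    have h2 : (⊤ : Subgroup (SLn (Fin 5) K)) ≤ (Subgroup.centralizer {xc hp (vec chevE6 6 15) c}).comap ψ := by
      rw [← Cfsg.Agent.LieClassical.SLGen.closure_transvections, Subgroup.closure_le]
      rintro _ ⟨a, b, hab, d, rfl⟩
      change ψ _ ∈ Subgroup.centralizer {xc hp (vec chevE6 6 15) c}
      rw [hψ, Subgroup.mem_centralizer_singleton_iff]
      exact (xc_comm (by norm_num) (rt4.1 a b hab) (tabC a b hab).2 c d).symm
    have h3 := h2 (Subgroup.mem_top A)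
    rw [Subgroup.mem_comap, Subgroup.mem_centralizer_singleton_iff] at h3
    exact h3.symm
  have h4 : φ (H6 K) ∈ Subgroup.centralizer {ψ A} := by
    have e1 : ∀ c : K, φ (tvn (show (4 : Fin 6) ≠ 5 by decide) c) ∈ Subgroup.centralizer {ψ A} := by
      intro c
      rw [hφ, Subgroup.mem_centralizer_singleton_iff]
      exact h1 c A
    have e2 : ∀ c : K, φ (tvn (show (5 : Fin 6) ≠ 4 by decide) c) ∈ Subgroup.centralizer {ψ A} := by
      intro c
      rw [hφ, Subgroup.mem_centralizer_singleton_iff]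
      exact h1' c A
    have e3 : φ (wl K (show (4 : Fin 6) ≠ 5 by decide)) ∈ Subgroup.centralizer {ψ A} := by
      unfold wl
      rw [map_mul, map_mul]
      exact mul_mem (mul_mem (e1 _) (e2 _)) (e1 _)
    unfold H6
    rw [map_mul]
    exact mul_mem e3 e3
  rw [Subgroup.mem_centralizer_singleton_iff] at h4
  exact h4

theorem H6_mem {φ : SLn (Fin 6) K →* ↥(chevE6.group K)} (hφ : IsBlk a5 φ) : φ (H6 K) ∈ SP K PL := by
  have e1 : ∀ c : K, φ (tvn (show (4 : Fin 6) ≠ 5 by decide) c) ∈ SP K PL := by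
    intro c
    rw [hφ]
    exact mem_SP (by decide) (by decide +kernel) c
  have e2 : ∀ c : K, φ (tvn (show (5 : Fin 6) ≠ 4 by decide) c) ∈ SP K PL := by
    intro c
    rw [hφ]
    exact mem_SP (by decide) (by decide +kernel) c
  have e3 : φ (wl K (show (4 : Fin 6) ≠ 5 by decide)) ∈ SP K PL := by
    unfold wl
    rw [map_mul, map_mul]
    exact mul_mem (mul_mem (e1 _) (e2 _)) (e1 _)
  unfold H6
  rw [map_mul]
  exact mul_mem e3 e3

/-- the group of the doublet inside the first block commutes with `M0` -/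
theorem S2_six {φ : SLn (Fin 6) K →* ↥(chevE6.group K)} (hφ : IsBlk a5 φ) {χ : SLn (Fin 3) K →* ↥(chevE6.group K)}
    (hχ : IsBlk a2 χ) {A : SLn (Fin 6) K} (hA : A.1 = M0 K) {s : SLn (Fin 3) K} (hs : s ∈ S2 K) :
    ∃ t : SLn (Fin 6) K, χ s = φ t ∧ t * A = A * t := by
  have h1 : S2 K ≤ ((Subgroup.centralizer {A}).map φ).comap χ := by
    unfold S2
    rw [Subgroup.closure_le]
    rintro _ ⟨a, b, hab, t, ⟨rfl, rfl⟩ | ⟨rfl, rfl⟩, rfl⟩
    · refine ⟨tvn (show (3 : Fin 6) ≠ 4 by decide) t, ?_, ?_⟩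
      · rw [SetLike.mem_coe, Subgroup.mem_centralizer_singleton_iff]
        apply Subtype.ext
        change (1 + single (3 : Fin 6) (4 : Fin 6) t) * A.1 = A.1 * (1 + single (3 : Fin 6) (4 : Fin 6) t)
        have e1 : single (3 : Fin 6) (4 : Fin 6) t * single (0 : Fin 6) (1 : Fin 6) (1 : K) = 0 := Matrix.single_mul_single_of_ne _ _ _ _ (by decide) _
        have e2 : single (0 : Fin 6) (1 : Fin 6) (1 : K) * single (3 : Fin 6) (4 : Fin 6) t = 0 := Matrix.single_mul_single_of_ne _ _ _ _ (by decide) _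
        rw [hA, M0]
        simp only [mul_neg, neg_mul, mul_add, add_mul, e1, e2, mul_one, one_mul]
        abel
      · rw [hφ, hχ]; rfl
    · refine ⟨tvn (show (4 : Fin 6) ≠ 3 by decide) t, ?_, ?_⟩
      · rw [SetLike.mem_coe, Subgroup.mem_centralizer_singleton_iff]
        apply Subtype.ext
        change (1 + single (4 : Fin 6) (3 : Fin 6) t) * A.1 = A.1 * (1 + single (4 : Fin 6) (3 : Fin 6) t)
        have e1 : single (4 : Fin 6) (3 : Fin 6) t * single (0 : Fin 6) (1 : Fin 6) (1 : K) = 0 := Matrix.single_mul_single_of_ne _ _ _ _ (by decide) _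
        have e2 : single (0 : Fin 6) (1 : Fin 6) (1 : K) * single (4 : Fin 6) (3 : Fin 6) t = 0 := Matrix.single_mul_single_of_ne _ _ _ _ (by decide) _
        rw [hA, M0]
        simp only [mul_neg, neg_mul, mul_add, add_mul, e1, e2, mul_one, one_mul]
        abel
      · rw [hφ, hχ]; rfl
  obtain ⟨t, ht, e⟩ := h1 hs
  exact ⟨t, e.symm, Subgroup.mem_centralizer_singleton_iff.1 ht⟩

end Cfsg.Agent.H143.Pw.ESix
end

-- part: H143/Pw/ESix
section
/-!
# The corner in `E₆(2)` and `E₆(3)` (S2465)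

`corner` : every element outside the core is conjugate to `v l u`, `v ∈ V_J⁻`, `u ∈ V_J`, `J = {0, 1, 2, 3, 5}` and `l` in the
group generated by the root groups of the block `{0, 2, 3, 1}` of type `A₄`.
-/

set_option autoImplicit false
set_option linter.unusedSectionVars false

namespace Cfsg.Agent.H143.Pw.ESix

open CoxeterSystem Cfsg.Agent.ChevalleyStructure.CoxeterGeom Cfsg.Agent.Tits.Roots Cfsg.Agent.Tits.Core
  Cfsg.Agent.Nodes.Reps Cfsg.Agent.Nodes.BNOf Cfsg.Agent.Nodes.RGDLib Cfsg.Agent.Nodes.Bruhat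
  Cfsg.Agent.Nodes.OppDec Cfsg.Agent.Nodes.LeviDec Cfsg.Agent.Nodes.KindChev Cfsg.Agent.Nodes.ChevCls
  Cfsg.Agent.Nodes.StabComb
  Cfsg.Agent.OddHalf.NI.ModelChev
  Cfsg.Agent.H162.GaussDec Cfsg.Agent.H162.GaussLevi Cfsg.Agent.H162.GaussSL
  Cfsg.Agent.H162.GaussMain Cfsg.Agent.H162.GaussPQ Cfsg.Agent.H162.GaussExc
open Cfsg.Lie Cfsg.Agent.ChevalleyStructure Cfsg.Agent.ChevalleyStructure.Elts
  Cfsg.Agent.ChevalleyStructure.RootVec Cfsg.Agent.ChevalleyStructure.NPerm
  Cfsg.Agent.ChevalleyStructure.CoxeterGeomTypes Cfsg.Agent.Nodes.RGDChev Cfsg.Agent.KFacts.RgdChevCoord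
open Cfsg.Agent.TitsThree.KExcRT Cfsg.Agent.AGraded
open Cfsg.Agent.H143.Pw.Cor

universe u

variable {K : Type u} [Field K]

local notation "SLn" => Matrix.SpecialLinearGroup
local notation "tvn" => Matrix.SpecialLinearGroup.transvection

theorem PL_le_m : SP K PL ≤ SP K Pm := SP_mono fun _ _ h => Or.inr h

theorem PL_le_p : SP K PL ≤ SP K Pp := SP_mono fun _ _ h => Or.inr h

set_option synthInstance.maxHeartbeats 200000 in
set_option synthInstance.maxSize 2000 in
theorem tabS : ∀ q < 72, (∀ k, k ∉ J5 → vec chevE6 6 q k = 0) → ∃ a b, a ≠ b ∧ a5 a b = q ∧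
    (a < b → ∃ k, 0 < vec chevE6 6 q k) ∧ (b < a → ∃ k, vec chevE6 6 q k < 0) := by decide +kernel

theorem up_blk {φ : SLn (Fin 6) K →* ↥(chevE6.group K)} (hφ : IsBlk a5 φ) :
    UJ cs hp.isCartan (XX chevE6 6 K) {k | k ∈ J5} ≤ (UT 6 K).map φ := by
  refine RGD.Sup_le fun x hx => ?_
  obtain ⟨q, hq, rfl⟩ := (isRoot_iff hp _ x).1 hx.1
  obtain ⟨a, b, hab, rfl, h1, h2⟩ := tabS q hq hx.2.2
  have hlt : a < b := by
    rcases lt_or_gt_of_ne hab with h | h
    · exact h
    · obtain ⟨k, hk⟩ := h2 h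
      exact absurd (hx.2.1 k) (not_le.2 hk)
  intro y hy
  obtain ⟨c, rfl⟩ := (mem_XX hp hq y).1 hy
  exact ⟨tvn hab c, tv_mem_UT hab hlt _, hφ _ _ _ _⟩

theorem lo_blk {φ : SLn (Fin 6) K →* ↥(chevE6.group K)} (hφ : IsBlk a5 φ) :
    UNJ cs hp.isCartan (XX chevE6 6 K) {k | k ∈ J5} ≤ (LT 6 K).map φ := by
  refine RGD.Sup_le fun x hx => ?_
  have hxr : IsRoot cs hp.isCartan x := by
    have := hx.1.neg
    rwa [_root_.neg_neg] at this
  obtain ⟨q, hq, rfl⟩ := (isRoot_iff hp _ x).1 hxr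
  obtain ⟨a, b, hab, rfl, h1, h2⟩ := tabS q hq (fun k hk => by
    have := hx.2.2 k hk
    rwa [Pi.neg_apply, neg_eq_zero] at this)
  have hlt : b < a := by
    rcases lt_or_gt_of_ne hab with h | h
    · obtain ⟨k, hk⟩ := h1 h
      have h3 : (0 : ℤ) ≤ -(vec chevE6 6 (a5 a b) k) := hx.2.1 k
      exact absurd hk (not_lt.2 (by linarith))
    · exact h
  intro y hy
  obtain ⟨c, rfl⟩ := (mem_XX hp hq y).1 hy
  exact ⟨tvn hab c, tv_mem_LT hab hlt _, hφ _ _ _ _⟩

theorem LU_zero {L U : SLn (Fin 6) K} (hL : L ∈ LT 6 K) (hU : U ∈ UT 6 K) : (L * U).1 0 0 = 1 := by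
  have h1 : (L * U).1 0 0 = ∑ k, L.1 0 k * U.1 k 0 := by
    change (L.1 * U.1) 0 0 = _
    rw [Matrix.mul_apply]
  rw [h1, Finset.sum_eq_single 0]
  · have h2 : L.1 0 0 = 1 := hL.2 0
    rw [h2, hU.2 0, mul_one]
  · intro k _ hk
    have h2 : U.1 k 0 = 0 := hU.1 (Fin.pos_of_ne_zero hk)
    rw [h2, mul_zero]
  · intro h
    exact absurd (Finset.mem_univ _) h

variable [Finite K]

/-- the special case -/
theorem bad_case (h3 : (3 : K) = 0) {φ : SLn (Fin 6) K →* ↥(chevE6.group K)} (hφ : IsBlk a5 φ) {A : SLn (Fin 6) K}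
    (hA : A.1 = M0 K) {v u : ↥(chevE6.group K)} (hv : v ∈ VNJ cs hp.isCartan (XX chevE6 6 K) {k | k ∈ J5})
    (hu : u ∈ VJ cs hp.isCartan (XX chevE6 6 K) {k | k ∈ J5}) :
    ∃ y : ↥(chevE6.group K), ∃ a ∈ SP K Pm, ∃ b ∈ SP K Pp, y * (v * φ A * u) * y⁻¹ = a * b := by
  obtain ⟨p, hpc⟩ := CharP.exists K
  have : Fact p.Prime := ⟨(CharP.char_is_prime_or_zero K p).resolve_right (CharP.char_ne_zero_of_finite K p)⟩
  have R := rgd (K := K) hp cs p
  obtain ⟨ψ, hψ⟩ := exists_blk (K := K) rt4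
  obtain ⟨χ, hχ⟩ := exists_blk (K := K) rt2
  obtain ⟨n, hn, c, d, rfl⟩ := exists_row hχ hv
  obtain ⟨s, hs, c', hsc⟩ := exists_kill c d
  obtain ⟨t, hst, htA⟩ := S2_six hφ hχ hA hs
  -- conjugate by `s`
  have hnrm : χ s ∈ Subgroup.normalizer (SP K PN : Set ↥(chevE6.group K)) := by
    have h1 : S2 K ≤ (Subgroup.normalizer (SP K PN : Set ↥(chevE6.group K))).comap χ := by
      unfold S2
      rw [Subgroup.closure_le]
      rintro _ ⟨a, b, hab, t, hab2, rfl⟩
      refine nrm_phi2 hχ _ (tab2b a b hab ?_) _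
      rcases hab2 with ⟨rfl, rfl⟩ | ⟨rfl, rfl⟩ <;> decide
    exact h1 hs
  have hn' : χ s * n * (χ s)⁻¹ ∈ SP K PN := (Subgroup.mem_normalizer_iff.1 hnrm n).1 hn
  have hu' : χ s * u * (χ s)⁻¹ ∈ VJ cs hp.isCartan (XX chevE6 6 K) {k | k ∈ J5} := by
    rw [hst]
    exact (Subgroup.mem_normalizer_iff.1 (LJ_le_normalizer_VJ R _ (phi_LJ tabJ5 hφ t)) u).1 hu
  have hrow : χ (rw3 c' 0) ∈ VNJ cs hp.isCartan (XX chevE6 6 K) {k | k ∈ JK} := by
    rw [← rw3_20 (by decide), hχ, VNJ_eq]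
    exact mem_SP (by decide) (by decide +kernel) c'
  obtain ⟨m, hm, α, γ, δ, em⟩ := exists_ar hψ (w := (χ s * n * (χ s)⁻¹) * χ (rw3 c' 0))
    (mul_mem (Subgroup.mem_sup_left hn') (Subgroup.mem_sup_right hrow))
  obtain ⟨m', hm', b0, b1, b2, b3, em'⟩ := exists_bc hψ hu'
  -- the second block
  obtain ⟨w₁, w₂, hw⟩ := MK_li h3 α γ δ b0 b1 b2 b3
  rw [← MK_eq] at hw
  obtain ⟨P, hP⟩ := good_of_li5 hw
  set B : SLn (Fin 5) K := ar α γ δ * D5 K * bc b0 b1 b2 b3 with hB
  have e1 : χ s * (n * χ (rw3 c d) * φ A * u) * (χ s)⁻¹ = m * ψ B * φ (H6 K) * m' := by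
    have e2 : χ s * χ (rw3 c d) * (χ s)⁻¹ = χ (rw3 c' 0) := by
      rw [← map_mul, hsc, map_mul]
      group
    have e3 : χ s * φ A * (χ s)⁻¹ = φ A := by
      rw [hst, ← map_mul, htA, map_mul]
      group
    have e4 : φ A = ψ (D5 K) * φ (H6 K) := by
      rw [eq_T6_H6 hA, map_mul, phi_T6 hφ hψ]
    calc χ s * (n * χ (rw3 c d) * φ A * u) * (χ s)⁻¹
        = (χ s * n * (χ s)⁻¹) * (χ s * χ (rw3 c d) * (χ s)⁻¹) * (χ s * φ A * (χ s)⁻¹) * (χ s * u * (χ s)⁻¹) := by group
      _ = (m * ψ (ar α γ δ)) * (ψ (D5 K) * φ (H6 K)) * (ψ (bc b0 b1 b2 b3) * m') := by rw [e2, e3, em', em, e4]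
      _ = m * ψ (ar α γ δ) * ψ (D5 K) * (φ (H6 K) * ψ (bc b0 b1 b2 b3)) * m' := by group
      _ = m * ψ (ar α γ δ) * ψ (D5 K) * (ψ (bc b0 b1 b2 b3) * φ (H6 K)) * m' := by rw [H6_comm hφ hψ]
      _ = m * ψ B * φ (H6 K) * m' := by rw [hB, map_mul, map_mul]; group
  obtain ⟨a, ha, l, hl, b, hb, eP⟩ := cell4 hψ hP
  have hm1 : ψ P⁻¹ * m * (ψ P⁻¹)⁻¹ ∈ SP K Pm :=
    VNJK_le ((Subgroup.mem_normalizer_iff.1 (LJ_le_normalizer_VNJ R _ (phi_LJ tabJK hψ P⁻¹)) m).1 hm)
  have hm1' : ψ P⁻¹ * m' * (ψ P⁻¹)⁻¹ ∈ SP K Pp :=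
    VJK_le ((Subgroup.mem_normalizer_iff.1 (LJ_le_normalizer_VJ R _ (phi_LJ tabJK hψ P⁻¹)) m').1 hm')
  refine ⟨ψ P⁻¹ * χ s, (ψ P⁻¹ * m * (ψ P⁻¹)⁻¹) * a * l, mul_mem (mul_mem hm1 ha) (PL_le_m hl),
    b * φ (H6 K) * (ψ P⁻¹ * m' * (ψ P⁻¹)⁻¹), mul_mem (mul_mem hb (PL_le_p (H6_mem hφ))) hm1', ?_⟩
  have hc := H6_comm hφ hψ P
  have hz : ψ P⁻¹ = (ψ P)⁻¹ := map_inv ψ P
  have eP' : (ψ P)⁻¹ * ψ B * ψ P = a * l * b := by
    rw [map_mul ψ (P⁻¹ * B) P, map_mul ψ P⁻¹ B, hz] at eP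
    exact eP
  clear_value B
  rw [hz]
  calc (ψ P)⁻¹ * χ s * (n * χ (rw3 c d) * φ A * u) * ((ψ P)⁻¹ * χ s)⁻¹
      = (ψ P)⁻¹ * (χ s * (n * χ (rw3 c d) * φ A * u) * (χ s)⁻¹) * ψ P := by group
    _ = (ψ P)⁻¹ * (m * ψ B * φ (H6 K) * m') * ψ P := by rw [e1]
    _ = ((ψ P)⁻¹ * m * (ψ P)⁻¹⁻¹) * ((ψ P)⁻¹ * ψ B * (φ (H6 K) * ψ P)) * ((ψ P)⁻¹ * m' * (ψ P)⁻¹⁻¹) := by
        rw [hc]
        have hc' : φ (H6 K) = ψ P * φ (H6 K) * (ψ P)⁻¹ := by rw [← hc]; group
        conv_lhs => rw [hc']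
        group
    _ = ((ψ P)⁻¹ * m * (ψ P)⁻¹⁻¹) * (((ψ P)⁻¹ * ψ B * ψ P) * φ (H6 K)) * ((ψ P)⁻¹ * m' * (ψ P)⁻¹⁻¹) := by
        rw [hc]; group
    _ = _ := by rw [eP']; group

/-- **The corner, as a product of two subgroups.** -/
theorem conj_cell (hK : Nat.card K = 2 ∨ Nat.card K = 3) {g : ↥(chevE6.group K)}
    (hg : ∃ x : ↥(chevE6.group K), ∃ v ∈ UN cs hp.isCartan (XX chevE6 6 K),
      ∃ u ∈ RGD.Sup (XX chevE6 6 K) (RGD.Pos cs hp.isCartan), x * g * x⁻¹ = v * u) :
    ∃ y : ↥(chevE6.group K), ∃ a ∈ SP K Pm, ∃ b ∈ SP K Pp, y * g * y⁻¹ = a * b := by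
  obtain ⟨p, hpc⟩ := CharP.exists K
  have : Fact p.Prime := ⟨(CharP.char_is_prime_or_zero K p).resolve_right (CharP.char_ne_zero_of_finite K p)⟩
  have R := rgd (K := K) hp cs p
  obtain ⟨φ, hφ⟩ := exists_blk (K := K) rt5
  obtain ⟨x, v, hv, u, hu, e⟩ := hg
  obtain ⟨vP, hvP, vL, hvL, rfl⟩ := exists_UNJ R (J := {k | k ∈ J5}) hv
  obtain ⟨uL, huL, uP, huP, rfl⟩ := (mem_U_iff R (J := {k | k ∈ J5})).1 hu
  obtain ⟨L, hL, rfl⟩ := lo_blk hφ hvL
  obtain ⟨U, hU, rfl⟩ := up_blk hφ huL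
  set M : SLn (Fin 6) K := L * U with hM
  have hM00 : M.1 0 0 = 1 := LU_zero hL hU
  have hd : (∃ P : SLn (Fin 6) K, Good (n := 4) (P⁻¹ * M * P).1) ∨
      ((3 : K) = 0 ∧ ∃ P : SLn (Fin 6) K, (P⁻¹ * M * P).1 = M0 K) := by
    by_cases h1 : M = 1
    · left
      refine ⟨1, ?_⟩
      rw [h1, inv_one, mul_one, mul_one]
      exact ⟨rfl, rfl, rfl, rfl⟩
    · refine dich hK fun h2 => h1 ?_
      apply Subtype.ext
      have h4 : (1 : K) = -1 := by
        have := hM00
        rw [h2, Matrix.neg_apply, Matrix.one_apply_eq] at this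
        exact this.symm
      rw [h2]
      ext i j
      change -((1 : Matrix (Fin 6) (Fin 6) K) i j) = (1 : Matrix (Fin 6) (Fin 6) K) i j
      rw [Matrix.one_apply]
      split_ifs
      · exact h4.symm
      · exact neg_zero
  have e1 : ∀ P : SLn (Fin 6) K, φ P⁻¹ * x * g * (φ P⁻¹ * x)⁻¹ =
      (φ P⁻¹ * vP * (φ P⁻¹)⁻¹) * φ (P⁻¹ * M * P) * (φ P⁻¹ * uP * (φ P⁻¹)⁻¹) := by
    intro P
    calc φ P⁻¹ * x * g * (φ P⁻¹ * x)⁻¹ = φ P⁻¹ * (x * g * x⁻¹) * (φ P⁻¹)⁻¹ := by group
      _ = _ := by rw [e, map_mul, map_mul, hM, map_mul, map_inv]; group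
  have hvP' : ∀ P : SLn (Fin 6) K, φ P⁻¹ * vP * (φ P⁻¹)⁻¹ ∈ VNJ cs hp.isCartan (XX chevE6 6 K) {k | k ∈ J5} := fun P =>
    (Subgroup.mem_normalizer_iff.1 (LJ_le_normalizer_VNJ R _ (phi_LJ tabJ5 hφ P⁻¹)) vP).1 hvP
  have huP' : ∀ P : SLn (Fin 6) K, φ P⁻¹ * uP * (φ P⁻¹)⁻¹ ∈ VJ cs hp.isCartan (XX chevE6 6 K) {k | k ∈ J5} := fun P =>
    (Subgroup.mem_normalizer_iff.1 (LJ_le_normalizer_VJ R _ (phi_LJ tabJ5 hφ P⁻¹)) uP).1 huP
  rcases hd with ⟨P, hP⟩ | ⟨h3, P, hP⟩
  · obtain ⟨a, ha, l, hl, b, hb, eP⟩ := cell5 hφ hP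
    refine ⟨φ P⁻¹ * x, (φ P⁻¹ * vP * (φ P⁻¹)⁻¹) * a * l, mul_mem (mul_mem (VNJ5_le (hvP' P)) ha) (PL_le_m hl),
      b * (φ P⁻¹ * uP * (φ P⁻¹)⁻¹), mul_mem hb (VJ5_le (huP' P)), ?_⟩
    rw [e1 P, eP]
    group
  · obtain ⟨y, a, ha, b, hb, ey⟩ := bad_case h3 hφ hP (hvP' P) (huP' P)
    refine ⟨y * (φ P⁻¹ * x), a, ha, b, hb, ?_⟩
    rw [← ey, ← e1 P]
    group

set_option synthInstance.maxHeartbeats 200000 in
set_option synthInstance.maxSize 2000 in
theorem tabm : ∀ q < 72, Pm (vec chevE6 6 q) → (∃ k, k ∉ Jp ∧ vec chevE6 6 q k < 0) ∨ PL (vec chevE6 6 q) := by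
  decide +kernel

set_option synthInstance.maxHeartbeats 200000 in
set_option synthInstance.maxSize 2000 in
theorem tabp : ∀ q < 72, Pp (vec chevE6 6 q) → (∃ k, k ∉ Jp ∧ 0 < vec chevE6 6 q k) ∨ PL (vec chevE6 6 q) := by
  decide +kernel

theorem PL_le_LJ : SP K PL ≤ LJ cs hp.isCartan (TT chevE6 K) (XX chevE6 6 K) {k | k ∈ Jp} := by
  refine RGD.Sup_le fun x hx => X_le_LJ ⟨hx.1, fun k hk => ?_⟩
  have hk4 : k = 4 := by
    by_contra h
    apply hk
    fin_cases k <;> simp_all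
  rw [hk4]
  exact hx.2.1

/-- **The corner in `E₆(2)` and `E₆(3)`.** -/
theorem corner (hK : Nat.card K = 2 ∨ Nat.card K = 3) {g : ↥(chevE6.group K)}
    (hg : g ∉ (RGD.B cs hp.isCartan (TT chevE6 K) (XX chevE6 6 K)).normalCore) :
    ∃ x : ↥(chevE6.group K), ∃ v ∈ VNJ cs hp.isCartan (XX chevE6 6 K) {k | k ∈ Jp},
      ∃ l ∈ SP K PL, ∃ u ∈ VJ cs hp.isCartan (XX chevE6 6 K) {k | k ∈ Jp}, x * g * x⁻¹ = v * l * u := by
  obtain ⟨p, hpc⟩ := CharP.exists K
  have : Fact p.Prime := ⟨(CharP.char_is_prime_or_zero K p).resolve_right (CharP.char_ne_zero_of_finite K p)⟩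
  have := finite_W hp cs
  have R := rgd (K := K) hp cs p
  obtain ⟨y, a, ha, b, hb, e⟩ := conj_cell hK (gauss R (G1_eq_top hp _) (coord hp)
    (Cfsg.Agent.Nodes.ChevChart.irr_of Cfsg.Agent.Nodes.ChevChart.irr6) hg)
  have h1 : a ∈ ((VNJ cs hp.isCartan (XX chevE6 6 K) {k | k ∈ Jp} ⊔ SP K PL : Subgroup ↥(chevE6.group K)) :
      Set ↥(chevE6.group K)) := by
    refine (?_ : SP K Pm ≤ _) ha
    refine SP_le fun q hq hP c => ?_
    rcases tabm q hq hP with h | h
    · refine Subgroup.mem_sup_left ?_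
      rw [VNJ_eq]
      exact mem_SP hq h c
    · exact Subgroup.mem_sup_right (mem_SP hq h c)
  rw [Subgroup.coe_mul_of_right_le_normalizer_left _ _ (le_trans PL_le_LJ (LJ_le_normalizer_VNJ R _)), Set.mem_mul] at h1
  obtain ⟨v, hv, l, hl, rfl⟩ := h1
  have h2 : b ∈ ((SP K PL ⊔ VJ cs hp.isCartan (XX chevE6 6 K) {k | k ∈ Jp} : Subgroup ↥(chevE6.group K)) :
      Set ↥(chevE6.group K)) := by
    refine (?_ : SP K Pp ≤ _) hb
    refine SP_le fun q hq hP c => ?_
    rcases tabp q hq hP with h | h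
    · refine Subgroup.mem_sup_right ?_
      rw [VJ_eq]
      exact mem_SP hq h c
    · exact Subgroup.mem_sup_left (mem_SP hq h c)
  rw [Subgroup.coe_mul_of_left_le_normalizer_right _ _ (le_trans PL_le_LJ (LJ_le_normalizer_VJ R _)), Set.mem_mul] at h2
  obtain ⟨l', hl', u, hu, rfl⟩ := h2
  exact ⟨y, v, hv, l * l', mul_mem hl hl', u, hu, by rw [e]; group⟩

end Cfsg.Agent.H143.Pw.ESix
end

-- part: H150/Pw/ERow
section
/-!
# `E₆(2)`, `E₆(3)`: the rows of S2465 (with the corner of helper143)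
-/

set_option autoImplicit false

namespace Cfsg.Agent.H150.Pw

open Cfsg.Lie Cfsg.Agent.ChevalleyStructure Cfsg.Agent.H78.Pw
open Cfsg.Agent.H150.E6T (hp6 cs6)

universe u

variable {K : Type u} [Field K] [Finite K]

theorem corner (hK : Nat.card K = 2 ∨ Nat.card K = 3) : Corner K := by
  intro g hg
  obtain ⟨p, hpc⟩ := CharP.exists K
  have : Fact p.Prime := ⟨(CharP.char_is_prime_or_zero K p).resolve_right (CharP.char_ne_zero_of_finite K p)⟩
  have hS : IsSimpleGroup ↥(chevE6.group K) ∧ ¬ IsMulCommutative ↥(chevE6.group K) :=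
    Cfsg.Agent.S1054.result chevE6 (by simp)
  exact Cfsg.Agent.H143.Pw.ESix.corner hK (Cfsg.Agent.H224.Ore.Row.not_mem_core (by norm_num) hS.1 p hp6 hg)

theorem six_E6_two (hK : Nat.card K = 2) : All 6 ↥(chevE6.group K) :=
  six_small (corner (Or.inl hK)) (a5_two hK)

theorem six_E6_three_of (hK : Nat.card K = 3) (h5 : A5 K) : All 6 ↥(chevE6.group K) :=
  six_small (corner (Or.inr hK)) h5

end Cfsg.Agent.H150.Pw
end

private theorem dce_f782d6ac411d : _root_.True := by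
  try have : _root_.True := by simp only [_root_.Cfsg.Agent.H143.Pw.ESix.bc.eq_1]
  try have : _root_.True := by simp only [_root_.Cfsg.Agent.H143.Pw.ESix.ar.eq_1]
  exact _root_.True.intro
end

-- part: H700/PwU/Row
section
prune_inst 0x2040040038e200000000800442200020480000000000880020a009020201a002c00000000a002004080000000000002811000000424000000e000400000000000080000420000008420010000000000000000000000000000000000000000000000000000
set_option linter.all false
open scoped Cfsg.Agent.FastGrp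

-- part: H700/PwU/Poly
section
/-!
# Polynomials of prime order for the special unitary group (S2465, PSU; helper700)
-/

set_option autoImplicit false

namespace Cfsg.Agent.H700.PwU

open Module Polynomial Matrix

/-- the prime -/
theorem exists_prime {q m : ℕ} (hq : 2 ≤ q) (hm : 2 ≤ m) : ∃ l : ℕ, l.Prime ∧ 5 ≤ l ∧ ¬ l ∣ q ∧
    (∀ d : ℕ, l ∣ (q ^ 2) ^ d - 1 → m ∣ d) ∧ l ∣ (q ^ 2) ^ m - 1 ∧ (∀ j : ℕ, ¬ l ∣ q ^ (2 * j + 1) + 1) := by
  obtain ⟨n, hn3, hn6, hnm, hcase⟩ : ∃ n : ℕ, 3 ≤ n ∧ ¬ (q = 2 ∧ n = 6) ∧ n ∣ 2 * m ∧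
      ((Even m ∧ n = 2 * m) ∨ (Odd m ∧ n = m)) := by
    rcases Nat.even_or_odd m with h | h
    · refine ⟨2 * m, by omega, ?_, dvd_rfl, Or.inl ⟨h, rfl⟩⟩
      rintro ⟨-, h6⟩
      have : m = 3 := by omega
      subst this
      exact absurd h (by decide)
    · refine ⟨m, ?_, ?_, Dvd.intro_left 2 rfl, Or.inr ⟨h, rfl⟩⟩
      · obtain ⟨k, hk⟩ := h
        omega
      · rintro ⟨-, h6⟩
        subst h6
        exact absurd h (by decide)
  obtain ⟨l, hl, hord⟩ := Lib.Zsigmondy.exists_prime_orderOf (a := q) (n := n) hq (by omega) (by omega) (by omega)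
  have hlf : Fact l.Prime := ⟨hl⟩
  have hlq : ¬ l ∣ q := by
    intro h
    have h1 : ((q : ℕ) : ZMod l) = 0 := (ZMod.natCast_eq_zero_iff _ _).2 h
    rw [h1, orderOf_eq_zero] at hord
    · omega
    · rw [isOfFinOrder_iff_pow_eq_one]
      rintro ⟨k, hk, hk1⟩
      rw [zero_pow (by omega)] at hk1
      exact zero_ne_one hk1
  have key : ∀ k : ℕ, l ∣ q ^ k - 1 ↔ n ∣ k := by
    intro k
    rw [← hord, orderOf_dvd_iff_pow_eq_one, ← Nat.cast_pow, ← sub_eq_zero]
    have h1 : ((q ^ k : ℕ) : ZMod l) - 1 = ((q ^ k - 1 : ℕ) : ZMod l) := by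
      rw [Nat.cast_sub (Nat.one_le_pow _ _ (by omega)), Nat.cast_one]
    rw [h1, ZMod.natCast_eq_zero_iff]
  have hln : n ∣ l - 1 := by
    rw [← key]
    have h1 := ZMod.pow_card_sub_one_eq_one (p := l) (a := (q : ZMod l)) (by
      rw [Ne, ZMod.natCast_eq_zero_iff]
      exact hlq)
    have h2 : ((q ^ (l - 1) - 1 : ℕ) : ZMod l) = 0 := by
      rw [Nat.cast_sub (Nat.one_le_pow _ _ (by omega)), Nat.cast_one, Nat.cast_pow, h1, sub_self]
    exact (ZMod.natCast_eq_zero_iff _ _).1 h2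
  have hl1 : n ≤ l - 1 := Nat.le_of_dvd (by have := hl.two_le; omega) hln
  have hl5 : 5 ≤ l := by
    by_contra hlt
    have h3 : l = 4 := by omega
    rw [h3] at hl
    exact absurd hl (by norm_num)
  refine ⟨l, hl, hl5, hlq, ?_, ?_, ?_⟩
  · intro d hd
    rw [← pow_mul, key] at hd
    rcases hcase with ⟨-, h⟩ | ⟨h, h'⟩
    · rw [h] at hd
      exact Nat.dvd_of_mul_dvd_mul_left (by norm_num) hd
    · rw [h'] at hd
      exact (Nat.Coprime.dvd_of_dvd_mul_left (Nat.Coprime.symm (Nat.coprime_two_left.2 h)) hd)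
  · rw [← pow_mul, key]
    exact hnm
  · intro j hj
    have h1 : l ∣ q ^ (2 * (2 * j + 1)) - 1 := by
      have h2 : q ^ (2 * (2 * j + 1)) - 1 = (q ^ (2 * j + 1) + 1) * (q ^ (2 * j + 1) - 1) := by
        rw [two_mul (2 * j + 1), pow_add]
        obtain ⟨x, hx⟩ : ∃ x, q ^ (2 * j + 1) = x + 1 := ⟨q ^ (2 * j + 1) - 1, by
          have : 1 ≤ q ^ (2 * j + 1) := Nat.one_le_pow _ _ (by omega)
          omega⟩
        rw [hx, Nat.add_sub_cancel]
        have : (x + 1) * (x + 1) = (x + 1 + 1) * x + 1 := by ring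
        omega
      rw [h2]
      exact Dvd.dvd.mul_right hj _
    have h3 : ¬ n ∣ 2 * j + 1 := by
      intro h
      have h4 := (key _).2 h
      have h5 : l ∣ (q ^ (2 * j + 1) + 1) - (q ^ (2 * j + 1) - 1) := Nat.dvd_sub hj h4
      have h6 : 1 ≤ q ^ (2 * j + 1) := Nat.one_le_pow _ _ (by omega)
      have h7 : (q ^ (2 * j + 1) + 1) - (q ^ (2 * j + 1) - 1) = 2 := by omega
      rw [h7] at h5
      have := Nat.le_of_dvd (by norm_num) h5
      omega
    rw [key] at h1
    rcases hcase with ⟨h, h'⟩ | ⟨h, h'⟩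
    · rw [h'] at h1
      have h4 : m ∣ 2 * j + 1 := Nat.dvd_of_mul_dvd_mul_left (by norm_num) h1
      have h5 : 2 ∣ 2 * j + 1 := (even_iff_two_dvd.1 h).trans h4
      omega
    · rw [h'] at h1 h3
      exact h3 (Nat.Coprime.dvd_of_dvd_mul_left (Nat.Coprime.symm (Nat.coprime_two_left.2 h)) h1)

/-- **the polynomial** -/
theorem exists_poly {F : Type*} [Field F] [Fintype F] {q : ℕ} (hF : Fintype.card F = q ^ 2) (σ : F →+* F)
    (hσ : ∀ a, σ a = a ^ q) {m : ℕ} (hm : 2 ≤ m) :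
    ∃ (l : ℕ) (f : F[X]), l.Prime ∧ 5 ≤ l ∧ ¬ l ∣ q ∧ f ∣ X ^ l - 1 ∧
      Irreducible f ∧ f.Monic ∧ f.natDegree = m ∧ σ (f.coeff 0) = f.coeff 0 ∧
      IsCoprime f (f.map σ).reverse ∧ ∀ c : F, c ^ (q + 1) = 1 → c ≠ 1 → f.scaleRoots c ≠ f := by
  classical
  have hq : 2 ≤ q := by
    have h1 : 1 < Fintype.card F := Fintype.one_lt_card
    rw [hF] at h1
    by_contra hcon
    interval_cases q <;> simp at h1
  obtain ⟨p, hp⟩ := CharP.exists F
  obtain ⟨n, hpp, hcard⟩ := FiniteField.card F p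
  have : Fact p.Prime := ⟨hpp⟩
  have : NeZero m := ⟨by omega⟩
  obtain ⟨k, -, hk⟩ : ∃ k ≤ (n : ℕ), q = p ^ k :=
    (Nat.dvd_prime_pow hpp).1 (by rw [← hcard, hF]; exact dvd_pow_self _ (by norm_num))
  obtain ⟨l, hl, hl5, hlq, hld, hlm, hlo⟩ := exists_prime hq hm
  set E := FiniteField.Extension F p m with hE
  have hEcard : Nat.card E = (q ^ 2) ^ m := by
    rw [hE, FiniteField.natCard_extension, Nat.card_eq_fintype_card, hF]
  have hEfin : finrank F E = m := FiniteField.finrank_extension F p m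
  have : FiniteDimensional F E := inferInstance
  have : CharP E p := charP_of_injective_algebraMap (algebraMap F E).injective p
  have hQm1 : 1 < (q ^ 2) ^ m := Nat.one_lt_pow (by omega) (by nlinarith only [hq])
  -- the generator
  obtain ⟨η, hη⟩ := IsCyclic.exists_generator (α := Eˣ)
  have hηord : orderOf η = (q ^ 2) ^ m - 1 := by
    rw [orderOf_eq_card_of_forall_mem_zpowers hη, Nat.card_units, hEcard]
  obtain ⟨N, hN⟩ := hlm
  have hN0 : 0 < N := by
    rcases Nat.eq_zero_or_pos N with h0 | h0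
    · rw [h0] at hN; omega
    · exact h0
  have hξord : orderOf ((η ^ N : Eˣ) : E) = l := by
    rw [orderOf_units, orderOf_pow, hηord, hN, Nat.gcd_mul_left_left, Nat.mul_div_cancel _ hN0]
  set ξ : E := ((η ^ N : Eˣ) : E) with hξ
  have hξ0 : ξ ≠ 0 := Units.ne_zero _
  have hord : ∀ k : ℕ, ξ ^ k = 1 ↔ l ∣ k := fun k => by rw [← hξord, orderOf_dvd_iff_pow_eq_one]
  have hint : IsIntegral F ξ := Algebra.IsIntegral.isIntegral ξ
  -- the degree
  have hdeg : (minpoly F ξ).natDegree = m := by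
    set K := IntermediateField.adjoin F {ξ} with hK
    have h1 : finrank F K = (minpoly F ξ).natDegree := IntermediateField.adjoin.finrank hint
    have h2 : finrank F K * finrank K E = m := by rw [finrank_mul_finrank, hEfin]
    have h3 : Nat.card K = (q ^ 2) ^ finrank F K := by
      rw [Module.natCard_eq_pow_finrank (K := F), Nat.card_eq_fintype_card, hF]
    have h4 : l ∣ (q ^ 2) ^ finrank F K - 1 := by
      rw [← hord, ← h3]
      have := Fintype.ofFinite K
      have h5 : (⟨ξ, IntermediateField.mem_adjoin_simple_self F ξ⟩ : K) ^ (Nat.card K - 1) = 1 := by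
        rw [Nat.card_eq_fintype_card]
        exact FiniteField.pow_card_sub_one_eq_one _ (by
          intro h; exact hξ0 (congrArg Subtype.val h))
      exact congrArg Subtype.val h5
    rw [← h1]
    exact Nat.dvd_antisymm (Dvd.intro _ h2) (hld _ h4)
  -- the roots
  have hroot : ∀ θ : E, aeval θ (minpoly F ξ) = 0 → ∃ j < m, θ = ξ ^ (q ^ 2) ^ j := by
    intro θ hθ
    obtain ⟨τ, hτ⟩ := minpoly.exists_algEquiv_of_root' (hint.isAlgebraic) hθ
    obtain ⟨i, hi, hiτ⟩ := FiniteField.Extension.exists_frob_pow_eq F p m τ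
    refine ⟨i, hi, ?_⟩
    rw [← hτ, ← hiτ, FiniteField.Extension.frob_iterate_apply, Nat.card_eq_fintype_card, hF]
  have hl2 : ¬ l ∣ q ^ 2 - 1 := by
    intro h
    have h1 := hld 1 (by rw [pow_one]; exact h)
    have := Nat.le_of_dvd one_pos h1
    omega
  refine ⟨l, minpoly F ξ, hl, hl5, hlq, ?_, minpoly.irreducible hint, minpoly.monic hint, hdeg, ?_, ?_, ?_⟩
  · apply minpoly.dvd
    rw [map_sub, map_pow, aeval_X, map_one, (hord l).2 dvd_rfl, sub_self]
  · -- the constant term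
    have h1 := Cfsg.Agent.H117.OrePoly.coeff_zero_eq (F := F) (x := ξ) (by rw [hdeg, hEfin])
    have h2 : Algebra.norm F ξ = 1 := by
      apply (algebraMap F E).injective
      rw [FiniteField.algebraMap_norm_eq_pow, map_one, hord, hEcard, Nat.card_eq_fintype_card, hF]
      have h3 : q ^ 2 - 1 ∣ (q ^ 2) ^ m - 1 := by
        simpa only [_root_.one_pow] using Nat.sub_dvd_pow_sub_pow (q ^ 2) 1 m
      obtain ⟨S, hS⟩ := h3
      have h4 : 0 < q ^ 2 - 1 := by
        have : 4 ≤ q ^ 2 := by nlinarith only [hq]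
        omega
      rw [hS, Nat.mul_div_cancel_left _ h4]
      have h5 : l ∣ (q ^ 2 - 1) * S := by rw [← hS, hN]; exact Dvd.intro _ rfl
      exact (hl.dvd_mul.1 h5).resolve_left hl2
    have h3 : σ (Algebra.norm F ξ) = Algebra.norm F ξ := by rw [h2, map_one]
    rw [h1, map_mul, map_pow, map_neg, map_one] at h3
    exact mul_left_cancel₀ (pow_ne_zero _ (neg_ne_zero.2 one_ne_zero)) h3
  · -- coprime to the reverse
    rw [(minpoly.irreducible hint).coprime_iff_not_dvd]
    intro hdv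
    have h1 : aeval ξ (((minpoly F ξ).map σ).reverse) = 0 := by
      obtain ⟨g, hg⟩ := hdv
      rw [hg, map_mul, minpoly.aeval, zero_mul]
    let _ : Invertible (ξ⁻¹) := invertibleOfNonzero (inv_ne_zero hξ0)
    have h2 : aeval ξ⁻¹ ((minpoly F ξ).map σ) = 0 := by
      have h3 := eval₂_reverse_eq_zero_iff (algebraMap F E) ξ⁻¹ ((minpoly F ξ).map σ)
      rw [invOf_eq_inv, inv_inv] at h3
      exact h3.1 h1
    let φ : E →+* E := iterateFrobenius E p k
    have hφ : ∀ x, φ x = x ^ q := fun x => by rw [hk]; exact iterateFrobenius_def p k x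
    have hcomp : (algebraMap F E).comp σ = φ.comp (algebraMap F E) := by
      ext a
      simp [hφ, hσ]
    obtain ⟨θ, hθ⟩ : ∃ θ, φ θ = ξ⁻¹ := (Finite.injective_iff_surjective.1 φ.injective) _
    have h4 : aeval θ (minpoly F ξ) = 0 := by
      apply φ.injective
      rw [map_zero, ← h2, aeval_def, aeval_def, eval₂_map, hcomp, ← hθ, hom_eval₂]
    obtain ⟨j, hj, hjθ⟩ := hroot θ h4
    have h5 : ξ ^ ((q ^ 2) ^ j * q + 1) = 1 := by
      rw [pow_succ, pow_mul, ← hjθ, ← hφ, hθ, inv_mul_cancel₀ hξ0]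
    have h6 : (q ^ 2) ^ j * q = q ^ (2 * j + 1) := by rw [← pow_mul, pow_succ]
    rw [h6, hord] at h5
    exact hlo j h5
  · -- scaling
    intro c hc hc1 hcon
    have h1 := scaleRoots_aeval_eq_zero (R := F) (A := E) (p := minpoly F ξ) (a := ξ) (r := c)
      (minpoly.aeval F ξ)
    rw [hcon] at h1
    obtain ⟨j, hj, hjl⟩ := hroot _ h1
    have hpos : 1 ≤ (q ^ 2) ^ j := Nat.one_le_pow _ _ (by positivity)
    have h2 : algebraMap F E c = ξ ^ ((q ^ 2) ^ j - 1) := by
      apply mul_right_cancel₀ hξ0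
      rw [hjl, ← pow_succ, Nat.sub_add_cancel hpos]
    have h3 : c ^ l = 1 := by
      apply (algebraMap F E).injective
      rw [map_pow, h2, ← pow_mul, mul_comm, pow_mul, (hord l).2 dvd_rfl, one_pow, map_one]
    have h4 : Nat.gcd l (q + 1) = 1 := by
      rw [← Nat.Coprime, hl.coprime_iff_not_dvd]
      intro h
      apply hl2
      refine h.trans ⟨q - 1, ?_⟩
      obtain ⟨r, rfl⟩ : ∃ r, q = r + 1 := ⟨q - 1, by omega⟩
      have : (r + 1) ^ 2 = (r + 1 + 1) * r + 1 := by ring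
      rw [this]; simp only [_root_.add_tsub_cancel_right]
    apply hc1
    have h5 := orderOf_dvd_of_pow_eq_one h3
    have h6 := orderOf_dvd_of_pow_eq_one hc
    have h7 := Nat.dvd_gcd h5 h6
    rw [h4, Nat.dvd_one, orderOf_eq_one_iff] at h7
    exact h7

end Cfsg.Agent.H700.PwU
end

-- part: H700/PwU/Crit
section
/-!
# The criterion, with orders (S2465, PSU; helper700)

Copy of `H98.Ore.criterion` : the element `z` has `l`-power order.
-/

set_option autoImplicit false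
set_option linter.unusedSectionVars false

namespace Cfsg.Agent.H700.PwU

open Module Polynomial Cfsg.Agent.H951 Matrix Cfsg.Agent.H98.Ore

variable {F V : Type*} [Field F] [Fintype F] [AddCommGroup V] [Module F V] [FiniteDimensional F V]
  {q : ℕ} {σ : F →+* F} {B : V → V → F}
  {ι : Type} [Fintype ι] [DecidableEq ι] {w w' : ι → V}

/-- `g` is a product of two isometries of determinant one of `l`-power order -/
def IsPw (B : V → V → F) (l : ℕ) (g : End F V) : Prop :=
  ∃ a b : V ≃ₗ[F] V, a ∈ SGr B ∧ b ∈ SGr B ∧ (∃ c, orderOf a ∣ l ^ c) ∧ (∃ c, orderOf b ∣ l ^ c) ∧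
    ∀ v, g v = a (b v)

/-- the order of an isometry acting as `Z` on a frame -/
theorem orderOf_lev (hB : HS q σ B) {e : ℕ} (he : e ≤ 1) (hn : finrank F V = 2 * Fintype.card ι + e)
    (h : Fr B w w') {z : V ≃ₗ[F] V} (hz : z ∈ SGr B) {Z : Matrix ι ι F} (hZ : Z.det ≠ 0)
    (hzw : ∀ j, z (w j) = ∑ i, Z i j • w i) (hcop : IsCoprime Z.charpoly (Z.charpoly.map σ).reverse)
    (hc : e = 1 → Z.charpoly.eval (σ Z.det * Z.det⁻¹) ≠ 0) {l : ℕ} (hl : l.Prime) (hZl : Z ^ l = 1) :
    ∃ c, orderOf z ∣ l ^ c := by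
  have hVf : Finite V := Module.finite_of_finite F
  have hfin : Finite (V ≃ₗ[F] V) := by
    have : Function.Injective (fun u : V ≃ₗ[F] V => (u : V → V)) := fun a b hab =>
      LinearEquiv.ext fun v => congrFun hab v
    exact Finite.of_injective _ this
  have hn0 : orderOf z ≠ 0 := (isOfFinOrder_of_finite z).orderOf_pos.ne'
  obtain ⟨c, n', hn', hord⟩ : ∃ c n', ¬ l ∣ n' ∧ orderOf z = l ^ c * n' :=
    Nat.exists_eq_pow_mul_and_not_dvd hn0 l hl.ne_one
  have hcopn : Nat.Coprime l n' := (hl.coprime_iff_not_dvd).2 hn'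
  obtain ⟨t, ht1, ht2⟩ := Nat.chineseRemainder hcopn 1 0
  have hZt : Z ^ t = Z := by
    have h1 : t % l = 1 % l := ht1
    rw [← Nat.div_add_mod t l, h1, Nat.mod_eq_of_lt hl.one_lt, pow_add, pow_mul, hZl, one_pow, one_mul, pow_one]
  have hmul : ∀ (n : ℕ) (v : V), (z ^ n) v = ((z : End F V) ^ n) v := by
    intro n
    induction n with
    | zero => intro v; rfl
    | succ n ih =>
      intro v
      rw [pow_succ', pow_succ', LinearEquiv.mul_apply, ih, Module.End.mul_apply]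
      rfl
  have hcoe : ((z ^ t : V ≃ₗ[F] V) : End F V) = (z : End F V) ^ t := by
    apply LinearMap.ext
    intro v
    exact hmul t v
  have hzw1 : ∀ j, (z : End F V) (w j) = ∑ i, Z i j • w i := hzw
  have hztw : ∀ j, (z ^ t) (w j) = ∑ i, Z i j • w i := by
    intro j
    rw [hmul]
    have h1 := aeval_frame (x := (z : End F V)) (w := w) hzw1 (X ^ t) j
    rw [map_pow, aeval_X, map_pow, aeval_X, hZt] at h1
    exact h1
  have hfw : ∀ j, aeval ((z ^ t : V ≃ₗ[F] V) : End F V) Z.charpoly (w j) = 0 := by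
    intro j
    rw [aeval_frame (x := ((z ^ t : V ≃ₗ[F] V) : End F V)) (w := w) hztw, Matrix.aeval_self_charpoly]
    simp only [_root_.Matrix.zero_apply, _root_.zero_smul, _root_.Finset.sum_const_zero]
  obtain ⟨u, -, hu⟩ := conj_same hB he hn h ((SGr B).pow_mem hz t) hz hZ hztw hzw hfw hcop hc
  have h3 : orderOf z = orderOf (z ^ t) := by
    have h4 : orderOf (u * z ^ t * u⁻¹) = orderOf (z ^ t) := orderOf_injective (MulAut.conj u).toMonoidHom
      (MulAut.conj u).injective (z ^ t)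
    rw [← h4, ← hu]
  refine ⟨c, ?_⟩
  rw [h3, orderOf_dvd_iff_pow_eq_one, ← pow_mul, ← orderOf_dvd_iff_pow_eq_one, hord, mul_comm t]
  exact Nat.mul_dvd_mul_left _ ((Nat.modEq_zero_iff_dvd).1 ht2)

/-- the criterion, with the order of `z` -/
theorem criterionP (hB : HS q σ B) {g : End F V} (hg : Isom B g) (hdet : LinearMap.det g = 1)
    (hι : finrank F V = 2 * Fintype.card ι ∨ finrank F V = 2 * Fintype.card ι + 1) {P Z h : Matrix ι ι F}
    (hP : Cor B g P) (hPZ : P * Z * h = h * Z) (hh : h.det = 1) (hZ0 : Z.det ≠ 0)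
    (hZ : finrank F V = 2 * Fintype.card ι → σ Z.det = Z.det) (h1 : IsCoprime Z.charpoly (Z.charpoly.map σ).reverse)
    (h2 : Z.charpoly.eval (σ Z.det * Z.det⁻¹) ≠ 0) {l : ℕ} (hl : l.Prime) (hZl : Z ^ l = 1) : IsPw B l g := by
  obtain ⟨w, w', hw, hPw⟩ := hP
  obtain ⟨e, he, hn⟩ : ∃ e, e ≤ 1 ∧ finrank F V = 2 * Fintype.card ι + e := by
    rcases hι with h3 | h3
    · exact ⟨0, by norm_num, by omega⟩
    · exact ⟨1, le_rfl, h3⟩
  have hPZ0 : (P * Z).det ≠ 0 := by
    have h3 := congrArg Matrix.det hPZ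
    rw [Matrix.det_mul, Matrix.det_mul h, hh, mul_one, one_mul] at h3
    rw [h3]; exact hZ0
  have hh0 : h.det ≠ 0 := by rw [hh]; exact one_ne_zero
  -- g as an equivalence
  set G : V ≃ₗ[F] V := LinearEquiv.ofInjectiveEndo g (Isom.inj' hB hg) with hG
  have hGg : ∀ v, G v = g v := fun v => rfl
  have hGg' : (G : V →ₗ[F] V) = g := by ext v; rfl
  have hGmem : G ∈ SGr B := mem_SGr.2 ⟨fun u v => by rw [hGg, hGg, hg], by rw [hGg', hdet]⟩
  -- the frame for z
  have hfr : Fr B (fun j => ∑ i, Z i j • w i) (fun j => G⁻¹ (∑ i, ist σ (P * Z) i j • w' i)) := by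
    have hGG : ∀ v, g (G⁻¹ v) = v := fun v => by
      rw [← hGg, ← LinearEquiv.mul_apply, mul_inv_cancel]; rfl
    refine ⟨fun i j => ?_, fun i j => ?_, fun i j => ?_⟩
    · rw [sum_left' hB]
      simp only [sum_right' hB]
      simp only [hw.ww, _root_.MulZeroClass.mul_zero, _root_.Finset.sum_const_zero]
    · rw [← hg, hGG, map_sum]
      simp only [map_smul]
      rw [sum_left' hB]
      simp only [sum_right' hB, hPw]
      rw [← ist_dual hB hPZ0 i j]
      simp only [Matrix.mul_apply, Finset.sum_mul, Finset.mul_sum]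
      rw [Finset.sum_comm]
      refine Finset.sum_congr rfl fun k _ => Finset.sum_congr rfl fun m _ => ?_
      ring
    · rw [← hg, hGG, hGG, sum_left' hB]
      simp only [sum_right' hB]
      simp only [hw.ww', _root_.MulZeroClass.mul_zero, _root_.Finset.sum_const_zero]
  -- the three isometries
  obtain ⟨z₀, hz, hzw, hzw', hzd⟩ := exists_isom hB he hn hw hfr
  obtain ⟨x₀, hx, hxw, hxw', hxd⟩ := exists_isom hB he hn hw (hw.trans hB (ist_dual hB hZ0))
  obtain ⟨k₀, hk, hkw, hkw', hkd⟩ := exists_isom hB he hn hw (hw.trans hB (ist_dual hB hh0))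
  have hzd1 : LinearMap.det z₀ = 1 := by
    rcases Nat.le_one_iff_eq_zero_or_eq_one.1 he with h0 | h0
    · have h3 := det_even hB (by rw [hn, h0, add_zero]) hw hz hZ0 hzw
      rw [hZ (by rw [hn, h0, add_zero])] at h3
      exact mul_right_cancel₀ hZ0 (by rw [h3, one_mul])
    · exact hzd h0
  have hxd1 : LinearMap.det x₀ = 1 := by
    rcases Nat.le_one_iff_eq_zero_or_eq_one.1 he with h0 | h0
    · have h3 := det_even hB (by rw [hn, h0, add_zero]) hw hx hZ0 hxw
      rw [hZ (by rw [hn, h0, add_zero])] at h3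
      exact mul_right_cancel₀ hZ0 (by rw [h3, one_mul])
    · exact hxd h0
  have hkd1 : LinearMap.det k₀ = 1 := by
    rcases Nat.le_one_iff_eq_zero_or_eq_one.1 he with h0 | h0
    · have h3 := det_even hB (by rw [hn, h0, add_zero]) hw hk hh0 hkw
      rwa [hh, map_one, mul_one] at h3
    · exact hkd h0
  set z : V ≃ₗ[F] V := LinearEquiv.ofInjectiveEndo z₀ (Isom.inj' hB hz) with hzdef
  set x : V ≃ₗ[F] V := LinearEquiv.ofInjectiveEndo x₀ (Isom.inj' hB hx) with hxdef
  set k : V ≃ₗ[F] V := LinearEquiv.ofInjectiveEndo k₀ (Isom.inj' hB hk) with hkdef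
  have hz0 : (z : V →ₗ[F] V) = z₀ := by ext v; rfl
  have hx0 : (x : V →ₗ[F] V) = x₀ := by ext v; rfl
  have hk0 : (k : V →ₗ[F] V) = k₀ := by ext v; rfl
  have hzm : z ∈ SGr B := mem_SGr.2 ⟨hz, by rw [hz0, hzd1]⟩
  have hxm : x ∈ SGr B := mem_SGr.2 ⟨hx, by rw [hx0, hxd1]⟩
  have hkm : k ∈ SGr B := mem_SGr.2 ⟨hk, by rw [hk0, hkd1]⟩
  have hxw1 : ∀ j, x (w j) = ∑ i, Z i j • w i := hxw
  have hzw1 : ∀ j, z (w j) = ∑ i, Z i j • w i := hzw
  have hxw1' : ∀ j, x (w' j) = ∑ i, ist σ Z i j • w' i := hxw'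
  have hzw1' : ∀ j, z (w' j) = G⁻¹ (∑ i, ist σ (P * Z) i j • w' i) := hzw'
  have hkw1' : ∀ j, k (w' j) = ∑ i, ist σ h i j • w' i := hkw'
  have hfw : ∀ j, aeval (x : End F V) Z.charpoly (w j) = 0 := by
    intro j
    rw [aeval_frame (x := (x : End F V)) hxw1, Matrix.aeval_self_charpoly]
    simp
  obtain ⟨u₁, hu₁, hzu⟩ := conj_same hB he hn hw hxm hzm hZ0 hxw1 hzw1 hfw h1 (fun _ => h2)
  -- the second conjugation
  set y : V ≃ₗ[F] V := k⁻¹ * (G * z) * k with hydef
  have hym : y ∈ SGr B :=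
    (SGr B).mul_mem ((SGr B).mul_mem ((SGr B).inv_mem hkm) ((SGr B).mul_mem hGmem hzm)) hkm
  have hcomp : ∀ (X Y : Matrix ι ι F) (a : V ≃ₗ[F] V), (∀ j, a (w' j) = ∑ i, X i j • w' i) →
      ∀ j, a (∑ i, Y i j • w' i) = ∑ i, (X * Y) i j • w' i := by
    intro X Y a ha j
    rw [map_sum]
    simp only [map_smul, ha, Finset.smul_sum, smul_smul]
    rw [Finset.sum_comm]
    simp only [← Finset.sum_smul]
    refine Finset.sum_congr rfl fun i _ => ?_
    rw [Matrix.mul_apply]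
    congr 1
    exact Finset.sum_congr rfl fun k _ => mul_comm _ _
  have hGz : ∀ j, (G * z) (w' j) = ∑ i, ist σ (P * Z) i j • w' i := by
    intro j
    rw [LinearEquiv.mul_apply, hzw1', ← LinearEquiv.mul_apply, mul_inv_cancel]
    rfl
  have hyw' : ∀ j, y (w' j) = ∑ i, ist σ Z i j • w' i := by
    intro j
    have h3 : k (∑ i, ist σ Z i j • w' i) = (G * z) (k (w' j)) := by
      rw [hcomp _ _ k hkw1', hkw1', hcomp _ _ (G * z) hGz, ← ist_mul, ← ist_mul, hPZ]
    rw [hydef, LinearEquiv.mul_apply, LinearEquiv.mul_apply, ← h3, ← LinearEquiv.mul_apply, inv_mul_cancel]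
    rfl
  have hcoeff : Z.charpoly.coeff 0 ≠ 0 := by
    intro h0
    apply hZ0
    rw [Matrix.det_eq_sign_charpoly_coeff, h0, mul_zero]
  have hxinv : (x : End F V) * ((x⁻¹ : V ≃ₗ[F] V) : End F V) = 1 := by
    ext v
    change x (x⁻¹ v) = v
    rw [← LinearEquiv.mul_apply, mul_inv_cancel]; rfl
  have hxinv' : ((x⁻¹ : V ≃ₗ[F] V) : End F V) * (x : End F V) = 1 := by
    ext v
    change x⁻¹ (x v) = v
    rw [← LinearEquiv.mul_apply, inv_mul_cancel]; rfl
  have hfw' : ∀ j, aeval (x : End F V) (Z.charpoly.map σ).reverse (w' j) = 0 := by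
    intro j
    have h3 := aeval_frame (x := (x : End F V)) (w := w') hxw1' (Z.charpoly.map σ).reverse j
    rw [h3]
    apply Finset.sum_eq_zero
    intro i _
    have h4 : B (aeval (x : End F V) (Z.charpoly.map σ).reverse (w' j)) (w i) = 0 := by
      rw [B_aeval hB (x := (x : End F V)) hx hxinv, map_rev_map hB.ss, aeval_reverse' hxinv', Module.End.mul_apply, hfw, map_zero,
        hB.zero_right]
    rw [h3, sum_left' hB] at h4
    simp only [hw.dual' hB, mul_ite, mul_one, mul_zero, Finset.sum_ite_eq', Finset.mem_univ, if_true] at h4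
    rw [h4, zero_smul]
  have hσZ0 : σ Z.det ≠ 0 := (_root_.map_ne_zero σ).2 hZ0
  have hist0 : (ist σ Z).det ≠ 0 := by
    rw [det_ist, map_inv₀]
    exact inv_ne_zero hσZ0
  obtain ⟨u₂, hu₂, hyu⟩ := conj_same hB he hn (hw.swap hB) hxm hym hist0 hxw1' hyw' hfw' (by
    rw [map_rev_map hB.ss, reverse_reverse' hcoeff]
    exact h1.symm) (by
    intro _ h3
    apply h2
    rw [det_ist, map_inv₀, inv_inv, map_inv₀, hB.ss] at h3
    set c := σ Z.det * Z.det⁻¹ with hcdef
    have hc0 : c ≠ 0 := mul_ne_zero hσZ0 (inv_ne_zero hZ0)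
    have h4 : (Z.det)⁻¹ * σ Z.det = c := mul_comm _ _
    rw [h4] at h3
    let _ : Invertible c⁻¹ := invertibleOfNonzero (inv_ne_zero hc0)
    have h5 := eval₂_reverse_eq_zero_iff (RingHom.id F) (c⁻¹) (Z.charpoly.map σ)
    have h6 : (⅟(c⁻¹) : F) = c := by rw [invOf_eq_inv, inv_inv]
    rw [h6, ← eval, h3, eq_self_iff_true, true_iff, ← eval, eval_map] at h5
    have h7 : c⁻¹ = σ c := by
      rw [hcdef, map_mul, map_inv₀, hB.ss, mul_inv, inv_inv, mul_comm]
    rw [h7, eval₂_at_apply] at h5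
    exact (map_eq_zero σ).1 h5)
  -- assemble
  set H : V ≃ₗ[F] V := k * u₂ * u₁⁻¹ with hH
  have hHm : H ∈ SGr B := (SGr B).mul_mem ((SGr B).mul_mem hkm hu₂) ((SGr B).inv_mem hu₁)
  have hfin : G * (z * H) = H * z := by
    have h3 : G * z = k * y * k⁻¹ := by rw [hydef]; group
    have h4 : x = u₁⁻¹ * z * u₁ := by rw [hzu]; group
    calc G * (z * H) = (G * z) * H := by group
      _ = k * (u₂ * x * u₂⁻¹) * k⁻¹ * H := by rw [h3, hyu]
      _ = k * (u₂ * (u₁⁻¹ * z * u₁) * u₂⁻¹) * k⁻¹ * H := by rw [← h4]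
      _ = H * z := by rw [hH]; group
  obtain ⟨c, hc⟩ := orderOf_lev hB he hn hw hzm hZ0 hzw1 h1 (fun _ => h2) hl hZl
  refine ⟨H * z * H⁻¹, z⁻¹, (SGr B).mul_mem ((SGr B).mul_mem hHm hzm) ((SGr B).inv_mem hHm), (SGr B).inv_mem hzm,
    ⟨c, ?_⟩, ⟨c, by rwa [orderOf_inv]⟩, ?_⟩
  · have h3 : orderOf (H * z * H⁻¹) = orderOf z := orderOf_injective (MulAut.conj H).toMonoidHom
      (MulAut.conj H).injective z
    rwa [h3]
  · have h3 : G = H * z * H⁻¹ * z⁻¹ := by
      calc G = G * (z * H) * (z * H)⁻¹ := by group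
        _ = H * z * (z * H)⁻¹ := by rw [hfin]
        _ = _ := by group
    intro v
    rw [← hGg, h3]
    rfl

end Cfsg.Agent.H700.PwU
end

-- part: H700/PwU/Good
section
/-!
# A good corner gives a product of two `l`-elements (helper700)
-/

set_option autoImplicit false
set_option linter.unusedSectionVars false

namespace Cfsg.Agent.H700.PwU

open Module Polynomial Cfsg.Agent.H951 Matrix Cfsg.Agent.H98.Ore

universe u

variable {F : Type*} {V : Type*} [Field F] [Fintype F] [AddCommGroup V] [Module F V] [FiniteDimensional F V]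
  {q : ℕ} {σ : F →+* F} {B : V → V → F}

/-- a product of two `l`-elements for some prime `l ≥ 5` prime to `q` -/
def IsPwE (q : ℕ) (B : V → V → F) (g : End F V) : Prop :=
  ∃ l : ℕ, l.Prime ∧ 5 ≤ l ∧ ¬ l ∣ q ∧ IsPw B l g

theorem Z_pow {ι : Type*} [Fintype ι] [DecidableEq ι] {Z : Matrix ι ι F} {f : F[X]} (hZ : Z.charpoly = f) {l : ℕ}
    (hfl : f ∣ X ^ l - 1) : Z ^ l = 1 := by
  obtain ⟨g, hg⟩ := hfl
  have h1 : aeval Z (X ^ l - 1 : F[X]) = 0 := by
    rw [hg, map_mul, ← hZ, Matrix.aeval_self_charpoly, zero_mul]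
  rw [map_sub, map_pow, aeval_X, map_one, sub_eq_zero] at h1
  exact h1

/-- T12 -/
theorem pw_of_good (hB : HS q σ B) (hn : 4 ≤ finrank F V) {g : End F V} (hg : Isom B g) (hdet : LinearMap.det g = 1)
    (h : Good B g) : IsPwE q B g := by
  obtain ⟨ι, hι1, hι2, P, hcard, hcor, hPd, x, p, hp, hpx⟩ := h
  have h2 : 2 ≤ Fintype.card ι := by omega
  have hq2 := LieClassical.HermBasic.two_le hB.card
  have hF4 : 4 ≤ Nat.card F := by
    rw [Nat.card_eq_fintype_card, hB.card]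
    nlinarith only [hq2]
  obtain ⟨l, f, hl, hl5, hlq, hfl, hf, hfm, hfd, hf0, hcop, -⟩ := exists_poly hB.card σ hB.sig h2
  obtain ⟨Z, k, hZf, hk, hPZ⟩ := Cfsg.Agent.H864.Ore.gl_comm hF4 P hPd x p hp hpx f hf hfm hfd h2
  have hc0 : f.coeff 0 ≠ 0 := by
    intro h0
    have h3 : f.eval 0 = 0 := by rw [← coeff_zero_eq_eval_zero, h0]
    have h4 := Polynomial.degree_eq_one_of_irreducible_of_root hf h3
    have h5 : f.natDegree = 1 := natDegree_eq_of_degree_eq_some h4
    omega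
  have hdetZ : Z.det = (-1) ^ Fintype.card ι * f.coeff 0 := by
    rw [Matrix.det_eq_sign_charpoly_coeff, hZf]
  have hZ0 : Z.det ≠ 0 := by
    rw [hdetZ]
    exact mul_ne_zero (pow_ne_zero _ (neg_ne_zero.2 one_ne_zero)) hc0
  have hσZ : σ Z.det = Z.det := by
    rw [hdetZ, map_mul, hf0, map_pow, map_neg, map_one]
  refine ⟨l, hl, hl5, hlq, criterionP hB hg hdet hcard hcor hPZ hk hZ0 (fun _ => hσZ) (by rw [hZf]; exact hcop) ?_ hl
    (Z_pow hZf hfl)⟩
  rw [hσZ, mul_inv_cancel₀ hZ0, hZf]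
  intro h3
  have h4 := Polynomial.degree_eq_one_of_irreducible_of_root hf h3
  have h5 : f.natDegree = 1 := natDegree_eq_of_degree_eq_some h4
  omega

end Cfsg.Agent.H700.PwU
end

-- part: H700/PwU/Aniso
section
/-!
# A frame for `c + (rank one anisotropic)` in odd dimension (helper700)
-/

set_option autoImplicit false
set_option linter.unusedSectionVars false

namespace Cfsg.Agent.H700.PwU

open Module Polynomial Cfsg.Agent.H951 Matrix Cfsg.Agent.H98.Ore

variable {F : Type*} {V : Type*} [Field F] [Fintype F] [AddCommGroup V] [Module F V] [FiniteDimensional F V]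
  {q : ℕ} {σ : F →+* F} {B : V → V → F}

theorem frame_aniso (hB : HS q σ B) {m : ℕ} (hn : finrank F V = 2 * (m + 2) + 1) {g : End F V} {c k : F}
    {e : V} (hc : c ≠ 0) (hk : k ≠ 0) (hee : B e e ≠ 0) (hgv : ∀ v, g v = c • v + (k * B v e) • e) :
    ∃ u φ : Fin (m + 2) → F, u ≠ 0 ∧ φ ≠ 0 ∧ φ ⬝ᵥ u = 0 ∧
      Cor B g (c • ((1 : Matrix (Fin (m + 2)) (Fin (m + 2)) F) + Matrix.vecMulVec u φ)) := by
  have he0 : e ≠ 0 := by
    rintro rfl
    exact hee (hB.frm.zero_left _)
  have hnd := Cfsg.Agent.H984.Ore.nd_span_singleton hB hee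
  have hle : Submodule.span F {e} ≤ (⊤ : Submodule F V) := le_top
  have h1 := hB.frm.finrank_perp_inf hnd hle
  rw [finrank_span_singleton he0, finrank_top] at h1
  obtain ⟨v, v', hv, hv', hfr⟩ := Cfsg.Agent.H984.Ore.exists_frame_aux hB (m + 2) _
    (hB.frm.nd_perp_inf (Cfsg.Agent.H984.Ore.nd_top hB) hnd hle) (Or.inl (by omega))
  have hve : ∀ i, B (v i) e = 0 := fun i => (hv i).1 e (Submodule.mem_span_singleton_self e)
  have hve' : ∀ i, B (v' i) e = 0 := fun i => (hv' i).1 e (Submodule.mem_span_singleton_self e)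
  have hev : ∀ i, B e (v i) = 0 := fun i => hB.frm.eq_zero_comm.1 (hve i)
  have hev' : ∀ i, B e (v' i) = 0 := fun i => hB.frm.eq_zero_comm.1 (hve' i)
  have hfix : σ (B e e) = B e e := Cfsg.Agent.H951.OreU.self_fix hB e
  obtain ⟨β, hβ⟩ := Cfsg.Agent.H951.OreU.exists_tr hB (c := -B e e) (by rw [map_neg, hfix])
  have hd' := hfr.dual' hB
  set N := B e e with hN
  let w : Fin (m + 2) → V := fun i => if i = 1 then v 1 + e + β • v' 1 else v i
  let w' : Fin (m + 2) → V := fun i => if i = 0 then v' 0 + e + β • v 0 + (-N) • v' 1 else v' i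
  have h10 : (1 : Fin (m + 2)) ≠ 0 := by simp
  have hw : Fr B w w' := by
    refine ⟨fun i j => ?_, fun i j => ?_, fun i j => ?_⟩
    · by_cases hi : i = 1 <;> by_cases hj : j = 1
      all_goals
        simp only [w, hi, hj, if_true, if_false, hB.frm.add_left, hB.frm.add_right, hB.frm.smul_left,
          hB.frm.smul_right, hve, hve', hev, hev', hfr.ww, hfr.ww', hfr.dual, hd', ← hN, map_neg, hfix]
      · linear_combination hβ
      · simp [Ne.symm hj]
      · simp [hi]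
    · by_cases hi : i = 1 <;> by_cases hj : j = 0
      all_goals
        simp only [w, w', hi, hj, if_true, if_false, hB.frm.add_left, hB.frm.add_right, hB.frm.smul_left,
          hB.frm.smul_right, hve, hve', hev, hev', hfr.ww, hfr.ww', hfr.dual, hd', ← hN, map_neg, hfix]
      · simp [h10, h10.symm]
      · simp
      · simp [hi]
    · by_cases hi : i = 0 <;> by_cases hj : j = 0
      all_goals
        simp only [w', hi, hj, if_true, if_false, hB.frm.add_left, hB.frm.add_right, hB.frm.smul_left,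
          hB.frm.smul_right, hve, hve', hev, hev', hfr.ww, hfr.ww', hfr.dual, hd', ← hN, map_neg, hfix]
      · simp only [h10, h10.symm, _root_.add_zero, _root_.mul_one, _root_.zero_add, _root_.MulZeroClass.mul_zero, ↓ _root_.reduceIte]
        linear_combination hβ
      · simp [Ne.symm hj]
      · simp [hi]
  have hwe : ∀ j, B (w j) e = if j = 1 then N else 0 := by
    intro j
    by_cases hj : j = 1
    · simp only [w, hj, if_true, hB.frm.add_left, hB.frm.smul_left, hve, hve', ← hN]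
      ring
    · simp only [w, hj, if_false, hve]
  have hew : ∀ i, B e (w' i) = if i = 0 then N else 0 := by
    intro i
    by_cases hi : i = 0
    · simp only [w', hi, if_true, hB.frm.add_right, hB.frm.smul_right, hev, hev', ← hN]
      ring
    · simp only [w', hi, if_false, hev']
  refine ⟨fun i => if i = 0 then c⁻¹ * k * N else 0, fun j => if j = 1 then N else 0, ?_, ?_, ?_, w, w', hw, fun i j => ?_⟩
  · intro h
    have h2 := congrFun h 0
    simp only [if_true, Pi.zero_apply] at h2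
    exact (mul_ne_zero (mul_ne_zero (inv_ne_zero hc) hk) hee) h2
  · intro h
    have h2 := congrFun h 1
    simp only [if_true, Pi.zero_apply] at h2
    exact hee h2
  · rw [dotProduct, Finset.sum_eq_zero]
    intro i _
    by_cases hi : i = 1
    · rw [hi, if_neg h10, mul_zero]
    · rw [if_neg hi, zero_mul]
  · rw [hgv, hB.frm.add_left, hB.frm.smul_left, hB.frm.smul_left, hw.dual, hwe, hew, Matrix.smul_apply, Matrix.add_apply,
      Matrix.one_apply, Matrix.vecMulVec_apply, smul_eq_mul]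
    by_cases hij : i = j
    · subst hij
      simp only [if_true]
      by_cases hi : i = 0
      · rw [hi]; simp
      · simp [hi]
    · rw [if_neg hij, if_neg (Ne.symm hij)]
      by_cases hi : i = 0 <;> by_cases hj : j = 1
      · simp only [hi, hj, if_true]
        field_simp
        try ring
      all_goals simp [hi, hj]

end Cfsg.Agent.H700.PwU
end

-- part: H700/PwU/Main
section
/-!
# Every nonscalar isometry of determinant one is a product of two `l`-elements (helper700)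

Copy of `H984.Ore.comm_rank_one_of` and `H98.Ore.comm_all` with orders.
-/

set_option autoImplicit false
set_option linter.unusedSectionVars false

namespace Cfsg.Agent.H700.PwU

open Module Polynomial Cfsg.Agent.H951 Matrix Cfsg.Agent.H98.Ore
open Cfsg.Agent.LieClassical.HermBasic

universe u v

variable {F : Type u} [Field F] [Fintype F] {q : ℕ} {σ : F →+* F} {V : Type v} [AddCommGroup V] [Module F V]
  [FiniteDimensional F V] {B : V → V → F}

theorem pw_rank_one (hB : HS q σ B) (hn : 4 ≤ finrank F V) {g : End F V}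
    (hg : Isom B g) (hdet : LinearMap.det g = 1)
    {c : F} (hc : finrank F (LinearMap.range (g - c • (1 : End F V))) = 1) : IsPwE q B g := by
  obtain ⟨hcq, e, k, he, hk, hgv⟩ := Cfsg.Agent.H951.OreU.rank_one_form hB (by omega) hg hc
  have hc0 : c ≠ 0 := by
    rintro rfl
    rw [zero_pow (by omega)] at hcq
    exact zero_ne_one hcq
  have hns : ∀ c' : F, g ≠ c' • (1 : End F V) := by
    rintro c' rfl
    have h1 : c' • (1 : End F V) - c • (1 : End F V) = (c' - c) • (1 : End F V) := by rw [sub_smul]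
    rw [h1] at hc
    by_cases h2 : c' - c = 0
    · rw [h2, zero_smul, LinearMap.range_zero, finrank_bot] at hc
      omega
    · have h3 : LinearMap.range ((c' - c) • (1 : End F V)) = ⊤ := by
        rw [LinearMap.range_eq_top]
        intro v
        refine ⟨(c' - c)⁻¹ • v, ?_⟩
        rw [LinearMap.smul_apply, Module.End.one_apply, smul_smul, mul_inv_cancel₀ h2, one_smul]
      rw [h3, finrank_top] at hc
      omega
  obtain ⟨w, hw, hgw⟩ := Cfsg.Agent.H951.OreU.exists_typeI hB hg hns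
  obtain ⟨U, g₁, b, h⟩ := Cfsg.Agent.H951.OreU.exists_step hB hg hw hgw
  obtain ⟨hU, hfr⟩ := Cfsg.Agent.H951.OreU.Step.hs hB hg h
  obtain ⟨rfl, rfl⟩ := Cfsg.Agent.H984.Ore.step_rank_one hB hgv h
  have hdet' := Cfsg.Agent.H984.Ore.det_rank_one hB hc0 (by omega) hgv
  rw [hdet] at hdet'
  obtain ⟨m, hm⟩ : ∃ m, finrank F V = 2 * (m + 1) ∨ finrank F V = 2 * (m + 1) + 1 :=
    ⟨finrank F V / 2 - 1, by omega⟩
  have hm1 : 1 ≤ m := by omega
  -- the corner `(c ^ m)⁻¹, c, ..., c`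
  have hcor : Cor B g (Matrix.fromBlocks (Matrix.of fun (_ _ : Unit) => (c ^ m)⁻¹) 0 0
      (Matrix.diagonal fun _ : Fin m => c)) := by
    have hU' := Cfsg.Agent.H984.Ore.cor_scalar hU (c := c) (m := m) (by omega)
    rcases hm with hm | hm
    · obtain ⟨i0, hi0, hi⟩ := exists_trace_zero_ne hB.card
      have hi' : σ i0 = -i0 := by
        rw [hB.sig]
        linear_combination hi
      obtain ⟨R, hR, hcor⟩ := Cfsg.Agent.H24.Ore.cor_step hB hg h hU' i0 hi'
      have hd : (Matrix.fromBlocks (Matrix.of fun (_ _ : Unit) => i0 * B (g w) w) R 0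
          (Matrix.diagonal fun _ : Fin m => c)).det = i0 * B (g w) w * c ^ m := by
        rw [Cfsg.Agent.H984.Ore.det_block, Matrix.det_diagonal, Finset.prod_const, Finset.card_univ, Fintype.card_fin]
      have hd0 : i0 * B (g w) w * c ^ m ≠ 0 := mul_ne_zero (mul_ne_zero hi0 h.ne) (pow_ne_zero _ hc0)
      have h1 := Cfsg.Agent.H98.Ore.cor_det hB hg (by
        rw [Fintype.card_sum, Fintype.card_unit, Fintype.card_fin]
        omega) hcor (by rw [hd]; exact hd0)
      rw [hd, hdet, one_mul] at h1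
      obtain ⟨R', hR', hcor'⟩ := Cfsg.Agent.H24.Ore.cor_step hB hg h hU' (i0 * (i0 * B (g w) w * c ^ m)⁻¹) (by
        rw [map_mul, map_inv₀, ← h1, hi', neg_mul])
      rw [hR' rfl] at hcor'
      have h2 : i0 * (i0 * B (g w) w * c ^ m)⁻¹ * B (g w) w = (c ^ m)⁻¹ := by
        have h3 := h.ne
        have h4 : c ^ m ≠ 0 := pow_ne_zero _ hc0
        field_simp
      rw [h2] at hcor'
      exact hcor'
    · obtain ⟨R, hR, hcor⟩ := Cfsg.Agent.H24.Ore.cor_step_odd hB hg h (κ := Fin m) (by rw [Fintype.card_fin]; omega) hU' (c ^ m)⁻¹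
      rw [hR rfl ⟨c, rfl⟩] at hcor
      exact hcor
  have hcm1 : Fintype.card (Unit ⊕ Fin m) = m + 1 := by
    rw [Fintype.card_sum, Fintype.card_unit, Fintype.card_fin, add_comm]
  have hcard : finrank F V = 2 * Fintype.card (Unit ⊕ Fin m) ∨ finrank F V = 2 * Fintype.card (Unit ⊕ Fin m) + 1 := by
    rw [hcm1]
    exact hm
  obtain ⟨l, f, hl, hl5, hlq, hfl, hf, hfm, hfd, hf0, hfc, hfs⟩ := exists_poly hB.card σ hB.sig (m := m + 1) (by omega)
  have hfr0 : ∀ x : F, f.eval x ≠ 0 := by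
    intro x hx
    have h1 := Polynomial.degree_eq_one_of_irreducible_of_root hf hx
    have h2 : f.natDegree = 1 := Polynomial.natDegree_eq_of_degree_eq_some h1
    omega
  have hcoeff : f.coeff 0 ≠ 0 := by
    rw [Polynomial.coeff_zero_eq_eval_zero]
    exact hfr0 0
  -- determinants of matrices with characteristic polynomial `f`
  have hZdet : ∀ {ι : Type} [Fintype ι] [DecidableEq ι] {Z : Matrix ι ι F}, Z.charpoly = f →
      Z.det ≠ 0 ∧ σ Z.det = Z.det ∧ Z.charpoly.eval (σ Z.det * Z.det⁻¹) ≠ 0 := by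
    intro ι _ _ Z hZ
    have h1 : Z.det ≠ 0 := by
      rw [Matrix.det_eq_sign_charpoly_coeff, hZ]
      exact mul_ne_zero (pow_ne_zero _ (neg_ne_zero.2 one_ne_zero)) hcoeff
    refine ⟨h1, ?_, ?_⟩
    · rw [Matrix.det_eq_sign_charpoly_coeff, hZ, map_mul, hf0, map_pow, map_neg, map_one]
    · rw [hZ]
      exact hfr0 _
  by_cases hc1 : c = 1
  · -- `P = 1`
    subst hc1
    have hP1 : Matrix.fromBlocks (Matrix.of fun (_ _ : Unit) => ((1 : F) ^ m)⁻¹) 0 0
        (Matrix.diagonal fun _ : Fin m => (1 : F)) = 1 := by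
      rw [one_pow, inv_one, Matrix.diagonal_one, ← Matrix.fromBlocks_one]
      congr 1
    rw [hP1] at hcor
    obtain ⟨Z, hZ⟩ := Cfsg.Agent.H984.Ore.exists_matrix (ι := Unit ⊕ Fin m) hfm (by
      rw [hfd, Fintype.card_sum, Fintype.card_unit, Fintype.card_fin]; omega)
    obtain ⟨h1, h2, h3⟩ := hZdet hZ
    exact ⟨l, hl, hl5, hlq, criterionP hB hg hdet hcard (h := 1) hcor (by rw [one_mul, mul_one]) Matrix.det_one h1
      (fun _ => h2) (by rw [hZ]; exact hfc) h3 hl (Z_pow hZ hfl)⟩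
  by_cases hcm : c ^ (m + 1) = 1
  · rcases hm with hm | hm
    · -- a multiple of a transvection
      have hee : B e e = 0 := by
        rw [hm] at hdet'
        have h1 : c ^ (2 * (m + 1)) = 1 := by rw [mul_comm, pow_mul, hcm, one_pow]
        have h2 : c ^ (2 * (m + 1) - 1) * (c + k * B e e) = c ^ (2 * (m + 1)) +
            c ^ (2 * (m + 1) - 1) * k * B e e := by
          conv_rhs => rw [show 2 * (m + 1) = (2 * (m + 1) - 1) + 1 by omega, pow_succ]
          rw [Nat.add_sub_cancel]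
          ring
        rw [h2, h1] at hdet'
        have h3 : c ^ (2 * (m + 1) - 1) * k * B e e = 0 := by linear_combination -hdet'
        exact (mul_eq_zero.1 h3).resolve_left (mul_ne_zero (pow_ne_zero _ hc0) hk)
      obtain ⟨u, φ, hu, hφ, huφ, hcor2⟩ := Cfsg.Agent.H951.OreU.frame_transv hB (m := m + 1) (by omega) hm hc0 hk he hee hgv
      obtain ⟨Z, h', hZ, hh, hPZ⟩ := Cfsg.Agent.H874.OreTransv.gl_transv c (by rw [Fintype.card_fin]; exact hcm) u φ hu
        hφ huφ f hf hfm (by rw [hfd, Fintype.card_fin]) (by rw [Fintype.card_fin]; omega) (hfs c hcq hc1)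
      obtain ⟨h1, h2, h3⟩ := hZdet hZ
      exact ⟨l, hl, hl5, hlq, criterionP hB hg hdet (Or.inl (by rw [Fintype.card_fin]; exact hm)) hcor2 hPZ hh h1
        (fun _ => h2) (by rw [hZ]; exact hfc) h3 hl (Z_pow hZ hfl)⟩
    · -- an anisotropic vector
      have h1 : c ^ (finrank F V - 1) = 1 := by
        rw [hm, Nat.add_sub_cancel, mul_comm, pow_mul, hcm, one_pow]
      rw [h1, one_mul] at hdet'
      have hee : B e e ≠ 0 := by
        intro h2
        rw [h2, mul_zero, add_zero] at hdet'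
        exact hc1 hdet'.symm
      obtain ⟨m', rfl⟩ : ∃ m', m = m' + 1 := ⟨m - 1, by omega⟩
      obtain ⟨u, φ, hu, hφ, huφ, hcor2⟩ := frame_aniso hB (m := m') hm hc0 hk hee hgv
      obtain ⟨Z, h', hZ, hh, hPZ⟩ := Cfsg.Agent.H874.OreTransv.gl_transv c (by rw [Fintype.card_fin]; exact hcm) u φ hu
        hφ huφ f hf hfm (by rw [hfd, Fintype.card_fin]) (by rw [Fintype.card_fin]; omega) (hfs c hcq hc1)
      obtain ⟨h1, h2, h3⟩ := hZdet hZ
      exact ⟨l, hl, hl5, hlq, criterionP hB hg hdet (Or.inr (by rw [Fintype.card_fin]; exact hm)) hcor2 hPZ hh h1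
        (fun _ => h2) (by rw [hZ]; exact hfc) h3 hl (Z_pow hZ hfl)⟩
  · -- `c ^ m * c ≠ 1`: a simple eigenvalue
    refine pw_of_good hB hn hg hdet ⟨Unit ⊕ Fin m, inferInstance, inferInstance, _, hcard, hcor, ?_, (c ^ m)⁻¹,
      (Matrix.diagonal fun _ : Fin m => c).charpoly, Cfsg.Agent.H984.Ore.charpoly_block _ _ _, ?_⟩
    · rw [Cfsg.Agent.H984.Ore.det_block, Matrix.det_diagonal, Finset.prod_const, Finset.card_univ, Fintype.card_fin,
        inv_mul_cancel₀ (pow_ne_zero _ hc0)]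
    · rw [Matrix.charpoly_diagonal, Finset.prod_const, Polynomial.eval_pow, Polynomial.eval_sub, Polynomial.eval_X,
        Polynomial.eval_C]
      apply pow_ne_zero
      intro h1
      apply hcm
      have h2 : (c ^ m)⁻¹ = c := sub_eq_zero.1 h1
      calc c ^ (m + 1) = c ^ m * c := pow_succ _ _
        _ = c ^ m * (c ^ m)⁻¹ := by rw [h2]
        _ = 1 := mul_inv_cancel₀ (pow_ne_zero _ hc0)

theorem pw_all (hB : HS q σ B) (h4 : 4 ≤ finrank F V) {g : End F V}
    (hg : Isom B g) (hdet : LinearMap.det g = 1) (hs : ∀ c : F, g ≠ c • (1 : End F V)) : IsPwE q B g := by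
  by_cases h1 : ∃ c : F, finrank F (LinearMap.range (g - c • (1 : End F V))) = 1
  · obtain ⟨c, hc⟩ := h1
    exact pw_rank_one hB h4 hg hdet hc
  push Not at h1
  have hr : ∀ c : F, 2 ≤ finrank F (LinearMap.range (g - c • (1 : End F V))) := by
    intro c
    by_contra hcon
    have h5 : finrank F (LinearMap.range (g - c • (1 : End F V))) = 0 := by
      have := h1 c
      omega
    have h6 := Submodule.finrank_eq_zero.1 h5
    rw [LinearMap.range_eq_bot, sub_eq_zero] at h6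
    exact hs c h6
  apply pw_of_good hB h4 hg hdet
  obtain ⟨w, U, g₁, b, hst, h2 | ⟨h2, c, hc1, hc2⟩⟩ := Cfsg.Agent.H954.OreB.exists_good_step hB hg hdet h4 hr
  · rcases Nat.even_or_odd' (finrank F V) with ⟨m, hm | hm⟩
    · exact Cfsg.Agent.H801.Ore.good_even hB hg hdet hm hst h2
    · exact Cfsg.Agent.H984.OreFinal.good_odd hB hg hm hst h2
  · exact Cfsg.Agent.H98.Ore.good_four hB hg hdet h2 hst hc1 hc2

end Cfsg.Agent.H700.PwU
end

-- part: H700/PwU/Row
section
/-!
# S2465: `PSU_n(q)`, `n ≥ 4`: every element is a product of two `l`-elements, `l ≥ 5` a prime not dividing `q`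
(helper700)
-/

set_option autoImplicit false

namespace Cfsg.Agent.H700.PwU

open Cfsg.Agent.H78.Pw

/-- in `SU_n(q)` -/
theorem su_pr {F : Type*} [Field F] [Fintype F] (n q : ℕ) (hn : 4 ≤ n) (hF : Fintype.card F = q ^ 2)
    (g : Cfsg.SU n F q)
    (hs : ∀ c : F, Matrix.toLin' ((g : Matrix.SpecialLinearGroup (Fin n) F) : Matrix (Fin n) (Fin n) F) ≠
      c • (1 : Module.End F (Fin n → F))) :
    ∃ l : ℕ, l.Prime ∧ 5 ≤ l ∧ ¬ l ∣ q ∧ ∃ a b : Cfsg.SU n F q, g = a * b ∧ (∃ c, orderOf a ∣ l ^ c) ∧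
      ∃ c, orderOf b ∣ l ^ c := by
  have hB : Cfsg.Agent.H98.Ore.HS q (Cfsg.Agent.H950.cj hF) (Cfsg.hermForm n F q) :=
    ⟨hF, Cfsg.Agent.H950.cj_apply hF, Cfsg.Agent.H950.frm_herm hF n,
      fun u hu => Cfsg.Agent.LieClassical.HermBasic.herm_nondeg hF hu⟩
  have hfr : Module.finrank F (Fin n → F) = n := Module.finrank_fin_fun F
  have hdet : ∀ x : Matrix.SpecialLinearGroup (Fin n) F,
      LinearMap.det (Matrix.toLin' (x : Matrix (Fin n) (Fin n) F)) = 1 := by
    intro x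
    rw [LinearMap.det_toLin']
    exact x.2
  obtain ⟨l, hl, hl5, hlq, z, h, hz, hh, ⟨c, hc⟩, ⟨d, hd⟩, heq⟩ := pw_all hB (by rw [hfr]; exact hn)
    (Cfsg.Agent.H950.isom_of_SU g.2) (hdet g.1) hs
  have e1 : ∀ x y : Cfsg.SU n F q, Matrix.toLin' (((x * y : Cfsg.SU n F q) : Matrix.SpecialLinearGroup (Fin n) F) :
      Matrix (Fin n) (Fin n) F) = Matrix.toLin' ((x : Matrix.SpecialLinearGroup (Fin n) F) : Matrix (Fin n) (Fin n) F) *
        Matrix.toLin' ((y : Matrix.SpecialLinearGroup (Fin n) F) : Matrix (Fin n) (Fin n) F) := by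
    intro x y
    rw [Module.End.mul_eq_comp, ← Matrix.toLin'_mul]
    rfl
  have e2 : ∀ (x : Cfsg.SU n F q) (k : ℕ), Matrix.toLin' (((x ^ k : Cfsg.SU n F q) :
      Matrix.SpecialLinearGroup (Fin n) F) : Matrix (Fin n) (Fin n) F) =
        Matrix.toLin' ((x : Matrix.SpecialLinearGroup (Fin n) F) : Matrix (Fin n) (Fin n) F) ^ k := by
    intro x k
    induction k with
    | zero =>
      rw [pow_zero, pow_zero]
      exact Matrix.toLin'_one
    | succ k ih => rw [pow_succ, e1, ih, pow_succ]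
  have hmk : ∀ x : (Fin n → F) ≃ₗ[F] (Fin n → F), x ∈ Cfsg.Agent.H98.Ore.SGr (Cfsg.hermForm n F q) →
      ∃ y : Cfsg.SU n F q, Matrix.toLin' ((y : Matrix.SpecialLinearGroup (Fin n) F) : Matrix (Fin n) (Fin n) F) =
        (x : (Fin n → F) →ₗ[F] (Fin n → F)) ∧ orderOf y ∣ orderOf x := by
    intro x hx
    obtain ⟨hx1, hxd⟩ := Cfsg.Agent.H98.Ore.mem_SGr.1 hx
    let y₀ : Matrix.SpecialLinearGroup (Fin n) F := ⟨LinearMap.toMatrix' (x : (Fin n → F) →ₗ[F] (Fin n → F)), by
      rw [LinearMap.det_toMatrix', hxd]⟩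
    have h1 : Matrix.toLin' (y₀ : Matrix (Fin n) (Fin n) F) = (x : (Fin n → F) →ₗ[F] (Fin n → F)) :=
      Matrix.toLin'_toMatrix' _
    refine ⟨⟨y₀, Cfsg.Agent.H950.mem_SU_of_isom (by rw [h1]; exact hx1)⟩, h1, ?_⟩
    rw [orderOf_dvd_iff_pow_eq_one]
    apply Subtype.ext
    apply Subtype.ext
    apply Matrix.toLin'.injective
    refine (e2 _ _).trans ?_
    rw [h1]
    have h2 : ∀ k : ℕ, ((x : (Fin n → F) →ₗ[F] (Fin n → F)) : Module.End F (Fin n → F)) ^ k =
        ((x ^ k : (Fin n → F) ≃ₗ[F] (Fin n → F)) : (Fin n → F) →ₗ[F] (Fin n → F)) := by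
      intro k
      induction k with
      | zero => rfl
      | succ k ih => rw [pow_succ, ih, pow_succ]; rfl
    refine (h2 _).trans ?_
    rw [pow_orderOf_eq_one]
    exact Matrix.toLin'_one.symm
  obtain ⟨a, ha, ha'⟩ := hmk z hz
  obtain ⟨b, hb, hb'⟩ := hmk h hh
  refine ⟨l, hl, hl5, hlq, a, b, ?_, ⟨c, ha'.trans hc⟩, ⟨d, hb'.trans hd⟩⟩
  apply Subtype.ext
  apply Subtype.ext
  apply Matrix.toLin'.injective
  refine Eq.trans ?_ (e1 a b).symm
  rw [ha, hb]
  apply LinearMap.ext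
  intro v
  exact heq v

/-- **in `PSU_n(q)`** -/
theorem psu_pr {F : Type*} [Field F] [Fintype F] (n q : ℕ) (hn : 4 ≤ n) (hF : Fintype.card F = q ^ 2)
    (g : Cfsg.PSU n F q) :
    ∃ l : ℕ, l.Prime ∧ 5 ≤ l ∧ ¬ l ∣ q ∧ ∃ a b : Cfsg.PSU n F q, g = a * b ∧ (∃ c, orderOf a ∣ l ^ c) ∧
      ∃ c, orderOf b ∣ l ^ c := by
  obtain ⟨x, rfl⟩ := QuotientGroup.mk_surjective g
  by_cases hs : ∃ c : F, Matrix.toLin' ((x : Matrix.SpecialLinearGroup (Fin n) F) : Matrix (Fin n) (Fin n) F) =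
      c • (1 : Module.End F (Fin n → F))
  · -- a scalar
    obtain ⟨c, hc⟩ := hs
    have hx : x ∈ Subgroup.center (Cfsg.SU n F q) := by
      rw [Subgroup.mem_center_iff]
      intro y
      apply Subtype.ext
      apply Subtype.ext
      apply Matrix.toLin'.injective
      have e1 : ∀ x y : Cfsg.SU n F q, Matrix.toLin' (((x * y : Cfsg.SU n F q) :
          Matrix.SpecialLinearGroup (Fin n) F) : Matrix (Fin n) (Fin n) F) =
          Matrix.toLin' ((x : Matrix.SpecialLinearGroup (Fin n) F) : Matrix (Fin n) (Fin n) F) *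
            Matrix.toLin' ((y : Matrix.SpecialLinearGroup (Fin n) F) : Matrix (Fin n) (Fin n) F) := by
        intro x y
        rw [Module.End.mul_eq_comp, ← Matrix.toLin'_mul]
        rfl
      refine (e1 y x).trans ((e1 x y).trans ?_).symm
      rw [hc, smul_mul_assoc, one_mul, mul_smul_comm, mul_one]
    obtain ⟨l, hl1, hl2⟩ := Nat.exists_infinite_primes (5 + q)
    have hq : 0 < q := by
      rcases Nat.eq_zero_or_pos q with h | h
      · rw [h] at hF
        exact absurd hF (by simp)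
      · exact h
    refine ⟨l, hl2, by omega, fun h => ?_, 1, 1, ?_, ⟨0, by rw [orderOf_one]; exact one_dvd _⟩,
      ⟨0, by rw [orderOf_one]; exact one_dvd _⟩⟩
    · have := Nat.le_of_dvd hq h
      omega
    · rw [mul_one]
      exact (QuotientGroup.eq_one_iff x).2 hx
  · push Not at hs
    obtain ⟨l, hl, hl5, hlq, a, b, hab, ⟨c, hc⟩, d, hd⟩ := su_pr n q hn hF x hs
    refine ⟨l, hl, hl5, hlq, QuotientGroup.mk a, QuotientGroup.mk b, by rw [hab]; rfl,
      ⟨c, (orderOf_map_dvd (QuotientGroup.mk' (Subgroup.center (Cfsg.SU n F q))) a).trans hc⟩,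
      ⟨d, (orderOf_map_dvd (QuotientGroup.mk' (Subgroup.center (Cfsg.SU n F q))) b).trans hd⟩⟩

/-- **Row, general form**: `N` whose prime factors are `2, 3` or divide `q` -/
theorem all_psu {F : Type*} [Field F] [Fintype F] (n q : ℕ) (hn : 4 ≤ n) (hF : Fintype.card F = q ^ 2) {N : ℕ}
    (hN : ∀ l : ℕ, l.Prime → 5 ≤ l → ¬ l ∣ q → ¬ l ∣ N) : All N (Cfsg.PSU n F q) := by
  intro g
  obtain ⟨l, hl, hl5, hlq, a, b, hab, ⟨c, hc⟩, d, hd⟩ := psu_pr n q hn hF g
  have h1 : Nat.Coprime l N := (hl.coprime_iff_not_dvd).2 (hN l hl hl5 hlq)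
  exact ⟨a, b, hab, Nat.Coprime.of_dvd_left hc (h1.pow_left _), Nat.Coprime.of_dvd_left hd (h1.pow_left _)⟩

/-- **(I)** for `PSU_n(q)`, `n ≥ 4` -/
theorem six_psu {F : Type*} [Field F] [Fintype F] (n q : ℕ) (hn : 4 ≤ n) (hF : Fintype.card F = q ^ 2) :
    All 6 (Cfsg.PSU n F q) := by
  apply all_psu n q hn hF
  intro l hl hl5 _ h
  have h1 := Nat.le_of_dvd (by norm_num) h
  have h2 : l = 5 ∨ l = 6 := by omega
  rcases h2 with rfl | rfl
  · revert h; decide
  · revert hl; decide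

/-- **(R5)**, own characteristic, for `PSU_n(q)`, `n ≥ 4` -/
theorem own_psu {F : Type*} [Field F] [Fintype F] (n q : ℕ) (hn : 4 ≤ n) (hF : Fintype.card F = q ^ 2) {p : ℕ}
    (hp : p.Prime) (hpq : p ∣ q) : All p (Cfsg.PSU n F q) := by
  apply all_psu n q hn hF
  intro l hl _ hlq h
  apply hlq
  rwa [(Nat.prime_dvd_prime_iff_eq hl hp).1 h]

end Cfsg.Agent.H700.PwU
end
end

-- part: H928/Pw/TwP_mg
section
prune_inst 0x4003004060000000000808041201c12ea00000000088400040008000480ac02490208601120200548a2000400300048100000000000000000200400011800800080000020400000000010000000000000000000300000000000000000000000000000000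
set_option linter.all false
open scoped Cfsg.Agent.FastGrp

-- part: H928/Pw/TwJ
section
/-!
`²E₆(q)`, the Levi subgroup `A₂(q) A₁(q²)` of the relative nodes `{0, 1, 3}` (S2465).

* `VJ3_le`, `VNJ3_le` : the unipotent radicals inside those of the absolute nodes `{0, 1, 3, 5}`;
* `exists_psi` : the homomorphism `ψ : SL₂(K) → ²E₆(q)` of the relative node `3`; `psi_LJ`, `up3`, `lo3`, `psi_comm`;
* `UJ3`, `UNJ3` : the unipotent subgroups of the Levi subgroup are products.
-/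

set_option autoImplicit false
set_option linter.unusedSectionVars false

namespace Cfsg.Agent.H928.Pw.TwJ

open CoxeterSystem Cfsg.Agent.ChevalleyStructure.CoxeterGeom Cfsg.Agent.Tits.Roots Cfsg.Agent.Tits.Core
  Cfsg.Agent.Nodes Cfsg.Agent.Nodes.Reps Cfsg.Agent.Nodes.BNOf Cfsg.Agent.Nodes.RGDLib Cfsg.Agent.Nodes.Bruhat
  Cfsg.Agent.Nodes.OppDec Cfsg.Agent.Nodes.LeviDec Cfsg.Agent.Nodes.StabComb Cfsg.Agent.Nodes.KindChev
  Cfsg.Agent.Nodes.ChevCls
  Cfsg.Agent.OddHalf.NI.ModelChev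
  Cfsg.Agent.H162.GaussDec Cfsg.Agent.H162.GaussLevi Cfsg.Agent.H162.GaussSL Cfsg.Agent.H162.GaussReg
  Cfsg.Agent.H928.Ore.Frame Cfsg.Agent.H928.Ore.Fix Cfsg.Agent.H928.Ore.Block Cfsg.Agent.H928.Ore.TwE
  Cfsg.Agent.H928.Ore.TwS Cfsg.Agent.H928.Ore.TwF
open Cfsg.Lie Cfsg.Agent.ChevalleyStructure Cfsg.Agent.ChevalleyStructure.Elts
  Cfsg.Agent.ChevalleyStructure.NPerm
  Cfsg.Agent.ChevalleyStructure.CoxeterGeomTypes Cfsg.Agent.Nodes.RGDChev Cfsg.Agent.KFacts.RgdChevCoord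
open Cfsg.Agent.Nodes.RGDTwGen Cfsg.Agent.Nodes.RGDFold Cfsg.Agent.Nodes.RGDTwE6
open Cfsg.Agent.Nodes.RGDFoldSL (Fx mem_Fx yv)
open Cfsg.Agent.ChevalleyStructure.TwistedU Cfsg.Agent.ChevalleyStructure.TwistedFix
open Cfsg.Agent.FixBN.FieldRGD (uu vv dd ww)
open Cfsg.Agent.H162.GaussExcMain (r6 rt6 exists_hom_D w6)
open Cfsg.Agent.H162.GaussPQ (tv_mem_UT tv_mem_LT)
open scoped MatrixGroups

universe u

theorem mem_sup_comm {G : Type*} [Group G] {A B : Subgroup G} (hc : ∀ a ∈ A, ∀ b ∈ B, a * b = b * a) {x : G}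
    (hx : x ∈ A ⊔ B) : ∃ a ∈ A, ∃ b ∈ B, x = a * b := by
  let H : Subgroup G :=
    { carrier := {x | ∃ a ∈ A, ∃ b ∈ B, x = a * b}
      mul_mem' := by
        rintro _ _ ⟨a, ha, b, hb, rfl⟩ ⟨a', ha', b', hb', rfl⟩
        refine ⟨a * a', mul_mem ha ha', b * b', mul_mem hb hb', ?_⟩
        calc a * b * (a' * b') = a * (b * a') * b' := by group
          _ = a * a' * (b * b') := by rw [← hc a' ha' b hb]; group
      one_mem' := ⟨1, one_mem _, 1, one_mem _, (mul_one 1).symm⟩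
      inv_mem' := by
        rintro _ ⟨a, ha, b, hb, rfl⟩
        refine ⟨a⁻¹, inv_mem ha, b⁻¹, inv_mem hb, ?_⟩
        rw [_root_.mul_inv_rev, hc a⁻¹ (inv_mem ha) b⁻¹ (inv_mem hb)] }
  have h1 : A ≤ H := fun a ha => ⟨a, ha, 1, one_mem _, (mul_one a).symm⟩
  have h2 : B ≤ H := fun b hb => ⟨1, one_mem _, b, hb, (one_mul b).symm⟩
  exact sup_le h1 h2 hx

/-! ### The unipotent radicals -/

/-- the relative nodes -/
def J3R : Set (Fin 4) := {k | k ≠ 2}

/-- the absolute nodes -/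
def J3A : Set (Fin 6) := {k | k ≠ 2 ∧ k ≠ 4}

theorem not_J3R {k : Fin 4} : k ∉ J3R ↔ k = 2 := not_not

theorem not_J3A {k : Fin 6} : k ∉ J3A ↔ k = 2 ∨ k = 4 := by
  change ¬ (k ≠ 2 ∧ k ≠ 4) ↔ _
  rw [not_and_or, not_not, not_not]

theorem tab0 : ∀ r < chevE6.nroots, (∀ k : Fin 4, 0 ≤ V chevE6 J r k) → 0 < V chevE6 J r 2 →
    (∀ k : Fin 6, 0 ≤ vec chevE6 6 r k) ∧ ∃ k : Fin 6, (k = 2 ∨ k = 4) ∧ 0 < vec chevE6 6 r k := by
  have h : ∀ r : Fin 72, (∀ k : Fin 4, 0 ≤ V chevE6 J r k) → 0 < V chevE6 J r 2 →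
    (∀ k : Fin 6, 0 ≤ vec chevE6 6 r k) ∧ ∃ k : Fin 6, (k = 2 ∨ k = 4) ∧ 0 < vec chevE6 6 r k := by decide +kernel
  exact fun r hr => h ⟨r, hr⟩

theorem tab0N : ∀ r < chevE6.nroots, (∀ k : Fin 4, V chevE6 J r k ≤ 0) → V chevE6 J r 2 < 0 →
    (∀ k : Fin 6, vec chevE6 6 r k ≤ 0) ∧ ∃ k : Fin 6, (k = 2 ∨ k = 4) ∧ vec chevE6 6 r k < 0 := by
  have h : ∀ r : Fin 72, (∀ k : Fin 4, V chevE6 J r k ≤ 0) → V chevE6 J r 2 < 0 →
    (∀ k : Fin 6, vec chevE6 6 r k ≤ 0) ∧ ∃ k : Fin 6, (k = 2 ∨ k = 4) ∧ vec chevE6 6 r k < 0 := by decide +kernel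
  exact fun r hr => h ⟨r, hr⟩

section

variable {K : Type u} [Field K] {W : Type*} [Group W] (cs : CoxeterSystem CoxeterMatrix.F₄ W)

theorem VJ3_le (φ : K →+* K) (q : ℕ) : VJ cs RGDTwE6.isCartan (X φ q) J3R ≤
    (VJ CoxeterMatrix.E₆.toCoxeterSystem RGDTwE6.hp.isCartan (XX chevE6 6 K) J3A).comap (inc K q) := by
  refine RGD.Sup_le fun z hz => X_le fun r hr hrz => ?_
  obtain ⟨-, h0, k, hk, hk0⟩ := hz
  rw [not_J3R] at hk
  subst hk
  obtain ⟨h1, k', hk', h2⟩ := tab0 r hr (fun k => by rw [hrz]; exact h0 k) (by rw [hrz]; exact hk0)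
  exact RGD.le_Sup ⟨isRoot_vec RGDTwE6.hp _ hr, fun k => h1 k, k', not_J3A.2 hk', h2⟩

theorem VNJ3_le (φ : K →+* K) (q : ℕ) : VNJ cs RGDTwE6.isCartan (X φ q) J3R ≤
    (VNJ CoxeterMatrix.E₆.toCoxeterSystem RGDTwE6.hp.isCartan (XX chevE6 6 K) J3A).comap (inc K q) := by
  refine RGD.Sup_le fun z hz => X_le fun r hr hrz => ?_
  obtain ⟨-, h0, k, hk, hk0⟩ := hz
  rw [not_J3R] at hk
  subst hk
  obtain ⟨h1, k', hk', h2⟩ := tab0N r hr (fun k => by
      have := h0 k
      rw [hrz]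
      simpa using this) (by rw [hrz]; simpa using hk0)
  refine RGD.le_Sup ⟨(isRoot_vec RGDTwE6.hp _ hr).neg, fun k => ?_, k', not_J3A.2 hk', ?_⟩
  · have := h1 k
    simpa using this
  · simpa using h2

end

/-! ### The homomorphism of the node `3` -/

section

variable {K : Type u} [Field K] [Fintype K] {φ : K →+* K} {q : ℕ} (hφ : ∀ t, φ t = t ^ q)
  (hqq : ∀ t : K, (t ^ q) ^ q = t)

include hφ hqq

theorem exists_psi : ∃ ψ : SL(2, K) →* ↥(twistedE6 K q), ∀ A,
    inc K q (ψ A) = sl RGDTwE6.hp (0 : Fin 6) A * sl RGDTwE6.hp (5 : Fin 6) (Matrix.SpecialLinearGroup.map φ A) := by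
  have hφφ : ∀ t : K, φ (φ t) = t := fun t => by rw [hφ, hφ, hqq]
  let g : SL(2, K) →* ↥(chevE6.group K) := MonoidHom.mk'
    (fun A => sl RGDTwE6.hp (0 : Fin 6) A * sl RGDTwE6.hp (5 : Fin 6) (Matrix.SpecialLinearGroup.map φ A)) (by
      intro A B
      rw [map_mul, map_mul, map_mul]
      calc _ = sl RGDTwE6.hp (0 : Fin 6) A * (sl RGDTwE6.hp (0 : Fin 6) B *
            sl RGDTwE6.hp (5 : Fin 6) (Matrix.SpecialLinearGroup.map φ A)) *
            sl RGDTwE6.hp (5 : Fin 6) (Matrix.SpecialLinearGroup.map φ B) := by group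
        _ = _ := by rw [sl_comm]; group)
  have hg : ∀ A, sgY φ (g A) = g A := by
    intro A
    change sgY φ (sl RGDTwE6.hp (0 : Fin 6) A * sl RGDTwE6.hp (5 : Fin 6) (Matrix.SpecialLinearGroup.map φ A)) =
      sl RGDTwE6.hp (0 : Fin 6) A * sl RGDTwE6.hp (5 : Fin 6) (Matrix.SpecialLinearGroup.map φ A)
    have e : Matrix.SpecialLinearGroup.map φ (Matrix.SpecialLinearGroup.map φ A) = A := by
      apply Subtype.ext
      ext i j
      exact hφφ _
    rw [map_mul, sgY_sl, sgY_sl, e]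
    change sl RGDTwE6.hp (5 : Fin 6) _ * sl RGDTwE6.hp (0 : Fin 6) _ = _
    rw [← sl_comm]
  refine ⟨((chevE6.group K).subtype.comp g).codRestrict (twistedE6 K q) (fun A => ?_), fun A => rfl⟩
  refine H91.E6Fix.mem_twisted_of_fixed hφ hφφ (g A).2 ?_
  exact congrArg Subtype.val (hg A)

variable {ψ : SL(2, K) →* ↥(twistedE6 K q)} (hψ : ∀ A,
    inc K q (ψ A) = sl RGDTwE6.hp (0 : Fin 6) A * sl RGDTwE6.hp (5 : Fin 6) (Matrix.SpecialLinearGroup.map φ A))

include hψ

theorem psi_uu (a : K) : inc K q (ψ (uu a)) = xc RGDTwE6.hp (vec chevE6 6 56) a * xc RGDTwE6.hp (vec chevE6 6 36) (φ a) := by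
  have e : Matrix.SpecialLinearGroup.map φ (uu a) = uu (φ a) := by
    apply Subtype.ext
    change (!![(1 : K), a; 0, 1]).map φ = !![1, φ a; 0, 1]
    ext i j
    (revert i j; simp only [_root_.Fin.forall_fin_succ, _root_.Matrix.map_apply, _root_.Matrix.of_apply, _root_.Matrix.cons_val', _root_.Matrix.cons_val_fin_one, Fin.isValue, _root_.Matrix.cons_val_zero, _root_.Matrix.cons_val_succ, _root_.forall_const, _root_.map_one, _root_.and_self, _root_.map_zero, _root_.implies_true])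
  rw [hψ, e, sl_uu, sl_uu, sr0.1, sr5.1]

theorem psi_ww : ψ (ww (1 : K) one_ne_zero) = _root_.Cfsg.Agent.Nodes.RGDTwE6.nn hφ 3 := by
  have e3 : Matrix.SpecialLinearGroup.map φ (ww (1 : K) one_ne_zero) = ww 1 one_ne_zero := by
    apply Subtype.ext
    change (!![(0 : K), 1; -1⁻¹, 0]).map φ = !![(0 : K), 1; -1⁻¹, 0]
    ext i j
    (revert i j; simp only [_root_.Fin.forall_fin_succ, _root_.inv_one, _root_.Matrix.map_apply, _root_.Matrix.of_apply, _root_.Matrix.cons_val', _root_.Matrix.cons_val_fin_one, Fin.isValue, _root_.Matrix.cons_val_zero, _root_.Matrix.cons_val_succ, _root_.forall_const, _root_.map_zero, _root_.map_one, _root_.and_self, _root_.map_neg, _root_.implies_true])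
  apply inc_injective q
  rw [hψ, e3, sl_ww, sl_ww]
  apply Subtype.ext
  change _ = nI RGDTwE6.hp K [(0 : Fin 6), 5]
  rw [nI_cons, nI_cons]
  unfold nI
  rw [List.map_nil, List.prod_nil, mul_one]
  rfl

/-- the root group of the node `3` -/
theorem up3' {y : ↥(twistedE6 K q)} (hy : y ∈ X φ q (sr (3 : Fin 4))) : ∃ a : K, y = ψ (uu a) := by
  have h := ((Cfsg.Agent.H958.TS.TwCommon.coordP hφ hqq).up 3)
  have hy' : y ∈ (X φ q (sr (3 : Fin 4)) : Set ↥(twistedE6 K q)) := hy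
  rw [h] at hy'
  obtain ⟨a, rfl⟩ := hy'
  refine ⟨(a : K), ?_⟩
  symm
  apply inc_injective q
  rw [psi_uu hφ hqq hψ]
  apply Subtype.ext
  rw [Subgroup.coe_mul, coe_xc RGDTwE6.hp (by decide), coe_xc RGDTwE6.hp (by decide)]
  have h2 := Cfsg.Agent.Nodes.RGDFoldSL.coe_Phi_up (foldGrp hφ hqq) (Cfsg.Agent.Nodes.RGDTwNode.E6.nodeOK 3)
    (Cfsg.Agent.H958.TS.TwCommon.hf hφ hqq 3) a
  refine Eq.trans ?_ h2.symm
  change _ = xG RGDTwE6.hp.inList 56 (a : K) * (xG RGDTwE6.hp.inList 36 (φ (a : K)) * 1)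
  rw [mul_one]

theorem up3 : X φ q (sr (3 : Fin 4)) ≤ (UT 2 K).map ψ := by
  intro y hy
  obtain ⟨a, rfl⟩ := up3' hφ hqq hψ hy
  refine ⟨uu a, ?_, rfl⟩
  have := tv_mem_UT (K := K) (show (0 : Fin 2) ≠ 1 by decide) (by decide) a
  rwa [tv01] at this

theorem lo3 : X φ q (-sr (3 : Fin 4)) ≤ (LT 2 K).map ψ := by
  obtain ⟨p, hpc⟩ := CharP.exists K
  have : Fact p.Prime := ⟨(CharP.char_is_prime_or_zero K p).resolve_right (CharP.char_ne_zero_of_finite K p)⟩
  have R := RGDTwE6.rgd CoxeterMatrix.F₄.toCoxeterSystem hφ hqq p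
  have h1 := R.conj 3 (sr 3) (isRoot_sr _ isCartan 3)
  rw [rep_simple_sr] at h1
  intro y hy
  rw [← h1] at hy
  obtain ⟨x, hx, rfl⟩ := hy
  obtain ⟨a, rfl⟩ := up3' hφ hqq hψ hx
  refine ⟨vv (-a), ?_, ?_⟩
  · have := tv_mem_LT (K := K) (show (1 : Fin 2) ≠ 0 by decide) (by decide) (-a)
    rwa [tv10] at this
  · have e : (vv (-a) : SL(2, K)) = ww 1 one_ne_zero * uu a * (ww 1 one_ne_zero)⁻¹ := by
      rw [eq_mul_inv_iff_mul_eq]
      apply Subtype.ext
      change !![(1 : K), 0; -a, 1] * !![(0 : K), 1; -1⁻¹, 0] = !![(0 : K), 1; -1⁻¹, 0] * !![1, a; 0, 1]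
      rw [Matrix.mul_fin_two, Matrix.mul_fin_two]
      simp
    rw [e, map_mul, map_mul, map_inv, psi_ww hφ hqq hψ]
    rfl

theorem psi_X (a : K) : ψ (uu a) ∈ X φ q (sr (3 : Fin 4)) := by
  refine Subgroup.mem_subgroupOf.2 ⟨?_, ?_⟩
  · have h1 := congrArg (Subtype.val) (psi_uu hφ hqq hψ a)
    rw [Subgroup.coe_mul, coe_xc RGDTwE6.hp (by decide), coe_xc RGDTwE6.hp (by decide)] at h1
    have h2 : ((ψ (uu a) : ↥(twistedE6 K q)) : GL chevE6.Idx K) =
        xG RGDTwE6.hp.inList 56 a * xG RGDTwE6.hp.inList 36 (φ a) := h1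
    have h3 : V chevE6 J 56 = sr (3 : Fin 4) ∧ V chevE6 J 36 = sr (3 : Fin 4) := by
      constructor <;> (funext k; fin_cases k <;> decide +kernel)
    rw [h2]
    exact mul_mem
      (mem_rspan (xG (F := K) RGDTwE6.hp.inList) (S := {k | k < chevE6.nroots ∧ V chevE6 J k = sr (3 : Fin 4)})
        ⟨by decide, h3.1⟩ _)
      (mem_rspan (xG (F := K) RGDTwE6.hp.inList) (S := {k | k < chevE6.nroots ∧ V chevE6 J k = sr (3 : Fin 4)})
        ⟨by decide, h3.2⟩ _)
  · exact TwE6Basic.twisted_le_fix φ hφ hqq (ψ (uu a)).2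

variable {W : Type*} [Group W] (cs : CoxeterSystem CoxeterMatrix.F₄ W)

theorem psi_LJ (A : SL(2, K)) : ψ A ∈ LJ cs RGDTwE6.isCartan (T K q) (X φ q) J3R := by
  obtain ⟨p, hpc⟩ := CharP.exists K
  have : Fact p.Prime := ⟨(CharP.char_is_prime_or_zero K p).resolve_right (CharP.char_ne_zero_of_finite K p)⟩
  have R := RGDTwE6.rgd cs hφ hqq p
  have hJ : ∀ k : Fin 4, k ∉ J3R → (sr (3 : Fin 4) : Fin 4 → ℤ) k = 0 := by
    intro k hk
    rw [not_J3R] at hk
    subst hk
    exact sr_ne (by decide)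
  have hX : ∀ a : K, ψ (uu a) ∈ LJ cs RGDTwE6.isCartan (T K q) (X φ q) J3R := fun a =>
    X_le_LJ (J := J3R) (x := sr (3 : Fin 4)) ⟨isRoot_sr _ isCartan 3, hJ⟩ (psi_X hφ hqq hψ a)
  have h1 := R.conj 3 (sr 3) (isRoot_sr _ isCartan 3)
  rw [rep_simple_sr] at h1
  have e : ∀ a : K, (vv (-a) : SL(2, K)) = ww 1 one_ne_zero * uu a * (ww 1 one_ne_zero)⁻¹ := by
    intro a
    rw [eq_mul_inv_iff_mul_eq]
    apply Subtype.ext
    change !![(1 : K), 0; -a, 1] * !![(0 : K), 1; -1⁻¹, 0] = !![(0 : K), 1; -1⁻¹, 0] * !![1, a; 0, 1]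
    rw [Matrix.mul_fin_two, Matrix.mul_fin_two]
    simp
  have hN : ∀ a : K, ψ (vv a) ∈ LJ cs RGDTwE6.isCartan (T K q) (X φ q) J3R := by
    intro a
    refine X_le_LJ (J := J3R) (x := -sr (3 : Fin 4)) ⟨(isRoot_sr _ isCartan 3).neg, fun k hk => ?_⟩ ?_
    · rw [Pi.neg_apply, hJ k hk, neg_zero]
    · rw [← h1]
      refine ⟨ψ (uu (-a)), psi_X hφ hqq hψ (-a), ?_⟩
      have e1 := e (-a)
      rw [neg_neg] at e1
      rw [e1, map_mul, map_mul, map_inv, psi_ww hφ hqq hψ]
      rfl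
  have h2 : (⊤ : Subgroup (SL(2, K))) ≤ (LJ cs RGDTwE6.isCartan (T K q) (X φ q) J3R).comap ψ := by
    rw [← Cfsg.Agent.LieClassical.SLGen.closure_transvections, Subgroup.closure_le]
    rintro _ ⟨a, b, hab, c, rfl⟩
    change ψ _ ∈ LJ cs RGDTwE6.isCartan (T K q) (X φ q) J3R
    fin_cases a <;> fin_cases b
    · exact absurd rfl hab
    · have e1 := tv01 c
      have e2 : ψ (Matrix.SpecialLinearGroup.transvection hab c) = ψ (uu c) := congrArg ψ e1
      rw [e2]
      exact hX c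
    · have e1 := tv10 c
      have e2 : ψ (Matrix.SpecialLinearGroup.transvection hab c) = ψ (vv c) := congrArg ψ e1
      rw [e2]
      exact hN c
    · exact absurd rfl hab
  exact h2 (Subgroup.mem_top A)

end

/-! ### The Levi subgroup -/

section

variable {K : Type u} [Field K] [Fintype K] {φ : K →+* K} {q : ℕ} (hφ : ∀ t, φ t = t ^ q)
  (hqq : ∀ t : K, (t ^ q) ^ q = t)
  {ψ : SL(2, K) →* ↥(twistedE6 K q)} (hψ : ∀ A,
    inc K q (ψ A) = sl RGDTwE6.hp (0 : Fin 6) A * sl RGDTwE6.hp (5 : Fin 6) (Matrix.SpecialLinearGroup.map φ A))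
  {P : Matrix.SpecialLinearGroup (Fin 3) K →* ↥(chevE6.group K)}
    (hP : ∀ a b (hab : a ≠ b) c, P (Matrix.SpecialLinearGroup.transvection hab c) =
      xc RGDTwE6.hp (vec chevE6 6 (r6 a b)) (((1 : ℤ) : K) * c))
    {f : Matrix.SpecialLinearGroup (Fin 3) (Fx φ 1) →* ↥(twistedE6 K q)}
    (hf : ∀ A, inc K q (f A) = P (Matrix.SpecialLinearGroup.map (Fx φ 1).subtype A))
    {W : Type*} [Group W] (cs : CoxeterSystem CoxeterMatrix.F₄ W)

include hψ hP hf

theorem f_psi (A : Matrix.SpecialLinearGroup (Fin 3) (Fx φ 1)) (B : SL(2, K)) : f A * ψ B = ψ B * f A := by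
  apply inc_injective q
  rw [map_mul, map_mul, hψ, hf]
  calc P (Matrix.SpecialLinearGroup.map (Fx φ 1).subtype A) * (sl RGDTwE6.hp (0 : Fin 6) B *
        sl RGDTwE6.hp (5 : Fin 6) (Matrix.SpecialLinearGroup.map φ B))
      = (P (Matrix.SpecialLinearGroup.map (Fx φ 1).subtype A) * sl RGDTwE6.hp (0 : Fin 6) B) *
        sl RGDTwE6.hp (5 : Fin 6) (Matrix.SpecialLinearGroup.map φ B) := by group
    _ = sl RGDTwE6.hp (0 : Fin 6) B * (P (Matrix.SpecialLinearGroup.map (Fx φ 1).subtype A) *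
        sl RGDTwE6.hp (5 : Fin 6) (Matrix.SpecialLinearGroup.map φ B)) := by
      rw [← sl_comm_block hP (Or.inl rfl)]; group
    _ = _ := by rw [← sl_comm_block hP (Or.inr rfl)]; group

include hφ hqq

omit hψ hP hf in
theorem root3 {z : Fin 4 → ℤ} (hz : IsRoot cs RGDTwE6.isCartan z) (h2 : z 2 = 0) :
    z 3 = 0 ∨ z = sr (3 : Fin 4) ∨ z = -sr (3 : Fin 4) := by
  obtain ⟨i, hi, e, hiz⟩ := RGDTwActE6.index (cs := cs) hz
  have hlt : (RGDTwCoordE6.O.getD i []).headD 0 < 72 := by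
    have h : ∀ i < 48, (RGDTwCoordE6.O.getD i []).headD 0 < 72 := by decide +kernel
    exact h i hi
  have h : ∀ s : Fin 72, V chevE6 J s 2 = 0 → V chevE6 J s 3 = 0 ∨ V chevE6 J s = sr (3 : Fin 4) ∨
      V chevE6 J s = -sr (3 : Fin 4) := by
    have h' : ∀ s : Fin 72, V chevE6 J s 2 = 0 → V chevE6 J s 3 = 0 ∨ (∀ k, V chevE6 J s k = (Pi.single 3 1 : Fin 4 → ℤ) k) ∨
      (∀ k, V chevE6 J s k = -(Pi.single 3 1 : Fin 4 → ℤ) k) := by decide +kernel
    intro s hs
    rcases h' s hs with h | h | h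
    · exact Or.inl h
    · exact Or.inr (Or.inl (funext h))
    · exact Or.inr (Or.inr (funext h))
  have h3 := h ⟨_, hlt⟩ (by
    change V chevE6 J ((RGDTwCoordE6.O.getD i []).headD 0) 2 = 0
    rw [hiz]; exact h2)
  change V chevE6 J ((RGDTwCoordE6.O.getD i []).headD 0) 3 = 0 ∨ V chevE6 J ((RGDTwCoordE6.O.getD i []).headD 0) = _ ∨
    V chevE6 J ((RGDTwCoordE6.O.getD i []).headD 0) = _ at h3
  rw [hiz] at h3
  exact h3

theorem f_LJ3 (A : Matrix.SpecialLinearGroup (Fin 3) (Fx φ 1)) :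
    f A ∈ LJ cs RGDTwE6.isCartan (T K q) (X φ q) J3R := by
  have h1 : (⊤ : Subgroup (Matrix.SpecialLinearGroup (Fin 3) (Fx φ 1))) ≤
      (LJ cs RGDTwE6.isCartan (T K q) (X φ q) J3R).comap f := by
    rw [← Cfsg.Agent.LieClassical.SLGen.closure_transvections, Subgroup.closure_le]
    rintro _ ⟨a, b, hab, c, rfl⟩
    change f _ ∈ LJ cs RGDTwE6.isCartan (T K q) (X φ q) J3R
    refine X_le_LJ (J := J3R) (x := V chevE6 J (r6 a b)) ⟨RGDTwComE6.isRoot_V (rlt a b hab), fun k hk => ?_⟩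
      (f_X hφ hqq hP hf hab c)
    rw [not_J3R] at hk
    subst hk
    exact (V_r6 a b hab).1
  exact h1 (Subgroup.mem_top A)

/-- the positive unipotent subgroup of the Levi subgroup -/
theorem UJ3 {u : ↥(twistedE6 K q)} (hu : u ∈ UJ cs RGDTwE6.isCartan (X φ q) J3R) :
    ∃ U ∈ UT 3 (Fx φ 1), ∃ U' ∈ UT 2 K, u = f U * ψ U' := by
  have h : UJ cs RGDTwE6.isCartan (X φ q) J3R ≤ (UT 3 (Fx φ 1)).map f ⊔ (UT 2 K).map ψ := by
    refine RGD.Sup_le fun z hz => ?_
    have h2 : z 2 = 0 := hz.2.2 2 (not_J3R.2 rfl)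
    rcases root3 hφ hqq cs hz.1 h2 with h | h | h
    · refine le_trans ?_ le_sup_left
      refine le_trans ?_ (up_f hφ hqq hP hf cs)
      refine RGD.le_Sup ⟨hz.1, hz.2.1, fun k hk => ?_⟩
      have hk' : k = 2 ∨ k = 3 := by
        have h : ∀ k : Fin 4, ¬ (k = 0 ∨ k = 1) → k = 2 ∨ k = 3 := by decide
        exact h k hk
      rcases hk' with rfl | rfl
      · exact h2
      · exact h
    · rw [h]
      exact (up3 hφ hqq hψ).trans le_sup_right
    · exfalso
      have h3 := hz.2.1 3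
      rw [h] at h3
      change (0 : ℤ) ≤ -(Pi.single (3 : Fin 4) 1 : Fin 4 → ℤ) 3 at h3
      rw [Pi.single_eq_same] at h3
      omega
  obtain ⟨_, ⟨A, hA, rfl⟩, _, ⟨B, hB, rfl⟩, rfl⟩ := mem_sup_comm (fun a ha b hb => by
    obtain ⟨A, -, rfl⟩ := ha
    obtain ⟨B, -, rfl⟩ := hb
    exact f_psi hψ hP hf A B) (h hu)
  exact ⟨A, hA, B, hB, rfl⟩

/-- the negative unipotent subgroup of the Levi subgroup -/
theorem UNJ3 {v : ↥(twistedE6 K q)} (hv : v ∈ UNJ cs RGDTwE6.isCartan (X φ q) J3R) :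
    ∃ L ∈ _root_.Cfsg.Agent.H162.GaussSL.LT 3 (Fx φ 1), ∃ L' ∈ _root_.Cfsg.Agent.H162.GaussSL.LT 2 K, v = f L * ψ L' := by
  have h : UNJ cs RGDTwE6.isCartan (X φ q) J3R ≤ (_root_.Cfsg.Agent.H162.GaussSL.LT 3 (Fx φ 1)).map f ⊔ (LT 2 K).map ψ := by
    refine RGD.Sup_le fun z hz => ?_
    have hz' : IsRoot cs RGDTwE6.isCartan z := by
      have := hz.1.neg
      rwa [_root_.neg_neg] at this
    have h2 : z 2 = 0 := by
      have := hz.2.2 2 (not_J3R.2 rfl)
      simpa using this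
    rcases root3 hφ hqq cs hz' h2 with h | h | h
    · refine le_trans ?_ le_sup_left
      refine le_trans ?_ (lo_f hφ hqq hP hf cs)
      refine RGD.le_Sup ⟨hz.1, hz.2.1, fun k hk => ?_⟩
      have hk' : k = 2 ∨ k = 3 := by
        have h : ∀ k : Fin 4, ¬ (k = 0 ∨ k = 1) → k = 2 ∨ k = 3 := by decide
        exact h k hk
      rcases hk' with rfl | rfl
      · simpa using h2
      · simpa using h
    · exfalso
      have h3 := hz.2.1 3
      rw [h] at h3
      change (0 : ℤ) ≤ -(Pi.single (3 : Fin 4) 1 : Fin 4 → ℤ) 3 at h3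
      rw [Pi.single_eq_same] at h3
      omega
    · rw [h]
      exact (lo3 hφ hqq hψ).trans le_sup_right
  obtain ⟨_, ⟨A, hA, rfl⟩, _, ⟨B, hB, rfl⟩, rfl⟩ := mem_sup_comm (fun a ha b hb => by
    obtain ⟨A, -, rfl⟩ := ha
    obtain ⟨B, -, rfl⟩ := hb
    exact f_psi hψ hP hf A B) (h hv)
  exact ⟨A, hA, B, hB, rfl⟩

end

end Cfsg.Agent.H928.Pw.TwJ
end

-- part: H928/Pw/Dg
section
/-!
Diagonalisation of matrices with separable characteristic polynomial (S2465).

* `Sp N X` : `X ^ N = 1`, the characteristic polynomial is separable and `1` is not an eigenvalue;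
* `Sp.diag` : diagonalisation over a field in which the characteristic polynomial splits.
-/

set_option autoImplicit false

namespace Cfsg.Agent.H928.Pw.Dg

open Polynomial Matrix
open Cfsg.Agent.H194.Ore (exists_diag)

universe u v

variable {F : Type u} [Field F] {n : ℕ}

/-- the good elements -/
structure Sp (N : ℕ) (X : _root_.Matrix.SpecialLinearGroup (Fin n) F) : Prop where
  pow : X ^ N = 1
  sep : (X : Matrix (Fin n) (Fin n) F).charpoly.Separable
  ne : (X : Matrix (Fin n) (Fin n) F).charpoly.eval 1 ≠ 0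

/-- the roots of a separable polynomial which splits -/
theorem exists_lam {K : Type v} [Field K] {f : K[X]} (hs : f.Splits) (hsep : f.Separable) (hm : f.Monic)
    (hn : f.natDegree = n) : ∃ lam : Fin n → K, Function.Injective lam ∧ f = ∏ i, (X - C (lam i)) := by
  have hnd : f.roots.Nodup := nodup_roots hsep
  have hcard : f.roots.card = n := by
    rw [← hn]
    exact (Splits.natDegree_eq_card_roots hs).symm
  obtain ⟨l, hl⟩ := Quot.exists_rep f.roots
  have hl' : f.roots = (l : Multiset _) := hl.symm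
  rw [hl', Multiset.coe_nodup] at hnd
  rw [hl', Multiset.coe_card] at hcard
  subst hcard
  refine ⟨l.get, List.nodup_iff_injective_get.1 hnd, ?_⟩
  have h1 := Splits.eq_prod_roots_of_monic hs hm
  rw [hl', Multiset.map_coe, Multiset.prod_coe] at h1
  rw [h1, ← List.prod_ofFn]
  congr 1
  conv_lhs => rw [← List.ofFn_get l]
  rw [List.map_ofFn]
  rfl

/-- **Diagonalisation.** -/
theorem Sp.diag {N : ℕ} {X : _root_.Matrix.SpecialLinearGroup (Fin n) F} (h : Sp N X) {K : Type v} [Field K] (ι : F →+* K)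
    (hs : ((X : Matrix (Fin n) (Fin n) F).charpoly.map ι).Splits) (hn : 0 < n) :
    ∃ (lam : Fin n → K) (g : GL (Fin n) K), (X : Matrix (Fin n) (Fin n) F).map ι =
      (g : Matrix (Fin n) (Fin n) K) * diagonal lam * ((g⁻¹ : GL (Fin n) K) : Matrix (Fin n) (Fin n) K) ∧
      (∏ i, lam i = 1) ∧ (∀ i, lam i ^ N = 1) ∧ ∀ i, lam i ≠ 1 := by
  set M : Matrix (Fin n) (Fin n) K := (X : Matrix (Fin n) (Fin n) F).map ι with hM
  have h0 : M.charpoly = (X : Matrix (Fin n) (Fin n) F).charpoly.map ι := Matrix.charpoly_map _ _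
  have hdeg : ((X : Matrix (Fin n) (Fin n) F).charpoly.map ι).natDegree = n := by
    rw [(Matrix.charpoly_monic _).natDegree_map, Matrix.charpoly_natDegree_eq_dim, Fintype.card_fin]
  obtain ⟨lam, h1, h2⟩ := exists_lam hs h.sep.map ((Matrix.charpoly_monic _).map _) hdeg
  obtain ⟨P, hP⟩ := exists_diag (M := M) h1 (by rw [h0, h2]) hn
  have hPP : (P : Matrix (Fin n) (Fin n) K) * ((P⁻¹ : _root_.Matrix.SpecialLinearGroup (Fin n) K) : Matrix (Fin n) (Fin n) K) = 1 := by
    have := congrArg Subtype.val (mul_inv_cancel P)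
    exact this
  have hPP' : ((P⁻¹ : _root_.Matrix.SpecialLinearGroup (Fin n) K) : Matrix (Fin n) (Fin n) K) * (P : Matrix (Fin n) (Fin n) K) = 1 := by
    have := congrArg Subtype.val (inv_mul_cancel P)
    exact this
  have e1 : M = (P : Matrix (Fin n) (Fin n) K) * diagonal lam *
      ((P⁻¹ : _root_.Matrix.SpecialLinearGroup (Fin n) K) : Matrix (Fin n) (Fin n) K) := by
    rw [← hP, Matrix.mul_assoc, hPP, Matrix.mul_one]
  refine ⟨lam, (P : GL (Fin n) K), e1, ?_, fun i => ?_, fun i hi => ?_⟩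
  · have h3 := congrArg Matrix.det hP
    have h4 : M.det = 1 := (SpecialLinearGroup.map ι X).2
    rw [det_mul, det_mul, h4, det_diagonal, P.2, one_mul, one_mul] at h3
    exact h3.symm
  · have h3 : ∀ k : ℕ, M ^ k * (P : Matrix (Fin n) (Fin n) K) = (P : Matrix (Fin n) (Fin n) K) * diagonal lam ^ k := by
      intro k
      induction k with
      | zero => simp
      | succ k ih => rw [pow_succ, Matrix.mul_assoc, hP, ← Matrix.mul_assoc, ih, Matrix.mul_assoc, ← pow_succ]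
    have h4 : M ^ N = 1 := by
      have := congrArg Subtype.val (congrArg (SpecialLinearGroup.map ι) h.pow)
      rw [map_pow, map_one] at this
      exact this
    have h5 := h3 N
    rw [h4, Matrix.one_mul] at h5
    have h6 : diagonal lam ^ N = 1 := by
      calc diagonal lam ^ N = ((P⁻¹ : _root_.Matrix.SpecialLinearGroup (Fin n) K) : Matrix (Fin n) (Fin n) K) *
            ((P : Matrix (Fin n) (Fin n) K) * diagonal lam ^ N) := by rw [← Matrix.mul_assoc, hPP', Matrix.one_mul]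
        _ = 1 := by rw [← h5, hPP']
    rw [Matrix.diagonal_pow, ← Matrix.diagonal_one] at h6
    exact congrFun (Matrix.diagonal_injective h6) i
  · apply h.ne
    have h3 : (((X : Matrix (Fin n) (Fin n) F).charpoly.map ι).eval 1) = 0 := by
      rw [h2, eval_prod]
      exact Finset.prod_eq_zero (Finset.mem_univ i) (by rw [hi]; simp)
    rw [← map_one ι, eval_map, eval₂_hom] at h3
    exact (map_eq_zero ι).1 h3

/-- base change -/
theorem Sp.map {N : ℕ} {X : _root_.Matrix.SpecialLinearGroup (Fin n) F} (h : Sp N X) {K : Type v} [Field K] (ι : F →+* K) :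
    Sp N (SpecialLinearGroup.map ι X) where
  pow := by rw [← map_pow, h.pow, map_one]
  sep := by
    have h0 : ((SpecialLinearGroup.map ι X : _root_.Matrix.SpecialLinearGroup (Fin n) K) : Matrix (Fin n) (Fin n) K).charpoly =
        (X : Matrix (Fin n) (Fin n) F).charpoly.map ι := Matrix.charpoly_map _ _
    rw [h0]
    exact h.sep.map
  ne h3 := by
    have h0 : ((SpecialLinearGroup.map ι X : _root_.Matrix.SpecialLinearGroup (Fin n) K) : Matrix (Fin n) (Fin n) K).charpoly =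
        (X : Matrix (Fin n) (Fin n) F).charpoly.map ι := Matrix.charpoly_map _ _
    rw [h0, ← map_one ι, eval_map, eval₂_hom] at h3
    exact h.ne ((map_eq_zero ι).1 h3)

/-- the roots -/
theorem Sp.of_split {N : ℕ} {X : _root_.Matrix.SpecialLinearGroup (Fin n) F} {K : Type v} [Field K] (ι : F →+* K) {lam : Fin n → K}
    (hinj : Function.Injective lam) (hc : (X : Matrix (Fin n) (Fin n) F).charpoly.map ι = ∏ a, (Polynomial.X - C (lam a)))
    (hN : ∀ a, lam a ^ N = 1) (h1 : ∀ a, lam a ≠ 1) (hn : 0 < n) : Sp N X where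
  pow := by
    set M : Matrix (Fin n) (Fin n) K := (X : Matrix (Fin n) (Fin n) F).map ι with hM
    have h0 : M.charpoly = (X : Matrix (Fin n) (Fin n) F).charpoly.map ι := Matrix.charpoly_map _ _
    obtain ⟨P, hP⟩ := exists_diag (M := M) hinj (by rw [h0, hc]) hn
    have hPP : (P : Matrix (Fin n) (Fin n) K) * ((P⁻¹ : _root_.Matrix.SpecialLinearGroup (Fin n) K) : Matrix (Fin n) (Fin n) K) = 1 := by
      have := congrArg Subtype.val (mul_inv_cancel P)
      exact this
    have h3 : ∀ k : ℕ, M ^ k * (P : Matrix (Fin n) (Fin n) K) = (P : Matrix (Fin n) (Fin n) K) * diagonal lam ^ k := by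
      intro k
      induction k with
      | zero => simp
      | succ k ih => rw [pow_succ, Matrix.mul_assoc, hP, ← Matrix.mul_assoc, ih, Matrix.mul_assoc, ← pow_succ]
    have h4 : diagonal lam ^ N = 1 := by
      rw [Matrix.diagonal_pow, ← Matrix.diagonal_one]
      congr 1
      funext i
      exact hN i
    have h5 : M ^ N = 1 := by
      have h6 := h3 N
      rw [h4, Matrix.mul_one] at h6
      calc M ^ N = M ^ N * ((P : Matrix (Fin n) (Fin n) K) *
            ((P⁻¹ : _root_.Matrix.SpecialLinearGroup (Fin n) K) : Matrix (Fin n) (Fin n) K)) := by rw [hPP, Matrix.mul_one]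
        _ = 1 := by rw [← Matrix.mul_assoc, h6, hPP]
    have h7 : SpecialLinearGroup.map ι (X ^ N) = 1 := by
      rw [map_pow]
      apply Subtype.ext
      exact (Matrix.SpecialLinearGroup.coe_pow (Matrix.SpecialLinearGroup.map ι X) N).trans h5
    apply Subtype.ext
    apply Matrix.map_injective ι.injective
    have h8 := congrArg Subtype.val h7
    rw [← map_one (SpecialLinearGroup.map ι)] at h8
    exact h8
  sep := by
    rw [← Polynomial.separable_map ι, hc]
    exact Polynomial.separable_prod_X_sub_C_iff.2 hinj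
  ne h3 := by
    have h4 : (((X : Matrix (Fin n) (Fin n) F).charpoly.map ι).eval 1) = 0 := by
      rw [← map_one ι, eval_map, eval₂_hom, h3, map_zero]
    rw [hc, eval_prod, Finset.prod_eq_zero_iff] at h4
    obtain ⟨i, -, hi⟩ := h4
    simp only [eval_sub, eval_X, eval_C] at hi
    exact h1 i (sub_eq_zero.1 hi).symm

/-- the inverse -/
theorem Sp.inv {N : ℕ} {X : _root_.Matrix.SpecialLinearGroup (Fin n) F} (h : Sp N X) (hn : 0 < n) : Sp N X⁻¹ := by
  classical
  let f := (X : Matrix (Fin n) (Fin n) F).charpoly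
  let ι : F →+* f.SplittingField := algebraMap F f.SplittingField
  obtain ⟨lam, g, e, h1, h2, h3⟩ := h.diag ι (Polynomial.SplittingField.splits f) hn
  have h0 : ∀ i, lam i ≠ 0 := by
    intro i hi
    rw [Finset.prod_eq_zero (Finset.mem_univ i) hi] at h1
    exact zero_ne_one h1
  have hgg : (g : Matrix (Fin n) (Fin n) f.SplittingField) *
      ((g⁻¹ : GL (Fin n) f.SplittingField) : Matrix (Fin n) (Fin n) f.SplittingField) = 1 := by
    rw [← Units.val_mul, mul_inv_cancel, Units.val_one]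
  have hgg' : ((g⁻¹ : GL (Fin n) f.SplittingField) : Matrix (Fin n) (Fin n) f.SplittingField) *
      (g : Matrix (Fin n) (Fin n) f.SplittingField) = 1 := by
    rw [← Units.val_mul, inv_mul_cancel, Units.val_one]
  have hD : diagonal lam * diagonal (fun i => (lam i)⁻¹) = 1 := by
    rw [diagonal_mul_diagonal, ← Matrix.diagonal_one]
    congr 1
    funext i
    exact mul_inv_cancel₀ (h0 i)
  have e2 : ((X⁻¹ : _root_.Matrix.SpecialLinearGroup (Fin n) F) : Matrix (Fin n) (Fin n) F).map ι =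
      (g : Matrix (Fin n) (Fin n) f.SplittingField) * diagonal (fun i => (lam i)⁻¹) *
      ((g⁻¹ : GL (Fin n) f.SplittingField) : Matrix (Fin n) (Fin n) f.SplittingField) := by
    have h5 : (X : Matrix (Fin n) (Fin n) F).map ι *
        ((g : Matrix (Fin n) (Fin n) f.SplittingField) * diagonal (fun i => (lam i)⁻¹) *
          ((g⁻¹ : GL (Fin n) f.SplittingField) : Matrix (Fin n) (Fin n) f.SplittingField)) = 1 := by
      rw [e]
      calc _ = (g : Matrix (Fin n) (Fin n) f.SplittingField) * (diagonal lam *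
            ((((g⁻¹ : GL (Fin n) f.SplittingField) : Matrix (Fin n) (Fin n) f.SplittingField) *
            (g : Matrix (Fin n) (Fin n) f.SplittingField)) * diagonal (fun i => (lam i)⁻¹))) *
            ((g⁻¹ : GL (Fin n) f.SplittingField) : Matrix (Fin n) (Fin n) f.SplittingField) := by
              simp only [Matrix.mul_assoc]
        _ = 1 := by rw [hgg', Matrix.one_mul, hD, Matrix.mul_one, hgg]
    have h6 : ((X⁻¹ : _root_.Matrix.SpecialLinearGroup (Fin n) F) : Matrix (Fin n) (Fin n) F).map ι *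
        (X : Matrix (Fin n) (Fin n) F).map ι = 1 := by
      have := congrArg Subtype.val (congrArg (SpecialLinearGroup.map ι) (inv_mul_cancel X))
      rw [map_mul, map_one] at this
      exact this
    calc ((X⁻¹ : _root_.Matrix.SpecialLinearGroup (Fin n) F) : Matrix (Fin n) (Fin n) F).map ι
        = ((X⁻¹ : _root_.Matrix.SpecialLinearGroup (Fin n) F) : Matrix (Fin n) (Fin n) F).map ι *
          ((X : Matrix (Fin n) (Fin n) F).map ι *
        ((g : Matrix (Fin n) (Fin n) f.SplittingField) * diagonal (fun i => (lam i)⁻¹) *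
          ((g⁻¹ : GL (Fin n) f.SplittingField) : Matrix (Fin n) (Fin n) f.SplittingField))) := by
            rw [h5, Matrix.mul_one]
      _ = _ := by rw [← Matrix.mul_assoc, h6, Matrix.one_mul]
  have hchar : ∀ μ : Fin n → f.SplittingField, ((g : Matrix (Fin n) (Fin n) f.SplittingField) * diagonal μ *
      ((g⁻¹ : GL (Fin n) f.SplittingField) : Matrix (Fin n) (Fin n) f.SplittingField)).charpoly =
      ∏ a, (Polynomial.X - C (μ a)) := by
    intro μ
    rw [Matrix.coe_units_inv, Matrix.charpoly_units_conj, Matrix.charpoly_of_upperTriangular _ (Matrix.blockTriangular_diagonal μ)]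
    exact Finset.prod_congr rfl fun i _ => by rw [diagonal_apply_eq]
  have hinj : Function.Injective lam := by
    have h7 : ((X : Matrix (Fin n) (Fin n) F).charpoly.map ι) = ∏ a, (Polynomial.X - C (lam a)) := by
      rw [← hchar lam, ← e]
      exact (Matrix.charpoly_map _ _).symm
    have h8 : ((X : Matrix (Fin n) (Fin n) F).charpoly.map ι).Separable := h.sep.map
    rw [h7] at h8
    exact Polynomial.separable_prod_X_sub_C_iff.1 h8
  refine Sp.of_split ι (lam := fun i => (lam i)⁻¹) (fun i j hij => hinj (inv_injective hij)) ?_ (fun i => ?_) (fun i hi => ?_) hn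
  · rw [← hchar, ← e2]
    exact (Matrix.charpoly_map _ _).symm
  · rw [inv_pow, h2, inv_one]
  · exact h3 i (inv_eq_one.1 hi)

/-- an irreducible characteristic polynomial -/
theorem Sp.of_irreducible [Finite F] {N : ℕ} {X : _root_.Matrix.SpecialLinearGroup (Fin n) F} (hn : 2 ≤ n) (hN : X ^ N = 1)
    (h : Irreducible (X : Matrix (Fin n) (Fin n) F).charpoly) : Sp N X where
  pow := hN
  sep := PerfectField.separable_of_irreducible h
  ne h0 := by
    have h1 : (X : Matrix (Fin n) (Fin n) F).charpoly.natDegree = n := by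
      rw [Matrix.charpoly_natDegree_eq_dim, Fintype.card_fin]
    have h2 := Polynomial.degree_eq_one_of_irreducible_of_root h (x := 1) h0
    have h3 : (X : Matrix (Fin n) (Fin n) F).charpoly.natDegree = 1 := Polynomial.natDegree_eq_of_degree_eq_some h2
    omega

end Cfsg.Agent.H928.Pw.Dg
end

-- part: H928/Pw/TwNf
section
/-!
`²E₆(q)`: the elements `f(X) ψ(x)`, `X ∈ SL₃(q)`, `x ∈ SL₂(q²)` of coprime orders without eigenvalue `1`, have no fixed
points on the unipotent radicals of the relative nodes `{0, 1, 3}` (S2465).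
-/

set_option autoImplicit false
set_option linter.unusedSectionVars false

namespace Cfsg.Agent.H928.Pw.TwNf

open CoxeterSystem Cfsg.Agent.ChevalleyStructure.CoxeterGeom Cfsg.Agent.Tits.Roots Cfsg.Agent.Tits.Core
  Cfsg.Agent.Nodes Cfsg.Agent.Nodes.Reps Cfsg.Agent.Nodes.BNOf Cfsg.Agent.Nodes.RGDLib Cfsg.Agent.Nodes.Bruhat
  Cfsg.Agent.Nodes.OppDec Cfsg.Agent.Nodes.LeviDec Cfsg.Agent.Nodes.StabComb Cfsg.Agent.Nodes.KindChev
  Cfsg.Agent.Nodes.ChevCls
  Cfsg.Agent.OddHalf.NI.ModelChev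
  Cfsg.Agent.H162.GaussDec Cfsg.Agent.H162.GaussLevi Cfsg.Agent.H162.GaussSL Cfsg.Agent.H162.GaussReg
  Cfsg.Agent.H928.Ore.Frame Cfsg.Agent.H928.Ore.Fix Cfsg.Agent.H928.Ore.Block Cfsg.Agent.H928.Ore.TwE
  Cfsg.Agent.H928.Ore.TwS Cfsg.Agent.H928.Ore.TwF Cfsg.Agent.H928.Pw.TwJ Cfsg.Agent.H928.Pw.Dg
open Cfsg.Lie Cfsg.Agent.ChevalleyStructure Cfsg.Agent.ChevalleyStructure.Elts
  Cfsg.Agent.ChevalleyStructure.NPerm
  Cfsg.Agent.ChevalleyStructure.CoxeterGeomTypes Cfsg.Agent.Nodes.RGDChev Cfsg.Agent.KFacts.RgdChevCoord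
open Cfsg.Agent.Nodes.RGDTwGen Cfsg.Agent.Nodes.RGDFold Cfsg.Agent.Nodes.RGDTwE6
open Cfsg.Agent.Nodes.RGDFoldSL (Fx mem_Fx)
open Cfsg.Agent.FixBN.FieldRGD (uu vv dd ww)
open Cfsg.Agent.H162.GaussExcMain (r6 rt6 exists_hom_D w6)
open Cfsg.Agent.H482.Ore.Fix (Bk Dz SimpB wt)
open scoped MatrixGroups

universe u v

/-! ### The tables -/

theorem tab3 : ∀ s : Fin 72, (∃ k : Fin 6, (k = 2 ∨ k = 4) ∧ vec chevE6 6 s k ≠ 0) →
    (chevE6.cartan (3 : Fin 6) s + chevE6.cartan (1 : Fin 6) s = 0 ∧ chevE6.cartan (1 : Fin 6) s = 0 ∧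
      ((chevE6.cartan (0 : Fin 6) s = 0 ∧ (chevE6.cartan (5 : Fin 6) s = 1 ∨ chevE6.cartan (5 : Fin 6) s = -1)) ∨
       (chevE6.cartan (5 : Fin 6) s = 0 ∧ (chevE6.cartan (0 : Fin 6) s = 1 ∨ chevE6.cartan (0 : Fin 6) s = -1)))) ∨
    ((chevE6.cartan (3 : Fin 6) s + chevE6.cartan (1 : Fin 6) s = 0 ∧
       (chevE6.cartan (1 : Fin 6) s = 1 ∨ chevE6.cartan (1 : Fin 6) s = -1)) ∨
     (chevE6.cartan (3 : Fin 6) s + chevE6.cartan (1 : Fin 6) s = 1 ∧
       (chevE6.cartan (1 : Fin 6) s = 0 ∨ chevE6.cartan (1 : Fin 6) s = 1)) ∨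
     (chevE6.cartan (3 : Fin 6) s + chevE6.cartan (1 : Fin 6) s = -1 ∧
       (chevE6.cartan (1 : Fin 6) s = 0 ∨ chevE6.cartan (1 : Fin 6) s = -1))) := by decide +kernel

/-- the roots of the block of a node -/
def r1 (i : Fin 6) : Fin 2 → Fin 2 → ℕ := ![![0, chevE6.simple i], ![chevE6.neg (chevE6.simple i), 0]]

theorem simp6 : SimpB chevE6 6 1 r6 ![3, 1] where
  up := by decide +kernel
  dn := by decide +kernel

theorem simp1 (i : Fin 6) : SimpB chevE6 6 0 (r1 i) ![i] where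
  up := by revert i; decide +kernel
  dn := by revert i; decide +kernel

theorem tabJ : (∀ a b : Fin 3, a ≠ b → ∀ k : Fin 6, (k = 2 ∨ k = 4) → vec chevE6 6 (r6 a b) k = 0) ∧
    ∀ i : Fin 6, (i = 0 ∨ i = 5) → ∀ a b : Fin 2, a ≠ b → ∀ k : Fin 6, (k = 2 ∨ k = 4) → vec chevE6 6 (r1 i a b) k = 0 := by
  decide +kernel

theorem r1_lt : ∀ i : Fin 6, ∀ a b : Fin 2, a ≠ b → r1 i a b < 72 := by decide +kernel

section

variable {K : Type u} {K' : Type v} [Field K] [Field K'] (ι : K →+* K')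

theorem bk6 {P : Matrix.SpecialLinearGroup (Fin 3) K →* ↥(chevE6.group K)}
    (hP : ∀ a b (hab : a ≠ b) c, P (Matrix.SpecialLinearGroup.transvection hab c) =
      xc RGDTwE6.hp (vec chevE6 6 (r6 a b)) (((1 : ℤ) : K) * c))
    {P' : Matrix.SpecialLinearGroup (Fin 3) K' →* ↥(chevE6.group K')}
    (hP' : ∀ a b (hab : a ≠ b) c, P' (Matrix.SpecialLinearGroup.transvection hab c) =
      xc RGDTwE6.hp (vec chevE6 6 (r6 a b)) (((1 : ℤ) : K') * c)) :
    Bk RGDTwE6.hp ι J3A 1 r6 ![3, 1] P P' (fun _ _ => 1) where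
  simp := simp6
  rlt a b hab := rlt a b hab
  rJ a b hab k hk := tabJ.1 a b hab k (not_J3A.1 hk)
  hφ a b hab c := by rw [hP, Int.cast_one]
  hφ' a b hab c := by rw [hP', Int.cast_one, map_one]
  ss _ := mul_one 1

theorem sl_tv (i : Fin 6) {a b : Fin 2} (hab : a ≠ b) (c : K) :
    sl RGDTwE6.hp i (Matrix.SpecialLinearGroup.transvection hab c) = xc RGDTwE6.hp (vec chevE6 6 (r1 i a b)) c := by
  have hi := simple_lt RGDTwE6.hp.inList (lt_rank RGDTwE6.hp i)
  fin_cases a <;> fin_cases b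
  · exact absurd rfl hab
  · have e1 : sl RGDTwE6.hp i (Matrix.SpecialLinearGroup.transvection hab c) = sl RGDTwE6.hp i (uu c) :=
      congrArg _ (tv01 c)
    rw [e1, sl_uu, ← vec_simple RGDTwE6.hp i]
    rfl
  · have e1 : sl RGDTwE6.hp i (Matrix.SpecialLinearGroup.transvection hab c) = sl RGDTwE6.hp i (vv c) :=
      congrArg _ (tv10 c)
    rw [e1, sl_vv, ← vec_simple RGDTwE6.hp i, ← vec_neg RGDTwE6.hp hi]
    rfl
  · exact absurd rfl hab

theorem bk1 {i : Fin 6} (hi : i = 0 ∨ i = 5) :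
    Bk RGDTwE6.hp ι J3A 0 (r1 i) ![i] (sl (K := K) RGDTwE6.hp i) (sl (K := K') RGDTwE6.hp i) (fun _ _ => 1) where
  simp := simp1 i
  rlt a b hab := r1_lt i a b hab
  rJ a b hab k hk := tabJ.2 i hi a b hab k (not_J3A.1 hk)
  hφ a b hab c := by rw [sl_tv, one_mul]
  hφ' a b hab c := by rw [sl_tv, map_one, one_mul]
  ss _ := mul_one 1

end

/-! ### The fixed points -/

theorem wt6 (q : ℕ) : wt chevE6 (![3, 1] : Fin 2 → Fin 6) q 0 = chevE6.cartan (3 : Fin 6) q + chevE6.cartan (1 : Fin 6) q ∧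
    wt chevE6 (![3, 1] : Fin 2 → Fin 6) q 1 = chevE6.cartan (1 : Fin 6) q ∧
    wt chevE6 (![3, 1] : Fin 2 → Fin 6) q 2 = 0 := by
  refine ⟨?_, ?_, ?_⟩
  · unfold wt
    rw [Fin.sum_univ_two, if_pos (by decide), if_pos (by decide)]
    rfl
  · unfold wt
    rw [Fin.sum_univ_two, if_neg (by decide), if_pos (by decide), zero_add]
    rfl
  · unfold wt
    rw [Fin.sum_univ_two, if_neg (by decide), if_neg (by decide), zero_add]

theorem wt1 (i : Fin 6) (q : ℕ) : wt chevE6 (![i] : Fin 1 → Fin 6) q 0 = chevE6.cartan i q ∧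
    wt chevE6 (![i] : Fin 1 → Fin 6) q 1 = 0 := by
  constructor
  · unfold wt
    rw [Fin.sum_univ_one, if_pos (by decide)]
    rfl
  · unfold wt
    rw [Fin.sum_univ_one, if_neg (by decide)]

theorem val6 {K : Type*} [Field K] (lam : Fin 3 → K) (q : ℕ) :
    ∏ b, lam b ^ wt chevE6 (![3, 1] : Fin 2 → Fin 6) q b =
      lam 0 ^ (chevE6.cartan (3 : Fin 6) q + chevE6.cartan (1 : Fin 6) q) * lam 1 ^ chevE6.cartan (1 : Fin 6) q := by
  obtain ⟨h0, h1, h2⟩ := wt6 q
  rw [Fin.prod_univ_three, h0, h1, h2, zpow_zero, mul_one]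

theorem val1 {K : Type*} [Field K] (i : Fin 6) (lam : Fin 2 → K) (q : ℕ) :
    ∏ b, lam b ^ wt chevE6 (![i] : Fin 1 → Fin 6) q b = lam 0 ^ chevE6.cartan i q := by
  obtain ⟨h0, h1⟩ := wt1 i q
  rw [Fin.prod_univ_two, h0, h1, zpow_zero, mul_one]

/-- the characters are not trivial -/
theorem char_ne {K : Type*} [Field K] {N M : ℕ} (hNM : N.Coprime M) {lam : Fin 3 → K} (h1 : ∏ i, lam i = 1)
    (h2 : ∀ i, lam i ^ N = 1) (h3 : ∀ i, lam i ≠ 1) {a b : K} (ha : a ^ M = 1) (hb : b ^ M = 1) (ha1 : a ≠ 1) (hb1 : b ≠ 1)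
    (s : Fin 72) (hs : ∃ k : Fin 6, (k = 2 ∨ k = 4) ∧ vec chevE6 6 s k ≠ 0) :
    (lam 0 ^ (chevE6.cartan (3 : Fin 6) s + chevE6.cartan (1 : Fin 6) s) * lam 1 ^ chevE6.cartan (1 : Fin 6) s) *
      (a ^ chevE6.cartan (0 : Fin 6) s * b ^ chevE6.cartan (5 : Fin 6) s) ≠ 1 := by
  have hab : ∀ i j : ℤ, (a ^ i * b ^ j) ^ M = 1 := by
    intro i j
    rw [mul_pow, ← zpow_natCast, ← zpow_natCast, ← zpow_mul, ← zpow_mul, mul_comm i, mul_comm j, zpow_mul, zpow_mul,
      zpow_natCast, zpow_natCast, ha, hb, one_zpow, one_zpow, mul_one]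
  have key : ∀ (x y : K), x ^ N = 1 → y ^ M = 1 → x ≠ 1 → x * y ≠ 1 := by
    intro x y hx hy hx1 hxy
    apply hx1
    have h4 : x ^ M = 1 := by
      have := congrArg (· ^ M) hxy
      simp only [mul_pow, hy, mul_one, one_pow] at this
      exact this
    have h5 := Nat.dvd_gcd (orderOf_dvd_of_pow_eq_one hx) (orderOf_dvd_of_pow_eq_one h4)
    rw [hNM.gcd_eq_one, Nat.dvd_one, orderOf_eq_one_iff] at h5
    exact h5
  have hl : ∀ i, lam i ≠ 0 := by
    intro i hi
    rw [Finset.prod_eq_zero (Finset.mem_univ i) hi] at h1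
    exact zero_ne_one h1
  have h01 : lam 0 * lam 1 = (lam 2)⁻¹ := by
    rw [Fin.prod_univ_three] at h1
    exact eq_inv_of_mul_eq_one_left h1
  rcases tab3 s hs with ⟨e1, e2, e3⟩ | e
  · rw [e1, e2, zpow_zero, zpow_zero, one_mul, one_mul]
    rcases e3 with ⟨e3, e4⟩ | ⟨e3, e4⟩
    · rw [e3, zpow_zero, one_mul]
      rcases e4 with e4 | e4
      · rw [e4, zpow_one]; exact hb1
      · rw [e4, zpow_neg_one]; exact fun h => hb1 (inv_eq_one.1 h)
    · rw [e3, zpow_zero, mul_one]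
      rcases e4 with e4 | e4
      · rw [e4, zpow_one]; exact ha1
      · rw [e4, zpow_neg_one]; exact fun h => ha1 (inv_eq_one.1 h)
  · refine key _ _ ?_ (hab _ _) ?_
    · rcases e with ⟨e1, e2 | e2⟩ | ⟨e1, e2 | e2⟩ | ⟨e1, e2 | e2⟩
      · rw [e1, e2, zpow_zero, zpow_one, one_mul, h2]
      · rw [e1, e2, zpow_zero, zpow_neg_one, one_mul, inv_pow, h2, inv_one]
      · rw [e1, e2, zpow_zero, zpow_one, mul_one, h2]
      · rw [e1, e2, zpow_one, zpow_one, mul_pow, h2, h2, mul_one]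
      · rw [e1, e2, zpow_zero, zpow_neg_one, mul_one, inv_pow, h2, inv_one]
      · rw [e1, e2, zpow_neg_one, zpow_neg_one, mul_pow, inv_pow, inv_pow, h2, h2, inv_one, mul_one]
    · rcases e with ⟨e1, e2 | e2⟩ | ⟨e1, e2 | e2⟩ | ⟨e1, e2 | e2⟩
      · rw [e1, e2, zpow_zero, zpow_one, one_mul]; exact h3 1
      · rw [e1, e2, zpow_zero, zpow_neg_one, one_mul]; exact fun h => h3 1 (inv_eq_one.1 h)
      · rw [e1, e2, zpow_zero, zpow_one, mul_one]; exact h3 0
      · rw [e1, e2, zpow_one, zpow_one, h01]; exact fun h => h3 2 (inv_eq_one.1 h)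
      · rw [e1, e2, zpow_zero, zpow_neg_one, mul_one]; exact fun h => h3 0 (inv_eq_one.1 h)
      · rw [e1, e2, zpow_neg_one, zpow_neg_one, ← mul_inv, h01, inv_inv]; exact h3 2

/-- **No fixed points in `E₆(K)`.** -/
theorem nf3 {K : Type u} [Field K] [Finite K] {P : Matrix.SpecialLinearGroup (Fin 3) K →* ↥(chevE6.group K)}
    (hP : ∀ a b (hab : a ≠ b) c, P (Matrix.SpecialLinearGroup.transvection hab c) =
      xc RGDTwE6.hp (vec chevE6 6 (r6 a b)) (((1 : ℤ) : K) * c)) {N M : ℕ} (hNM : N.Coprime M)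
    {A : Matrix.SpecialLinearGroup (Fin 3) K} {x y : SL(2, K)} (hA : Sp N A) (hx : Sp M x) (hy : Sp M y) :
    NF (VJ CoxeterMatrix.E₆.toCoxeterSystem RGDTwE6.hp.isCartan (XX chevE6 6 K) J3A)
      (P A * (sl RGDTwE6.hp (0 : Fin 6) x * sl RGDTwE6.hp (5 : Fin 6) y)) ∧
    NF (VNJ CoxeterMatrix.E₆.toCoxeterSystem RGDTwE6.hp.isCartan (XX chevE6 6 K) J3A)
      (P A * (sl RGDTwE6.hp (0 : Fin 6) x * sl RGDTwE6.hp (5 : Fin 6) y)) := by
  classical
  obtain ⟨p, hpc⟩ := CharP.exists K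
  have : Fact p.Prime := ⟨(CharP.char_is_prime_or_zero K p).resolve_right (CharP.char_ne_zero_of_finite K p)⟩
  -- the field
  let g : Polynomial K := (A : Matrix (Fin 3) (Fin 3) K).charpoly *
    ((x : Matrix (Fin 2) (Fin 2) K).charpoly * (y : Matrix (Fin 2) (Fin 2) K).charpoly)
  have hg0 : g ≠ 0 := mul_ne_zero (Matrix.charpoly_monic _).ne_zero
    (mul_ne_zero (Matrix.charpoly_monic _).ne_zero (Matrix.charpoly_monic _).ne_zero)
  have hfin : Finite g.SplittingField := Module.finite_of_finite K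
  let ι : K →+* g.SplittingField := algebraMap K g.SplittingField
  have hsp : (g.map ι).Splits := Polynomial.SplittingField.splits g
  have hg0' : g.map ι ≠ 0 := (Polynomial.map_ne_zero_iff ι.injective).2 hg0
  have : CharP g.SplittingField p := by
    rw [← (RingHom.charP_iff ι ι.injective p)]
    infer_instance
  have hd : ∀ f : Polynomial K, f ∣ g → (f.map ι).Splits := fun f hf =>
    Polynomial.Splits.of_dvd hsp hg0' (Polynomial.map_dvd ι hf)
  obtain ⟨lam, g1, e1, a1, a2, a3⟩ := hA.diag ι (hd _ (Dvd.intro _ rfl)) (by norm_num)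
  obtain ⟨mu, g2, e2, -, b2, b3⟩ := hx.diag ι (hd _ (Dvd.dvd.mul_left (Dvd.intro _ rfl) _)) (by norm_num)
  obtain ⟨nu, g3, e3, -, c2, c3⟩ := hy.diag ι (hd _ (Dvd.dvd.mul_left (Dvd.intro_left _ rfl) _)) (by norm_num)
  obtain ⟨P', hP'⟩ := exists_hom_D RGDTwE6.hp (K := g.SplittingField) (ε := 1) (by norm_num) rt6.1 rt6.2.1 rt6.2.2.1
    rt6.2.2.2
  have D1 := (bk6 ι hP hP').dz RGDTwE6.hp e1
  have D2 := (bk1 ι (i := 0) (Or.inl rfl)).dz RGDTwE6.hp e2
  have D3 := (bk1 ι (i := 5) (Or.inr rfl)).dz RGDTwE6.hp e3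
  have hc23 : ∀ s ∈ (sl (K := g.SplittingField) RGDTwE6.hp (0 : Fin 6)).range,
      ∀ t ∈ (sl (K := g.SplittingField) RGDTwE6.hp (5 : Fin 6)).range, s * t = t * s := by
    rintro _ ⟨B, rfl⟩ _ ⟨C, rfl⟩
    exact sl_comm B C
  have hc1 : ∀ s ∈ P'.range, ∀ t ∈ (sl (K := g.SplittingField) RGDTwE6.hp (0 : Fin 6)).range ⊔
      (sl (K := g.SplittingField) RGDTwE6.hp (5 : Fin 6)).range, s * t = t * s := by
    intro s hs t ht
    symm
    refine Cfsg.Agent.H482.Ore.Fix.comm_sup ?_ ?_ t ht s hs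
    · rintro _ ⟨B, rfl⟩ _ ⟨C, rfl⟩
      exact sl_comm_block hP' (Or.inl rfl) B C
    · rintro _ ⟨B, rfl⟩ _ ⟨C, rfl⟩
      exact sl_comm_block hP' (Or.inr rfl) B C
  have D23 := D2.mul RGDTwE6.hp D3 hc23
  have D := D1.mul RGDTwE6.hp D23 hc1
  refine D.nf RGDTwE6.hp p fun s hs hk => ?_
  obtain ⟨k, hk, hk0⟩ := hk
  rw [val6, val1, val1]
  exact char_ne hNM a1 a2 a3 (b2 0) (c2 0) (b3 0) (c3 0) ⟨s, hs⟩ ⟨k, not_J3A.1 hk, hk0⟩

end Cfsg.Agent.H928.Pw.TwNf
end

-- part: H928/Pw/TwSix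
section
/-!
`²E₆(q)`: every element is a product of two elements of order prime to `6`, from the product lemmas for `SL₃(q)` and
`SL₂(q²)` (S2465).
-/

set_option autoImplicit false
set_option linter.unusedSectionVars false

namespace Cfsg.Agent.H928.Pw.TwSix

open CoxeterSystem Cfsg.Agent.ChevalleyStructure.CoxeterGeom Cfsg.Agent.Tits.Roots Cfsg.Agent.Tits.Core
  Cfsg.Agent.Nodes Cfsg.Agent.Nodes.Reps Cfsg.Agent.Nodes.BNOf Cfsg.Agent.Nodes.RGDLib Cfsg.Agent.Nodes.Bruhat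
  Cfsg.Agent.Nodes.OppDec Cfsg.Agent.Nodes.LeviDec Cfsg.Agent.Nodes.StabComb Cfsg.Agent.Nodes.KindChev
  Cfsg.Agent.Nodes.ChevCls
  Cfsg.Agent.OddHalf.NI.ModelChev
  Cfsg.Agent.H162.GaussDec Cfsg.Agent.H162.GaussLevi Cfsg.Agent.H162.GaussSL Cfsg.Agent.H162.GaussReg
  Cfsg.Agent.H928.Ore.Frame Cfsg.Agent.H928.Ore.Fix Cfsg.Agent.H928.Ore.Block Cfsg.Agent.H928.Ore.TwE
  Cfsg.Agent.H928.Ore.TwS Cfsg.Agent.H928.Ore.TwF Cfsg.Agent.H928.Pw.TwJ Cfsg.Agent.H928.Pw.Dg
  Cfsg.Agent.H928.Pw.TwNf Cfsg.Agent.H928.War.TwT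
open Cfsg.Lie Cfsg.Agent.ChevalleyStructure Cfsg.Agent.ChevalleyStructure.Elts
  Cfsg.Agent.ChevalleyStructure.NPerm
  Cfsg.Agent.ChevalleyStructure.CoxeterGeomTypes Cfsg.Agent.Nodes.RGDChev Cfsg.Agent.KFacts.RgdChevCoord
open Cfsg.Agent.Nodes.RGDTwGen Cfsg.Agent.Nodes.RGDFold Cfsg.Agent.Nodes.RGDTwE6
open Cfsg.Agent.Nodes.RGDFoldSL (Fx mem_Fx)
open Cfsg.Agent.FixBN.FieldRGD (uu vv dd ww)
open Cfsg.Agent.H162.GaussExcMain (r6 rt6 exists_hom_D w6)
open Cfsg.Agent.H78.Pw (All Pr Pw)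
open scoped MatrixGroups

universe u

/-- products of two good elements -/
def PPn (n : ℕ) (F : Type*) [Field F] (N : ℕ) : Prop :=
  ∀ L ∈ _root_.Cfsg.Agent.H162.GaussSL.LT n F, ∀ U ∈ UT n F, ∃ X Y : Matrix.SpecialLinearGroup (Fin n) F, L * U = X * Y ∧ Sp N X ∧ Sp N Y

/-- **Orders prime to `6`.** -/
theorem all6_of {K : Type u} [Field K] [Fintype K] {q : ℕ} (hq : IsPrimePow q) (hK : Fintype.card K = q ^ 2) {N M : ℕ}
    (hNM : N.Coprime M) (hN : N.Coprime 6) (hM : M.Coprime 6)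
    (h3 : ∀ φ : K →+* K, (∀ t, φ t = t ^ q) → PPn 3 (Fx φ 1) N) (h2 : PPn 2 K M) : All 6 ↥(twistedE6 K q) := by
  obtain ⟨φ, hφ, hqq⟩ := TwE6Basic.exists_frob hq hK
  obtain ⟨p, hpc⟩ := CharP.exists K
  have : Fact p.Prime := ⟨(CharP.char_is_prime_or_zero K p).resolve_right (CharP.char_ne_zero_of_finite K p)⟩
  have := finite_tw K q
  have R := RGDTwE6.rgd CoxeterMatrix.F₄.toCoxeterSystem hφ hqq p
  have : Finite CoxeterMatrix.F₄.Group := Cfsg.Agent.Nodes.RGDFold.finite_W (hp := RGDTwE6.hp)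
    CoxeterMatrix.F₄.toCoxeterSystem RGDTwE6.isCartan RGDTwE6.foldData
  have hS := Cfsg.Agent.S1070.result hq hK
  have := hS.1
  obtain ⟨P, hP⟩ := exists_hom_D RGDTwE6.hp (K := K) (ε := 1) (by norm_num) rt6.1 rt6.2.1 rt6.2.2.1 rt6.2.2.2
  obtain ⟨f, hf⟩ := exists_f hφ hqq hP
  obtain ⟨ψ, hψ⟩ := exists_psi hφ hqq
  have hc := f_psi hψ hP hf
  -- fixed points
  have hnf : ∀ {X : Matrix.SpecialLinearGroup (Fin 3) (Fx φ 1)} {x : SL(2, K)}, Sp N X → Sp M x →
      NF (VJ CoxeterMatrix.F₄.toCoxeterSystem RGDTwE6.isCartan (RGDTwE6.X φ q) J3R) (f X * ψ x) ∧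
        NF (VNJ CoxeterMatrix.F₄.toCoxeterSystem RGDTwE6.isCartan (RGDTwE6.X φ q) J3R) (f X * ψ x) := by
    intro X x hX hx
    obtain ⟨g1, g2⟩ := nf3 hP hNM (hX.map (Fx φ 1).subtype) hx (hx.map φ)
    have e : inc K q (f X * ψ x) = P (Matrix.SpecialLinearGroup.map (Fx φ 1).subtype X) *
        (sl RGDTwE6.hp (0 : Fin 6) x * sl RGDTwE6.hp (5 : Fin 6) (Matrix.SpecialLinearGroup.map φ x)) := by
      rw [map_mul, hf, hψ]
    rw [← e] at g1 g2
    exact ⟨NF.of_hom _ (inc_injective q) (VJ3_le _ φ q) g1, NF.of_hom _ (inc_injective q) (VNJ3_le _ φ q) g2⟩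
  have hord : ∀ {X : Matrix.SpecialLinearGroup (Fin 3) (Fx φ 1)} {x : SL(2, K)}, Sp N X → Sp M x →
      ∀ y, (orderOf (y * (f X * ψ x) * y⁻¹)).Coprime 6 := by
    intro X x hX hx y
    have h1 : (y * (f X * ψ x) * y⁻¹) ^ (N * M) = 1 := by
      have h4 : Commute (f X) (ψ x) := hc X x
      rw [conj_pow, h4.mul_pow, pow_mul, ← map_pow, hX.pow, map_one, one_pow, mul_comm N M, pow_mul, ← map_pow, hx.pow,
        map_one, one_pow, mul_one, mul_one, mul_inv_cancel]
    exact Nat.Coprime.of_dvd_left (orderOf_dvd_of_pow_eq_one h1) (Nat.Coprime.mul_left hN hM)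
  have hb : ∀ v ∈ UNJ CoxeterMatrix.F₄.toCoxeterSystem RGDTwE6.isCartan (RGDTwE6.X φ q) J3R,
      ∀ u ∈ UJ CoxeterMatrix.F₄.toCoxeterSystem RGDTwE6.isCartan (RGDTwE6.X φ q) J3R, ∃ c₁ c₂, v * u = c₁ * c₂ ∧
        LP CoxeterMatrix.F₄.toCoxeterSystem RGDTwE6.isCartan (T K q) (RGDTwE6.X φ q) J3R c₁ c₂ ∧
        ((∀ y, (orderOf (y * c₁ * y⁻¹)).Coprime 6) ∧ ∀ y, (orderOf (y * c₂ * y⁻¹)).Coprime 6) := by
    intro v hv u hu
    obtain ⟨L, hL, L', hL', rfl⟩ := UNJ3 hφ hqq hψ hP hf _ hv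
    obtain ⟨U, hU, U', hU', rfl⟩ := UJ3 hφ hqq hψ hP hf _ hu
    obtain ⟨X, Y, e1, hX, hY⟩ := h3 φ hφ L hL U hU
    obtain ⟨x, y, e2, hx, hy⟩ := h2 L' hL' U' hU'
    refine ⟨f X * ψ x, f Y * ψ y, ?_, ⟨mul_mem (f_LJ3 hφ hqq hψ hP hf _ X) (psi_LJ hφ hqq hψ _ x),
      mul_mem (f_LJ3 hφ hqq hψ hP hf _ Y) (psi_LJ hφ hqq hψ _ y), (hnf hX hx).2, (hnf hY hy).1⟩, hord hX hx, hord hY hy⟩
    calc f L * ψ L' * (f U * ψ U') = f L * (ψ L' * f U) * ψ U' := by group
      _ = f (L * U) * ψ (L' * U') := by rw [← hc, map_mul, map_mul]; group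
      _ = f X * (f Y * ψ x) * ψ y := by rw [e1, e2, map_mul, map_mul]; group
      _ = _ := by rw [hc]; group
  intro g
  by_cases hg : g = 1
  · rw [hg]
    exact Pr.one 6
  · obtain ⟨c₁, c₂, x, y, ⟨e1, e2⟩, e3⟩ := pair R (RGDTwE6.G1_eq_top CoxeterMatrix.F₄.toCoxeterSystem hφ hqq)
      (Cfsg.Agent.H958.TS.TwCommon.coordP hφ hqq) (Cfsg.Agent.Nodes.ChevChart.irr_of Cfsg.Agent.Nodes.ChevChart.irrF)
      (Pr := fun c₁ c₂ => (∀ y, (orderOf (y * c₁ * y⁻¹)).Coprime 6) ∧ ∀ y, (orderOf (y * c₂ * y⁻¹)).Coprime 6) hb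
      (Cfsg.Agent.H928.War.Rgd.core_trivial R hg)
    exact ⟨x * c₁ * x⁻¹, y * c₂ * y⁻¹, e3, e1 x, e2 y⟩

/-- two `p`-elements, two semisimple elements -/
theorem pw_of {K : Type u} [Field K] [Fintype K] {q : ℕ} (hq : IsPrimePow q) (hK : Fintype.card K = q ^ 2)
    (h6 : 2 ∣ q ∨ 3 ∣ q → All 6 ↥(twistedE6 K q)) : Pw ↥(twistedE6 K q) := by
  obtain ⟨r, hrc⟩ := CharP.exists K
  have hr : r.Prime := (CharP.char_is_prime_or_zero K r).resolve_right (CharP.char_ne_zero_of_finite K r)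
  have : Fact r.Prime := ⟨hr⟩
  have hpp := pp (p := r) hq hK
  have hU : ∀ n : ℕ, r.Coprime n → All n ↥(twistedE6 K q) := fun n hn => All.of_two_pgroup hn fun g => hpp g
  constructor
  · by_cases h5 : 5 ≤ r
    · refine hU 6 ?_
      rw [show 6 = 2 * 3 by norm_num]
      exact Nat.Coprime.mul_right ((Nat.coprime_primes hr Nat.prime_two).2 (by omega))
        ((Nat.coprime_primes hr Nat.prime_three).2 (by omega))
    · have h2 := hr.two_le
      have hrq : r ∣ q := by
        have h1 : r ∣ Fintype.card K := by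
          obtain ⟨n, -, hn⟩ := FiniteField.card K r
          rw [hn]
          exact dvd_pow_self r n.ne_zero
        rw [hK] at h1
        exact hr.dvd_of_dvd_pow h1
      apply h6
      have h4 : r = 2 ∨ r = 3 ∨ r = 4 := by omega
      rcases h4 with rfl | rfl | rfl
      · exact Or.inl hrq
      · exact Or.inr hrq
      · exact absurd hr (by norm_num)
  · intro p hp h5
    by_cases hpr : p = r
    · subst hpr
      intro g
      obtain ⟨x, y, e, hx, hy⟩ := Cfsg.Agent.H928.War.TwOne.ss_one (p := p) hq hK g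
      exact ⟨x, y, by rw [e, pow_one, pow_one], hx, hy⟩
    · exact hU p ((Nat.coprime_primes hr hp).2 (fun h => hpr h.symm))

end Cfsg.Agent.H928.Pw.TwSix
end

-- part: H928/Pw/TwP
section
/-!
The product lemmas for `SL₃(q)` and `SL₂(q²)` (S2465, the rows `²E₆(q)`).

* `pp2` : `PPn 2 K ℓ` for a prime `ℓ ≥ 5` dividing `|K|² - 1`;
* `pp3_irr` : `PPn 3 F (1 + q + q²)`; `pp3_four` : `q = 4^k ≥ 16`.
-/

set_option autoImplicit false
set_option linter.unusedSectionVars false

namespace Cfsg.Agent.H928.Pw.TwP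

open Polynomial Matrix
open Cfsg.Agent.H928.Pw.Dg Cfsg.Agent.H928.Pw.TwSix
open Cfsg.Agent.H162.GaussSL (UT LT)
open Cfsg.Agent.H267.Ore.PTwo (tc)
open Cfsg.Agent.H194.Ore (M3)

universe u

/-! ### `SL₂` -/

theorem charpoly_two {K : Type u} [Field K] (A : _root_.Matrix.SpecialLinearGroup (Fin 2) K) :
    (A : Matrix (Fin 2) (Fin 2) K).charpoly = X ^ 2 - C (tc A) * X + 1 := by
  rw [Matrix.charpoly_fin_two]
  have h1 : (A : Matrix (Fin 2) (Fin 2) K).det = 1 := A.2
  have h2 : (A : Matrix (Fin 2) (Fin 2) K).trace = tc A := Matrix.trace_fin_two _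
  rw [h1, h2, C_1]

theorem sp_two {K : Type u} [Field K] {ℓ : ℕ} (hℓ : ℓ.Prime) (h5 : 5 ≤ ℓ) (h0 : (ℓ : K) ≠ 0)
    {A : _root_.Matrix.SpecialLinearGroup (Fin 2) K} (hA : orderOf A = ℓ) : Sp ℓ A := by
  obtain ⟨g1, g2, -, -⟩ := Cfsg.Agent.H267.Ore.PTwo.tc_facts hℓ h5 h0 hA
  have hd : (4 - tc A ^ 2 : K) ≠ 0 := by
    intro h
    have h1 : (2 - tc A) * (2 + tc A) = 0 := by linear_combination h
    rcases mul_eq_zero.1 h1 with h2 | h2
    · exact g1 (sub_eq_zero.1 h2).symm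
    · exact g2 (eq_neg_of_add_eq_zero_right h2)
  refine ⟨by rw [← hA, pow_orderOf_eq_one], ?_, ?_⟩
  · rw [charpoly_two, Polynomial.separable_def]
    refine ⟨C (4 * (4 - tc A ^ 2)⁻¹), - (C ((4 - tc A ^ 2)⁻¹) * (2 * X - C (tc A))), ?_⟩
    have h1 : derivative (X ^ 2 - C (tc A) * X + 1 : K[X]) = 2 * X - C (tc A) := by
      simp
      exact one_add_one_eq_two
    have h2 : (C ((4 - tc A ^ 2)⁻¹) : K[X]) * (4 - C (tc A) ^ 2) = 1 := by
      have h3 : (4 - C (tc A) ^ 2 : K[X]) = C (4 - tc A ^ 2) := by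
        rw [C_sub, C_pow]
        rfl
      rw [h3, ← C_mul, inv_mul_cancel₀ hd, C_1]
    rw [h1, C_mul, show (C (4 : K) : K[X]) = 4 from rfl]
    linear_combination h2
  · rw [charpoly_two]
    simp only [eval_add, eval_sub, eval_pow, eval_X, eval_mul, eval_C, eval_one]
    intro h
    apply g1
    linear_combination -h

/-- **`P_2`.** -/
theorem pp2 {K : Type u} [Field K] [Finite K] {ℓ : ℕ} (hℓ : ℓ.Prime) (h5 : 5 ≤ ℓ) (hd : ℓ ∣ Nat.card K ^ 2 - 1) :
    PPn 2 K ℓ := by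
  have h0 : (ℓ : K) ≠ 0 := by
    intro h
    obtain ⟨r, hrc⟩ := CharP.exists K
    have hr : r.Prime := (CharP.char_is_prime_or_zero K r).resolve_right (CharP.char_ne_zero_of_finite K r)
    have : Fact r.Prime := ⟨hr⟩
    have h1 : r ∣ ℓ := (CharP.cast_eq_zero_iff K r ℓ).1 h
    have h2 : r = ℓ := (Nat.prime_dvd_prime_iff_eq hr hℓ).1 h1
    have h3 : r ∣ Nat.card K := by
      have := Fintype.ofFinite K
      obtain ⟨n, -, hn⟩ := FiniteField.card K r
      rw [Nat.card_eq_fintype_card, hn]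
      exact dvd_pow_self r n.ne_zero
    have h4 : ℓ ∣ Nat.card K ^ 2 := h2 ▸ (h3.trans (dvd_pow_self _ two_ne_zero))
    have h5' : 1 ≤ Nat.card K ^ 2 := Nat.one_le_pow _ _ Nat.card_pos
    have h6 : ℓ ∣ 1 := (Nat.dvd_sub_iff_right h5' h4).1 hd
    exact hℓ.one_lt.ne' (Nat.dvd_one.1 h6)
  intro L hL U hU
  obtain ⟨x, y, e, hx, hy⟩ := Cfsg.Agent.H267.Ore.PTwo.p_two_prime hℓ h5 hd
    (Cfsg.Agent.H267.Ore.PTwo.nonscalar_LU hL hU)
  exact ⟨x, y, e, sp_two hℓ h5 h0 hx, sp_two hℓ h5 h0 hy⟩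

/-! ### `SL₃` -/

theorem sum3 (q : ℕ) : ∑ a ∈ Finset.range 3, q ^ a = 1 + q + q ^ 2 := by
  simp [Finset.sum_range_succ]

/-- **`P_3` from the irreducible pairs.** -/
theorem pp3_irr {F : Type u} [Field F] [Finite F] (h : M3 F) : PPn 3 F (1 + Nat.card F + Nat.card F ^ 2) := by
  intro L hL U hU
  obtain ⟨X, Y, e, hX, hY, -⟩ := h L hL U hU
  have key : ∀ {X : _root_.Matrix.SpecialLinearGroup (Fin 3) F}, Irreducible (X : Matrix (Fin 3) (Fin 3) F).charpoly →
      Sp (1 + Nat.card F + Nat.card F ^ 2) X := by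
    intro X hX
    refine Sp.of_irreducible (by norm_num) ?_ hX
    rw [← sum3]
    exact Cfsg.Agent.H194.Pw.irr_pow hX
  exact ⟨X, Y, e, key hX, key hY⟩

end Cfsg.Agent.H928.Pw.TwP
end

-- part: H649/PwSp/Four
section
/-!
# Symplectic spaces of dimension eight, characteristic three: tools

* `exists_iso_vec` : isotropic vectors of a quadratic form on a space of dimension at least three.
* `corner_pq` : the corner `GL_(r-1) × Sp_2`.
* `c1_four` : `C1` isometries in dimension eight.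
-/

set_option autoImplicit false
open Polynomial

noncomputable section

namespace Cfsg.Agent.H649.PwSp

open Cfsg.Agent.H144

section

variable {F V : Type*} [Field F] [Finite F] [AddCommGroup V] [Module F V] [FiniteDimensional F V]

theorem exists_iso_vec {B : LinearMap.BilinForm F V} (hB : Alt B) (hodd : Nat.card F % 2 = 1)
    {n : Module.End F V} (hn : ∀ x y, B (n x) y + B x (n y) = 0) {T : Submodule F V}
    (hT : 3 ≤ Module.finrank F T) : ∃ v ∈ T, v ≠ 0 ∧ B v (n v) = 0 := by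
  have : Fintype F := Fintype.ofFinite F
  rw [Nat.card_eq_fintype_card] at hodd
  have hsym : ∀ x y, B x (n y) = B y (n x) := by
    intro x y
    have h1 := hn x y
    have h2 : B (n x) y = - B y (n x) := hB.neg _ _
    rw [h2] at h1
    linear_combination h1
  have hT0 : T ≠ ⊥ := by
    rintro rfl
    rw [finrank_bot] at hT
    omega
  obtain ⟨v, hv, hv0⟩ := Submodule.exists_mem_ne_zero_of_ne_bot hT0
  by_cases h1 : B v (n v) = 0
  · exact ⟨v, hv, hv0, h1⟩
  -- second vector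
  let φ : T →ₗ[F] F := (B.flip (n v)) ∘ₗ T.subtype
  have hφ : LinearMap.ker φ ≠ ⊥ := LinearMap.ker_ne_bot_of_finrank_lt (by rw [Module.finrank_self]; omega)
  obtain ⟨⟨w, hw⟩, hw1, hw0⟩ := Submodule.exists_mem_ne_zero_of_ne_bot hφ
  have hw0' : w ≠ 0 := fun h0 => hw0 (Subtype.ext h0)
  have hwv : B w (n v) = 0 := hw1
  by_cases h2 : B w (n w) = 0
  · exact ⟨w, hw, hw0', h2⟩
  let ψ : T →ₗ[F] F × F := φ.prod ((B.flip (n w)) ∘ₗ T.subtype)
  have hψ : LinearMap.ker ψ ≠ ⊥ := LinearMap.ker_ne_bot_of_finrank_lt (by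
    rw [Module.finrank_prod, Module.finrank_self]; omega)
  obtain ⟨⟨u, hu⟩, hu1, hu0⟩ := Submodule.exists_mem_ne_zero_of_ne_bot hψ
  have hu0' : u ≠ 0 := fun h0 => hu0 (Subtype.ext h0)
  have huv : B u (n v) = 0 := congrArg Prod.fst (LinearMap.mem_ker.1 hu1)
  have huw : B u (n w) = 0 := congrArg Prod.snd (LinearMap.mem_ker.1 hu1)
  by_cases h3 : B u (n u) = 0
  · exact ⟨u, hu, hu0', h3⟩
  obtain ⟨α, β, hαβ⟩ := FiniteField.exists_root_sum_quadratic (R := F)
    (f := C (B v (n v)) * X ^ 2 + C 0 * X + C (B u (n u))) (g := C (B w (n w)) * X ^ 2 + C 0 * X + C 0)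
    (Polynomial.degree_quadratic h1) (Polynomial.degree_quadratic h2) hodd
  simp only [eval_add, eval_mul, eval_C, eval_pow, eval_X, zero_mul, add_zero] at hαβ
  refine ⟨α • v + β • w + u, T.add_mem (T.add_mem (T.smul_mem _ hv) (T.smul_mem _ hw)) hu, fun h0 => ?_, ?_⟩
  · apply h3
    have : n u = -(α • n v) - β • n w := by
      have h4 := congrArg n h0
      rw [map_add, map_add, map_smul, map_smul, map_zero] at h4
      rw [eq_neg_of_add_eq_zero_right h4]
      abel
    rw [this, map_sub, map_neg, map_smul, map_smul, huv, huw]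
    simp
  · have e1 := hsym v w
    have e2 := hsym v u
    have e3 := hsym w u
    rw [hwv] at e1
    rw [huv] at e2
    rw [huw] at e3
    simp only [map_add, map_smul, LinearMap.add_apply, LinearMap.smul_apply, smul_eq_mul, hwv, huv, huw, e1, e2, e3]
    linear_combination hαβ

/-- the corner `GL_(r-1) × Sp_2` -/
theorem corner_pq {B : LinearMap.BilinForm F V} (hB : Alt B) (hN : Nond B) {r : ℕ} {P Q : Submodule F V}
    (hP : Orth B P P) (hQ : Orth B Q Q) (hPQ : P ⊔ Q = ⊤) (hfP : Module.finrank F P = r)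
    {n m : Module.End F V} (hn : n ∈ Skew B Q) (hm : m ∈ Skew B P) {p q : V} (hp : p ∈ P) (hq : q ∈ Q)
    (hpq : B p q = 1) (hpn : B p (n p) = 0) (hqm : B q (m q) = 0) {N : ℕ} {k : ℕ} (hk : k.Coprime N)
    (hx : ∀ P₁ : Submodule F V, Module.finrank F P₁ = r - 1 → ∃ (x : P₁ ≃ₗ[F] P₁) (f : F[X]),
      (∀ v, aeval (x : Module.End F P₁) f v = 0) ∧
      (∀ v, aeval ((x⁻¹ : P₁ ≃ₗ[F] P₁) : Module.End F P₁) f v = 0 → v = 0) ∧ (∀ v, x v = v → v = 0) ∧
      x ^ k = 1) : PrB B N (uni n (skew_sq hn) * uni m (skew_sq hm)) := by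
  let P₁ : Submodule F V := P ⊓ LinearMap.ker (B.flip q)
  let Q₁ : Submodule F V := Q ⊓ LinearMap.ker (B p)
  have hP₁ : ∀ {v}, v ∈ P₁ ↔ v ∈ P ∧ B v q = 0 := fun {v} => Iff.rfl
  have hQ₁ : ∀ {v}, v ∈ Q₁ ↔ v ∈ Q ∧ B p v = 0 := fun {v} => Iff.rfl
  have hoP : Orth B P₁ P₁ := fun a ha b hb => hP a ha.1 b hb.1
  have hoQ : Orth B Q₁ Q₁ := fun a ha b hb => hQ a ha.1 b hb.1
  have hNd : Nd B (P₁ ⊔ Q₁) := by
    intro v hv h0
    obtain ⟨a, ha, b, hb, rfl⟩ := Submodule.mem_sup.1 hv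
    have ha' := hP₁.1 ha
    have hb' := hQ₁.1 hb
    have ha0 : a = 0 := by
      apply eq_zero_of_orth hN hPQ (hP a ha'.1)
      intro w hw
      have hw1 : w - B p w • q ∈ Q₁ := hQ₁.2 ⟨Q.sub_mem hw (Q.smul_mem _ hq), by
        rw [map_sub, map_smul, hpq, smul_eq_mul, mul_one, sub_self]⟩
      have h1 := h0 _ (Submodule.mem_sup_right hw1)
      rw [map_add, LinearMap.add_apply, hQ b hb'.1 _ (hQ₁.1 hw1).1, add_zero, map_sub, map_smul, ha'.2,
        smul_zero, sub_zero] at h1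
      exact h1
    have hb0 : b = 0 := by
      rw [ha0, zero_add] at h0
      apply eq_zero_of_orth hN hPQ _ (hQ b hb'.1)
      intro w hw
      have hw1 : w - B w q • p ∈ P₁ := hP₁.2 ⟨P.sub_mem hw (P.smul_mem _ hp), by
        rw [map_sub, map_smul, LinearMap.sub_apply, LinearMap.smul_apply, hpq, smul_eq_mul, mul_one, sub_self]⟩
      have h1 := h0 _ (Submodule.mem_sup_left hw1)
      rw [map_sub, map_smul, hB.zero hb'.2, smul_zero, sub_zero] at h1
      exact h1
    rw [ha0, hb0, add_zero]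
  have hfP₁ : Module.finrank F P₁ = r - 1 := by
    let θ : P →ₗ[F] F := (B.flip q) ∘ₗ P.subtype
    have h1 := LinearMap.finrank_range_add_finrank_ker θ
    have h3 : LinearMap.range θ = ⊤ := by
      rw [LinearMap.range_eq_top]
      intro c
      refine ⟨c • ⟨p, hp⟩, ?_⟩
      change B (c • p) q = c
      rw [map_smul, LinearMap.smul_apply, hpq, smul_eq_mul, mul_one]
    rw [h3, finrank_top, Module.finrank_self, hfP] at h1
    have h4 : Module.finrank F (LinearMap.ker θ) = Module.finrank F P₁ := by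
      have h5 : (LinearMap.ker θ).map P.subtype = P₁ := by
        ext v
        constructor
        · rintro ⟨w, hw, rfl⟩
          exact ⟨w.2, hw⟩
        · rintro ⟨hv, hv'⟩
          exact ⟨⟨v, hv⟩, hv', rfl⟩
      rw [← h5]
      exact (Submodule.equivMapOfInjective P.subtype P.injective_subtype _).finrank_eq
    omega
  obtain ⟨x, f, hf, hfi, hfix, hxk⟩ := hx P₁ hfP₁
  refine prB_corner hB hN hoP hoQ hNd f hf hfi (Or.inr hfix) hk hxk ?_ ?_
  · refine ⟨skew_iso hQ hn, fun v hv => ?_, fun v hv => ?_⟩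
    · rw [uni_apply, hn.2.1 v hv.1, add_zero]
    · rw [uni_apply, add_sub_cancel_left]
      refine hQ₁.2 ⟨hn.1 v, ?_⟩
      have h1 : n p ∈ Q₁ := hQ₁.2 ⟨hn.1 p, hpn⟩
      have h3 := hn.2.2 p v
      rw [hv _ h1, zero_add] at h3
      exact h3
  · refine ⟨skew_iso hP hm, fun v hv => ?_, fun v hv => ?_⟩
    · rw [uni_apply, hm.2.1 v hv.1, add_zero]
    · rw [uni_apply, add_sub_cancel_left]
      refine hP₁.2 ⟨hm.1 v, ?_⟩
      have h1 : m q ∈ P₁ := hP₁.2 ⟨hm.1 q, hB.zero hqm⟩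
      have h3 := hm.2.2 v q
      rw [hB.zero (hv _ h1), add_zero] at h3
      exact h3

/-- if `U` contains all isotropic vectors of `n` in `P` and `U ≠ P` then `n` kills the isotropic vectors -/
theorem rad_of_iso {B : LinearMap.BilinForm F V} (hB : Alt B) (hN : Nond B) (h2 : (2 : F) ≠ 0)
    {P Q : Submodule F V} (hQ : Orth B Q Q) (hPQ : P ⊔ Q = ⊤) {n : Module.End F V} (hn : n ∈ Skew B Q)
    {U : Submodule F V} (hUP : ¬ P ≤ U) (hU : ∀ v ∈ P, B v (n v) = 0 → v ∈ U) {u : V} (hu : u ∈ P)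
    (hu0 : B u (n u) = 0) : n u = 0 := by
  have hsym : ∀ x y, B x (n y) = B y (n x) := by
    intro x y
    have h1 := hn.2.2 x y
    have h2 : B (n x) y = - B y (n x) := hB.neg _ _
    rw [h2] at h1
    linear_combination h1
  have huU := hU u hu hu0
  -- outside `U`
  have key : ∀ v ∈ P, v ∉ U → B v (n u) = 0 := by
    intro v hv hvU
    by_contra h0
    apply hvU
    set t : F := -(B v (n v)) * (2 * B v (n u))⁻¹ with ht
    have h3 : v + t • u ∈ U := by
      apply hU _ (P.add_mem hv (P.smul_mem _ hu))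
      have e1 := hsym u v
      simp only [map_add, map_smul, LinearMap.add_apply, LinearMap.smul_apply, smul_eq_mul, hu0, e1]
      have h4 : (2 * B v (n u)) ≠ 0 := mul_ne_zero h2 h0
      have h5 : t * (2 * B v (n u)) = - B v (n v) := by
        rw [ht, mul_assoc, inv_mul_cancel₀ h4, mul_one]
      linear_combination h5
    have h4 := U.sub_mem h3 (U.smul_mem t huU)
    rwa [add_sub_cancel_right] at h4
  obtain ⟨v₀, hv₀, hv₀U⟩ := Set.not_subset.1 hUP
  apply eq_zero_of_orth hN hPQ _ (hQ _ (hn.1 u))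
  intro w hw
  apply hB.zero
  by_cases hwU : w ∈ U
  · have h3 := key (v₀ + w) (P.add_mem hv₀ hw) (fun h0 => hv₀U (by
      have := U.sub_mem h0 hwU
      rwa [add_sub_cancel_right] at this))
    rw [map_add, LinearMap.add_apply, key v₀ hv₀ hv₀U, zero_add] at h3
    exact h3
  · exact key w hw hwU

/-- **`C1` isometries in dimension eight** -/
theorem c1_four {B : LinearMap.BilinForm F V} (hB : Alt B) (hN : Nond B) (hodd : Nat.card F % 2 = 1)
    (h2 : (2 : F) ≠ 0) (hV : Module.finrank F V = 8) {g : V ≃ₗ[F] V} (hg : Iso B g) (h : C1 B g)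
    {N k : ℕ} (hk : k.Coprime N)
    (hx : ∀ P₁ : Submodule F V, Module.finrank F P₁ = 3 → ∃ (x : P₁ ≃ₗ[F] P₁) (f : F[X]),
      (∀ v, aeval (x : Module.End F P₁) f v = 0) ∧
      (∀ v, aeval ((x⁻¹ : P₁ ≃ₗ[F] P₁) : Module.End F P₁) f v = 0 → v = 0) ∧ (∀ v, x v = v → v = 0) ∧
      x ^ k = 1) : PrB B N g := by
  obtain ⟨P, Q, hP, hQ, hPQ, hPg⟩ := h
  have hfV := finrank_two hB hN hP hQ hPQ
  have hfPQ := finrank_eq hB hN hP hQ hPQ
  have hfP : Module.finrank F P = 4 := by omega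
  have hfQ : Module.finrank F Q = 4 := by omega
  have hQP : Q ⊔ P = ⊤ := by rw [sup_comm]; exact hPQ
  obtain ⟨n, m, hn, hm, e⟩ := c1_factor hB hN hP hQ hPQ hg hPg
  by_cases hgood : ∃ p ∈ P, ∃ q ∈ Q, B p (n p) = 0 ∧ B q (m q) = 0 ∧ B p q ≠ 0
  · obtain ⟨p, hp, q, hq, hpn, hqm, hpq⟩ := hgood
    rw [e]
    refine corner_pq hB hN hP hQ hPQ hfP hn hm hp (Q.smul_mem (B p q)⁻¹ hq) ?_ hpn ?_ hk hx
    · rw [map_smul, smul_eq_mul, inv_mul_cancel₀ hpq]
    · rw [map_smul m, map_smul B, LinearMap.smul_apply, map_smul, hqm, smul_zero, smul_zero]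
  push Not at hgood
  let U : Submodule F V := Submodule.span F {v | v ∈ P ∧ B v (n v) = 0}
  let W : Submodule F V := Submodule.span F {v | v ∈ Q ∧ B v (m v) = 0}
  have hUP : U ≤ P := Submodule.span_le.2 fun v hv => hv.1
  have hWQ : W ≤ Q := Submodule.span_le.2 fun v hv => hv.1
  have hUW : Orth B U W := by
    intro x hx y hy
    induction hx using Submodule.span_induction with
    | mem x hx =>
      induction hy using Submodule.span_induction with
      | mem y hy => exact hgood x hx.1 y hy.1 hx.2 hy.2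
      | zero => exact map_zero _
      | add y z _ _ h3 h4 => rw [map_add, h3, h4, add_zero]
      | smul c y _ h3 => rw [map_smul, h3, smul_zero]
    | zero => rw [map_zero, LinearMap.zero_apply]
    | add y z _ _ h3 h4 => rw [map_add, LinearMap.add_apply, h3, h4, add_zero]
    | smul c y _ h3 => rw [map_smul, LinearMap.smul_apply, h3, smul_zero]
  -- dimension at least two
  have hdim : ∀ (P : Submodule F V) (n : Module.End F V), (∀ x y, B (n x) y + B x (n y) = 0) →
      Module.finrank F P = 4 → 2 ≤ Module.finrank F (Submodule.span F {v | v ∈ P ∧ B v (n v) = 0}) := by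
    intro P n hn hfP
    set U : Submodule F V := Submodule.span F {v | v ∈ P ∧ B v (n v) = 0} with hU
    have hUP : U ≤ P := Submodule.span_le.2 fun v hv => hv.1
    by_contra hlt
    obtain ⟨T', hT'⟩ := Submodule.exists_isCompl (U.comap P.subtype)
    have h3 := Submodule.finrank_add_eq_of_isCompl hT'
    have h4 : Module.finrank F (U.comap P.subtype) = Module.finrank F U :=
      (Submodule.comapSubtypeEquivOfLe hUP).finrank_eq
    have h5 : Module.finrank F (T'.map P.subtype) = Module.finrank F T' :=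
      (Submodule.equivMapOfInjective P.subtype P.injective_subtype T').finrank_eq.symm
    obtain ⟨v, hv, hv0, hv1⟩ := exists_iso_vec hB hodd hn (T := T'.map P.subtype) (by omega)
    obtain ⟨w, hw, rfl⟩ := hv
    have h6 : w ∈ U.comap P.subtype := Submodule.subset_span ⟨w.2, hv1⟩
    have h7 := Submodule.disjoint_def.1 hT'.disjoint w h6 hw
    exact hv0 (by rw [h7]; rfl)
  have hfU : 2 ≤ Module.finrank F U := hdim P n hn.2.2 hfP
  have hfW : 2 ≤ Module.finrank F W := hdim Q m hm.2.2 hfQ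
  -- `P` is not contained in `U`
  have hne : ∀ {P Q U W : Submodule F V}, Orth B Q Q → P ⊔ Q = ⊤ → W ≤ Q → Orth B U W →
      2 ≤ Module.finrank F W → ¬ P ≤ U := by
    intro P Q U W hQ hPQ hWQ hUW hfW hle
    have : W = ⊥ := by
      rw [Submodule.eq_bot_iff]
      intro w hw
      exact eq_zero_of_orth hN hPQ (fun x hx => hB.zero (hUW x (hle hx) w hw)) (fun x hx => hQ w (hWQ hw) x hx)
    rw [this, finrank_bot] at hfW
    omega
  have hnU : ∀ v ∈ P, B v (n v) = 0 → n v = 0 := fun v hv hv0 =>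
    rad_of_iso hB hN h2 hQ hPQ hn (hne hQ hPQ hWQ hUW hfW)
      (fun v hv hv0 => Submodule.subset_span ⟨hv, hv0⟩) hv hv0
  have hmW : ∀ v ∈ Q, B v (m v) = 0 → m v = 0 := fun v hv hv0 =>
    rad_of_iso hB hN h2 hP hQP hm (hne hP hQP hUP (hUW.symm hB) hfU)
      (fun v hv hv0 => Submodule.subset_span ⟨hv, hv0⟩) hv hv0
  have hgfix : ∀ v ∈ U ⊔ W, g v = v := by
    have h3 : ∀ v ∈ U, n v = 0 := by
      intro v hv
      induction hv using Submodule.span_induction with
      | mem x hx => exact hnU x hx.1 hx.2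
      | zero => exact map_zero _
      | add y z _ _ h3 h4 => rw [map_add, h3, h4, add_zero]
      | smul c y _ h3 => rw [map_smul, h3, smul_zero]
    have h4 : ∀ v ∈ W, m v = 0 := by
      intro v hv
      induction hv using Submodule.span_induction with
      | mem x hx => exact hmW x hx.1 hx.2
      | zero => exact map_zero _
      | add y z _ _ h3 h4 => rw [map_add, h3, h4, add_zero]
      | smul c y _ h3 => rw [map_smul, h3, smul_zero]
    intro v hv
    obtain ⟨x, hx, y, hy, rfl⟩ := Submodule.mem_sup.1 hv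
    rw [e, LinearEquiv.mul_apply, uni_apply (z := m), map_add m, hm.2.1 x (hUP hx), h4 y hy, add_zero, add_zero,
      uni_apply, map_add n, h3 x hx, hn.2.1 y (hWQ hy), add_zero, add_zero]
  -- complements
  obtain ⟨T', hT'⟩ := Submodule.exists_isCompl (U.comap P.subtype)
  have hfT := Submodule.finrank_add_eq_of_isCompl hT'
  have hfU' : Module.finrank F (U.comap P.subtype) = Module.finrank F U :=
    (Submodule.comapSubtypeEquivOfLe hUP).finrank_eq
  set U' : Submodule F V := T'.map P.subtype with hU'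
  have hfU'' : Module.finrank F U' = Module.finrank F T' :=
    (Submodule.equivMapOfInjective P.subtype P.injective_subtype T').finrank_eq.symm
  have hU'P : U' ≤ P := Submodule.map_subtype_le P T'
  have hPU : P ≤ U ⊔ U' := by
    intro v hv
    obtain ⟨x, hx, y, hy, hxy⟩ := Submodule.mem_sup.1 (show (⟨v, hv⟩ : P) ∈ (U.comap P.subtype) ⊔ T' by
      rw [hT'.sup_eq_top]; trivial)
    have : v = x + y := (congrArg Subtype.val hxy).symm
    rw [this]
    exact Submodule.add_mem_sup hx ⟨y, hy, rfl⟩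
  let W' : Submodule F V := Q ⊓ perp B U'
  have hW'Q : W' ≤ Q := inf_le_left
  have hU'W' : Orth B U' W' := fun x hx y hy => hy.2 x hx
  have hWW' : W ⊓ W' = ⊥ := by
    rw [Submodule.eq_bot_iff]
    rintro w ⟨hw, hw'⟩
    apply eq_zero_of_orth hN hPQ _ (hQ w (hWQ hw))
    intro x hx
    obtain ⟨a, ha, b, hb, rfl⟩ := Submodule.mem_sup.1 (hPU hx)
    rw [map_add, hB.zero (hUW a ha w hw), hB.zero (hw'.2 b hb), add_zero]
  have hfW' : 4 ≤ Module.finrank F W' + Module.finrank F T' := by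
    let θ : Q →ₗ[F] Module.Dual F U' := (B.compl₁₂ U'.subtype Q.subtype).flip
    have h3 := LinearMap.finrank_range_add_finrank_ker θ
    have h4 : Module.finrank F (LinearMap.range θ) ≤ Module.finrank F (Module.Dual F U') :=
      Submodule.finrank_le _
    rw [Subspace.dual_finrank_eq] at h4
    have h5 : Module.finrank F (LinearMap.ker θ) = Module.finrank F W' := by
      have h6 : (LinearMap.ker θ).map Q.subtype = W' := by
        ext v
        constructor
        · rintro ⟨w, hw, rfl⟩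
          refine ⟨w.2, fun x hx => ?_⟩
          exact LinearMap.congr_fun (LinearMap.mem_ker.1 hw) ⟨x, hx⟩
        · rintro ⟨hv, hv'⟩
          refine ⟨⟨v, hv⟩, LinearMap.mem_ker.2 (LinearMap.ext fun x => hv' x x.2), rfl⟩
      rw [← h6]
      exact (Submodule.equivMapOfInjective Q.subtype Q.injective_subtype _).finrank_eq
    omega
  have hQW : Q = W ⊔ W' := by
    symm
    apply Submodule.eq_of_le_of_finrank_le (sup_le hWQ hW'Q)
    have h3 := Submodule.finrank_sup_add_finrank_inf_eq W W'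
    rw [hWW', finrank_bot] at h3
    -- `dim U + dim W ≤ 4`
    have h4 : Module.finrank F U + Module.finrank F W ≤ 4 := by
      let θ : W →ₗ[F] Module.Dual F U' := (B.compl₁₂ U'.subtype W.subtype).flip
      have h5 : Function.Injective θ := by
        rw [← LinearMap.ker_eq_bot, LinearMap.ker_eq_bot']
        rintro ⟨w, hw⟩ h0
        apply Subtype.ext
        apply eq_zero_of_orth hN hPQ _ (hQ w (hWQ hw))
        intro x hx
        obtain ⟨a, ha, b, hb, rfl⟩ := Submodule.mem_sup.1 (hPU hx)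
        rw [map_add, hB.zero (hUW a ha w hw), zero_add]
        exact hB.zero (LinearMap.congr_fun h0 ⟨b, hb⟩)
      have h6 := LinearMap.finrank_le_finrank_of_injective h5
      rw [Subspace.dual_finrank_eq] at h6
      omega
    omega
  -- the new pair
  set P' : Submodule F V := U' ⊔ W' with hP'
  set Q' : Submodule F V := U ⊔ W with hQ'
  have oP' : Orth B P' P' := isotropic_sup hB (fun x hx y hy => hP x (hU'P hx) y (hU'P hy))
    (fun x hx y hy => hQ x (hW'Q hx) y (hW'Q hy)) hU'W'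
  have oQ' : Orth B Q' Q' := isotropic_sup hB (fun x hx y hy => hP x (hUP hx) y (hUP hy))
    (fun x hx y hy => hQ x (hWQ hx) y (hWQ hy)) hUW
  have hPQ' : P' ⊔ Q' = ⊤ := by
    rw [eq_top_iff, ← hPQ]
    refine sup_le (hPU.trans (sup_le ?_ ?_)) ?_
    · exact le_sup_left.trans le_sup_right
    · exact le_sup_left.trans le_sup_left
    · rw [hQW]
      exact sup_le (le_sup_right.trans le_sup_right) (le_sup_right.trans le_sup_left)
  have hfP' : Module.finrank F P' = 4 := by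
    have := finrank_two hB hN oP' oQ' hPQ'
    omega
  have hg' : ∀ v ∈ P', g v - v ∈ Q' := by
    intro v _
    apply mem_of_orth hN oQ' oP' (by rw [sup_comm]; exact hPQ')
    intro w hw
    rw [map_sub, LinearMap.sub_apply, sub_eq_zero]
    nth_rewrite 1 [← hgfix w hw]
    exact hg v w
  obtain ⟨n', m', hn', hm', e'⟩ := c1_factor hB hN oP' oQ' hPQ' hg hg'
  have hm0 : ∀ q ∈ Q', m' q = 0 := by
    intro q hq
    have h3 := hgfix q hq
    rw [e', LinearEquiv.mul_apply, uni_apply (z := m'), uni_apply, map_add n', hn'.2.1 q hq, zero_add] at h3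
    have h4 : m' q + n' (m' q) = 0 := by
      have : q + (m' q + n' (m' q)) = q + 0 := by rw [add_zero]; rw [← add_assoc]; exact h3
      exact add_left_cancel this
    have hc := isCompl_of hN oP' oQ' hPQ'
    exact Submodule.disjoint_def.1 hc.disjoint _ (hm'.1 q) (by
      rw [eq_neg_of_add_eq_zero_left h4]
      exact Q'.neg_mem (hn'.1 _))
  obtain ⟨p, hp, hp0, hpn⟩ := exists_iso_vec hB hodd hn'.2.2 (T := P') (by omega)
  obtain ⟨q, hq, hpq⟩ : ∃ q ∈ Q', B p q ≠ 0 := by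
    by_contra hcon
    push Not at hcon
    exact hp0 (eq_zero_of_orth hN hPQ' (oP' p hp) hcon)
  rw [e']
  refine corner_pq hB hN oP' oQ' hPQ' hfP' hn' hm' hp (Q'.smul_mem (B p q)⁻¹ hq) ?_ hpn ?_ hk hx
  · rw [map_smul, smul_eq_mul, inv_mul_cancel₀ hpq]
  · rw [hm0 _ (Q'.smul_mem _ hq), map_zero]

end

end Cfsg.Agent.H649.PwSp
end
end

-- part: H649/PwSp/Eight
section
/-!
# Symplectic groups in characteristic three: `All 6` of `PSp_8(3^k)`
-/

set_option autoImplicit false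
open Polynomial

noncomputable section

namespace Cfsg.Agent.H649.PwSp

open Cfsg.Agent.H144 Cfsg.Agent.H934.MF

variable {F V : Type*} [Field F] [Finite F] [CharP F 3] [AddCommGroup V] [Module F V] [FiniteDimensional F V]

omit [Finite F] in
theorem fj_one : Fac (F1.map (ι3 F)) (F2.map (ι3 F)) kk ((jj F).prodMap (std F 1 0)) := by
  let e : ((F × F) × ((Fin 1 → F) × (Fin 0 → F))) ≃ₗ[F] ((F × F) × F) :=
    { toFun := fun v => (v.1, v.2.1 0)
      map_add' := fun v w => rfl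
      map_smul' := fun c v => rfl
      invFun := fun v => (v.1, (fun _ => v.2, 0))
      left_inv := fun v => by
        obtain ⟨v, w, u⟩ := v
        refine Prod.ext rfl (Prod.ext ?_ (Subsingleton.elim _ _))
        ext i
        rw [Subsingleton.elim i 0]
      right_inv := fun v => rfl }
  exact (fj F).conj e (fun v => rfl)

/-- **Dimension six, with the sign `+`** -/
theorem t3_plus {B : LinearMap.BilinForm F V} (hB : Alt B) (hN : Nond B)
    (hV : Module.finrank F V = 6) {g : V ≃ₗ[F] V} (hg : Iso B g) (hne : ∃ v, g v ≠ -v) : PrB B 6 g := by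
  have h3 : (3 : F) = 0 := by exact_mod_cast CharP.cast_eq_zero F 3
  have h2 : (2 : F) ≠ 0 := by
    intro h0
    have : (1 : F) = 0 := by linear_combination h3 - h0
    exact one_ne_zero this
  obtain ⟨R, S, o, iR, iS, nR, nS, htop, cR, cS⟩ :=
    exists_dec2 hB hg (Module.finrank F (⊤ : Submodule F V)) ⊤ (fun v _ => trivial)
      (fun v _ h => hN v (fun w => h w trivial)) rfl
  obtain ⟨a, ha⟩ := rank_of_c1 hB nR iR cR
  obtain ⟨b, hb⟩ := rank_of_c1 hB nS (inv_ng iS) cS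
  have hd : Disjoint R S := by
    rw [Submodule.disjoint_def]
    intro t ht ht'
    exact nR t ht (fun u hu => hB.zero (o u hu t ht'))
  have hab : a + b = 3 := by
    have h1 := Submodule.finrank_sup_add_finrank_inf_eq R S
    rw [htop, hd.eq_bot, finrank_top, finrank_bot, hV, ha, hb] at h1
    omega
  have iS' := inv_ng iS
  have dS : DatOn B g S 0 b := by
    have := (dat_c1 hB nS iS' hb cS).neg
    rwa [ng_ng] at this
  have dR : DatOn B g R a 0 := dat_c1 hB nR iR ha cR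
  have fin12 : DatOn B g ⊤ 1 2 → PrB B 6 g := fun h => prB_dat hB hN hg h (cop_map F) kk_cop (fd_D12 F)
  have fin30 : DatOn B g ⊤ 3 0 → PrB B 6 g := fun h => prB_dat hB hN hg h (cop_map F) kk_cop (fd_D30 F)
  rcases (show (a = 3 ∧ b = 0) ∨ (a = 2 ∧ b = 1) ∨ (a = 1 ∧ b = 2) ∨ (a = 0 ∧ b = 3) by (clear * - hab; omega))
    with ⟨rfl, rfl⟩ | ⟨rfl, rfl⟩ | ⟨rfl, rfl⟩ | ⟨rfl, rfl⟩
  · apply fin30
    have h1 := DatOn.sup hB o hd dR dS
    rwa [htop] at h1
  · by_cases hcR : ∃ v ∈ R, g v ≠ v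
    · apply fin12
      have h1 := DatOn.sup hB o hd (dat_refl hB h2 hg nR iR ha cR hcR) dS
      rwa [htop] at h1
    by_cases hcS : ∃ v ∈ S, ng g v ≠ v
    · apply fin30
      have h0 := (dat_refl hB h2 (ng_iso hg) nS iS' hb cS hcS).neg
      rw [ng_ng] at h0
      have h1 := DatOn.sup hB o hd dR h0
      rwa [htop] at h1
    push Not at hcR hcS
    have gS : ∀ v ∈ S, g v = -v := by
      intro v hv
      have := hcS v hv
      rw [ng_apply] at this
      rw [← this, neg_neg, this]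
    exact prB_mixed hB hN h3 hg o nR nS iR iS' htop hcR gS cR cS (a := 1) (b := 0) ha hb (cop_map F) kk_cop
      fj_one
  · apply fin12
    have h1 := DatOn.sup hB o hd dR dS
    rwa [htop] at h1
  · have hR0 : R = ⊥ := Submodule.finrank_eq_zero.1 ha
    have hS1 : S = ⊤ := by rw [hR0, bot_sup_eq] at htop; exact htop
    have hcS : ∃ v ∈ S, ng g v ≠ v := by
      obtain ⟨v, hv⟩ := hne
      refine ⟨v, by rw [hS1]; trivial, fun h0 => hv ?_⟩
      rw [ng_apply] at h0
      rw [← h0, neg_neg, h0]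
    apply fin12
    have h0 := (dat_refl hB h2 (ng_iso hg) nS iS' hb cS hcS).neg
    rw [ng_ng] at h0
    rwa [hS1] at h0

/-- glue with the identity of a plane -/
theorem prB_id_plane {B : LinearMap.BilinForm F V} (hB : Alt B) (hN : Nond B)
    (hV : Module.finrank F V = 8) {g : V ≃ₗ[F] V} (hg : Iso B g) {H : Submodule F V} (nH : Nd B H) (iH : _root_.Cfsg.Agent.H144.Inv g H)
    (hf : Module.finrank F H = 2) (hgH : ∀ v ∈ H, g v = v) (hne : ∃ v ∈ perp B H, g v ≠ -v) : PrB B 6 g := by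
  refine PrB.glue hB hN nH iH (inv_perp hg iH) ?_ ?_
  · refine ⟨1, 1, 1, Iso.one _, Iso.one _, ?_, by norm_num, one_pow _, one_pow _⟩
    apply LinearEquiv.ext
    intro v
    exact Subtype.ext (hgH v v.2)
  · refine t3_plus (restrict_alt hB _) (restrict_nond (nd_perp hB hN nH)) ?_ (gr_iso hg _ _) ?_
    · have := Submodule.finrank_add_eq_of_isCompl (isCompl_perp hB nH)
      omega
    · obtain ⟨v, hv, hv0⟩ := hne
      exact ⟨⟨v, hv⟩, fun h0 => hv0 (congrArg Subtype.val h0)⟩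

theorem prB_id_plane' {B : LinearMap.BilinForm F V} (hB : Alt B) (hN : Nond B)
    (hV : Module.finrank F V = 8) {g : V ≃ₗ[F] V} (hg : Iso B g) {H : Submodule F V} (nH : Nd B H) (iH : _root_.Cfsg.Agent.H144.Inv g H)
    (hf : Module.finrank F H = 2) (hgH : ∀ v ∈ H, g v = v) : PrB B 6 g ∨ PrB B 6 (ng g) := by
  by_cases hne : ∃ v ∈ perp B H, g v ≠ -v
  · exact Or.inl (prB_id_plane hB hN hV hg nH iH hf hgH hne)
  push Not at hne
  right
  have h3 : (3 : F) = 0 := by exact_mod_cast CharP.cast_eq_zero F 3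
  have h2 : (2 : F) ≠ 0 := by
    intro h0
    have : (1 : F) = 0 := by linear_combination h3 - h0
    exact one_ne_zero this
  have hfp : Module.finrank F (perp B H) = 6 := by
    have := Submodule.finrank_add_eq_of_isCompl (isCompl_perp hB nH)
    omega
  have nP := nd_perp hB hN nH
  -- a hyperbolic plane of `perp H`
  obtain ⟨v, hv, hv0⟩ := Submodule.exists_mem_ne_zero_of_ne_bot (p := perp B H) (by
    intro h0; rw [h0, finrank_bot] at hfp; omega)
  obtain ⟨w, hw, hvw⟩ : ∃ w ∈ perp B H, B v w ≠ 0 := by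
    by_contra hcon
    push Not at hcon
    exact hv0 (nP v hv hcon)
  set H' : Submodule F V := Submodule.span F {v, w} with hH'
  have hmem : ∀ x, x ∈ H' ↔ ∃ c d : F, c • v + d • w = x := fun x => Submodule.mem_span_pair
  have hH'P : H' ≤ perp B H := by
    rw [hH', Submodule.span_le]
    rintro x (rfl | rfl)
    · exact hv
    · exact hw
  have hwv : B w v = - B v w := hB.neg _ _
  have nH' : Nd B H' := by
    intro x hx h0
    obtain ⟨c, d, rfl⟩ := (hmem x).1 hx
    have h4 := h0 v (Submodule.subset_span (by simp))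
    have h5 := h0 w (Submodule.subset_span (by simp))
    simp only [map_add, map_smul, LinearMap.add_apply, LinearMap.smul_apply, smul_eq_mul, hB v, hB w, hwv,
      mul_zero, zero_add, add_zero, mul_neg, neg_eq_zero] at h4 h5
    rw [(mul_eq_zero.1 h4).resolve_right hvw, (mul_eq_zero.1 h5).resolve_right hvw, zero_smul, zero_smul, add_zero]
  have hf' : Module.finrank F H' = 2 := by
    have hli : LinearIndependent F ![v, w] := by
      rw [LinearIndependent.pair_iff]
      intro c d hcd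
      have h4 := congrArg (fun t => B t w) hcd
      have h5 := congrArg (fun t => B t v) hcd
      simp only [map_add, map_smul, LinearMap.add_apply, LinearMap.smul_apply, smul_eq_mul, hB v, hB w, hwv,
        mul_zero, zero_add, add_zero, mul_neg, neg_eq_zero, map_zero, LinearMap.zero_apply] at h4 h5
      exact ⟨(mul_eq_zero.1 h4).resolve_right hvw, (mul_eq_zero.1 h5).resolve_right hvw⟩
    have := finrank_span_eq_card hli
    rw [Matrix.range_cons, Matrix.range_cons, Matrix.range_empty, Set.union_empty] at this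
    rw [hH', Set.insert_eq]
    simpa using this
  have hgH' : ∀ x ∈ H', ng g x = x := by
    intro x hx
    rw [ng_apply, hne x (hH'P hx), neg_neg]
  have iH' : _root_.Cfsg.Agent.H144.Inv (ng g) H' := fun x hx => by rw [hgH' x hx]; exact hx
  refine prB_id_plane hB hN hV (ng_iso hg) nH' iH' hf' hgH' ?_
  obtain ⟨u, hu, hu0⟩ : ∃ u ∈ perp B H ⊓ perp B H', u ≠ 0 := by
    apply Submodule.exists_mem_ne_zero_of_ne_bot
    intro h0
    have e1 := Submodule.finrank_sup_add_finrank_inf_eq (perp B H) (perp B H')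
    have e2 := Submodule.finrank_add_eq_of_isCompl (isCompl_perp hB nH')
    have e3 := Submodule.finrank_le (perp B H ⊔ perp B H')
    rw [h0, finrank_bot] at e1
    omega
  refine ⟨u, hu.2, ?_⟩
  rw [ng_apply, hne u hu.1, neg_neg]
  intro h0
  apply hu0
  have h4 : (2 : F) • u = 0 := by
    rw [two_smul]
    nth_rewrite 1 [h0]
    exact neg_add_cancel u
  exact (smul_eq_zero.1 h4).resolve_left h2

/-- a plane: `g = 1` or `-g` is `C1` -/
theorem plane_cases {B : LinearMap.BilinForm F V} (hB : Alt B) {g : V ≃ₗ[F] V} (hg : Iso B g)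
    {H : Submodule F V} (nH : Nd B H) (iH : _root_.Cfsg.Agent.H144.Inv g H) (hf : Module.finrank F H = 2) :
    (∀ v ∈ H, g v = v) ∨ C1On B (ng g) H := by
  obtain ⟨R, S, o, iR, iS, nR, nS, htop, cR, cS⟩ := exists_dec2 hB hg (Module.finrank F H) H iH nH rfl
  obtain ⟨a, ha⟩ := rank_of_c1 hB nR iR cR
  obtain ⟨b, hb⟩ := rank_of_c1 hB nS (inv_ng iS) cS
  have hd : Disjoint R S := by
    rw [Submodule.disjoint_def]
    intro t ht ht'
    exact nR t ht (fun u hu => hB.zero (o u hu t ht'))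
  have hab : a + b = 1 := by
    have h1 := Submodule.finrank_sup_add_finrank_inf_eq R S
    rw [htop, hd.eq_bot, finrank_bot, hf, ha, hb] at h1
    omega
  rcases (show (a = 1 ∧ b = 0) ∨ (a = 0 ∧ b = 1) by (clear * - hab; omega)) with ⟨rfl, rfl⟩ | ⟨rfl, rfl⟩
  · have hS0 : S = ⊥ := Submodule.finrank_eq_zero.1 hb
    rw [hS0, sup_bot_eq] at htop
    subst htop
    by_cases h1 : ∀ v ∈ R, g v = v
    · exact Or.inl h1
    · right
      obtain ⟨v, hv, hgv⟩ := exists_nonscalar nH iH hf cR h1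
      exact c1On_neg hB iH hf hv hgv
  · have hR0 : R = ⊥ := Submodule.finrank_eq_zero.1 ha
    rw [hR0, bot_sup_eq] at htop
    subst htop
    exact Or.inr cS

omit [Finite F] in
theorem exists_x3 {P₁ : Type*} [AddCommGroup P₁] [Module F P₁] [FiniteDimensional F P₁]
    (h : Module.finrank F P₁ = 3) : ∃ (x : P₁ ≃ₗ[F] P₁) (f : F[X]),
      (∀ v, aeval (x : Module.End F P₁) f v = 0) ∧
      (∀ v, aeval ((x⁻¹ : P₁ ≃ₗ[F] P₁) : Module.End F P₁) f v = 0 → v = 0) ∧ (∀ v, x v = v → v = 0) ∧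
      x ^ kk = 1 := by
  have hf : Fac (F1.map (ι3 F)) (F2.map (ι3 F)) kk (LinearMap.id : P₁ →ₗ[F] P₁) := by
    let e : P₁ ≃ₗ[F] ((Fin 3 → F) × (Fin 0 → F)) := LinearEquiv.ofFinrankEq _ _ (by simp [h])
    refine (fd_D30 F).conj e (fun v => ?_)
    change e v = ((e v).1, -(e v).2)
    refine Prod.ext rfl (Subsingleton.elim _ _)
  obtain ⟨x, y, _, h1, h2, _, _, h5, _⟩ := hf
  refine ⟨x, F1.map (ι3 F), h1, fun v hv => inj_of_cop (cop_map F) h2 v hv, fun v hv => ?_, h5⟩
  have h6 := h1 v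
  rw [aeval_fix hv] at h6
  refine (smul_eq_zero.1 h6).resolve_left ?_
  rw [eval_map, eval₂_at_one, ← map_zero (ι3 F)]
  intro h7
  have h8 := (ι3 F).injective h7
  have h9 : eval 1 F1 = 2 := by
    rw [F1_eq]
    simp only [eval_mul, toP, l3, l5, l7]
    simp only [_root_.map_zero, _root_.map_one, _root_.MulZeroClass.mul_zero, _root_.add_zero, _root_.mul_one, _root_.zero_add, _root_.Polynomial.eval_add, _root_.Polynomial.eval_C, _root_.Polynomial.eval_mul, _root_.Polynomial.eval_X, _root_.Polynomial.eval_one, _root_.one_mul]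
    decide
  rw [h9] at h8
  exact absurd h8 (by decide)

theorem prB_c1_eight {B : LinearMap.BilinForm F V} (hB : Alt B) (hN : Nond B)
    (hV : Module.finrank F V = 8) {g : V ≃ₗ[F] V} (hg : Iso B g) (h : C1 B g) : PrB B 6 g := by
  have h3 : (3 : F) = 0 := by exact_mod_cast CharP.cast_eq_zero F 3
  have h2 : (2 : F) ≠ 0 := by
    intro h0
    have : (1 : F) = 0 := by linear_combination h3 - h0
    exact one_ne_zero this
  have hodd : Nat.card F % 2 = 1 := by
    have : Fintype F := Fintype.ofFinite F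
    rw [Nat.card_eq_fintype_card]
    apply FiniteField.odd_card_of_char_ne_two
    intro h0
    apply h2
    have := ringChar.Nat.cast_ringChar (R := F)
    rw [h0] at this
    exact_mod_cast this
  exact c1_four hB hN hodd h2 hV hg h kk_cop (fun P₁ hP₁ => exists_x3 hP₁)

/-- **Dimension eight.** -/
theorem prB_eight {B : LinearMap.BilinForm F V} (hB : Alt B) (hN : Nond B)
    (hV : Module.finrank F V = 8) {g : V ≃ₗ[F] V} (hg : Iso B g) : PrB B 6 g ∨ PrB B 6 (ng g) := by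
  obtain ⟨P, Q, R, o1, o2, o3, i1, i2, i3, n1, n2, n3, hsup, hC, hex, hR⟩ :=
    exists_dec hB hg (Module.finrank F (⊤ : Submodule F V)) ⊤ (fun v _ => trivial)
      (fun v _ h => hN v (fun w => h w trivial)) rfl
  have c1top : ∀ {h : V ≃ₗ[F] V} {T : Submodule F V}, T = ⊤ → C1On B h T → C1 B h := by
    rintro h T rfl ⟨W, W', h1, h2, h3, h4⟩
    exact ⟨W, W', h1, h2, h3, h4⟩
  rcases hex with ⟨h3, h4⟩ | ⟨h3, hQI, hE1, a, ha, ha0, _⟩
  · rw [h3, h4, sup_bot_eq, sup_bot_eq] at hsup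
    exact Or.inl (prB_c1_eight hB hN hV hg (c1top hsup hC))
  have hle := Submodule.finrank_le Q
  have hf2 := Submodule.finrank_add_eq_of_isCompl (isCompl_perp hB n2)
  rcases (show a = 0 ∨ a = 1 by omega) with rfl | rfl
  · have hgQ : ∀ v ∈ Q, ng g v = v := fun v hv => congrArg Subtype.val (ha0 rfl ⟨v, hv⟩)
    have := prB_id_plane' hB hN hV (ng_iso hg) n2 (inv_ng hQI) ha hgQ
    rw [ng_ng] at this
    exact this.symm
  · have iH := inv_perp hg hQI
    have nH := nd_perp hB hN n2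
    rcases plane_cases hB hg nH iH (by omega) with h5 | h5
    · exact prB_id_plane' hB hN hV hg nH iH (by omega) h5
    · right
      have hCQ : C1On B (ng g) Q := by
        apply c1On_of_c1 (inv_ng hQI)
        have : gr (ng g) Q (inv_ng hQI) = ng (gr g Q hQI) := by
          ext w
          rfl
        rw [this]
        exact hE1
      have h6 := C1On.sup hB (orth_perp Q) hCQ h5
      exact prB_c1_eight hB hN hV (ng_iso hg) (c1top (sup_perp hB n2) h6)

/-- **`PSp_8(3^k)`** -/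
theorem six_psp_eight {F : Type*} [Field F] [Fintype F] [CharP F 3] : H78.Pw.All 6 (PSp 4 F) := by
  intro x
  obtain ⟨g, rfl⟩ := QuotientGroup.mk'_surjective _ x
  have hV : Module.finrank F (Fin 4 ⊕ Fin 4 → F) = 8 := by
    rw [Module.finrank_fintype_fun_eq_card, Fintype.card_sum, Fintype.card_fin]
  rcases prB_eight Cfsg.Agent.S2445.form_alt Cfsg.Agent.S2445.form_nond hV
    (Cfsg.Agent.S2445.act_iso g) with h | h
  · exact (pr_of_prB h).map _
  · have := (pr_mk h).map (QuotientGroup.mk' (Subgroup.center (Matrix.symplecticGroup (Fin 4) F)))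
    rwa [neg_mk] at this

/-- **`PSp_2m(3^k)`, `m ≥ 3`** -/
theorem six_psp_three' {F : Type*} [Field F] [Fintype F] [CharP F 3] (m : ℕ) (h3 : 3 ≤ m) :
    H78.Pw.All 6 (PSp m F) := by
  by_cases h4 : m = 4
  · subst h4
    exact six_psp_eight
  · exact six_psp_three m h3 h4

end Cfsg.Agent.H649.PwSp
end
end

-- part: H649/PwSp/RankTwo
section
/-!
# `All 6` of `PSp_4(3^k)`, `k ≥ 3`
-/

set_option autoImplicit false
open Polynomial

noncomputable section

namespace Cfsg.Agent.H649.PwSp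

open Cfsg.Agent.H144

/-- `3 ^ e - 1` is not a power of two for `e ≥ 3` -/
theorem exists_factor3 {e : ℕ} (he : 3 ≤ e) : ∃ j k : ℕ, 3 ^ e - 1 = 2 ^ j * k ∧ k.Coprime 6 ∧ 3 ≤ k := by
  have hpos : 27 ≤ 3 ^ e := by
    calc 27 = 3 ^ 3 := by norm_num
      _ ≤ 3 ^ e := Nat.pow_le_pow_right (by norm_num) he
  obtain ⟨j, k, hk, hjk⟩ := Nat.exists_eq_pow_mul_and_not_dvd (n := 3 ^ e - 1) (by omega) 2 (by norm_num)
  have h3 : 3 ∣ 3 ^ e := dvd_pow_self 3 (by omega)
  have hk3 : ¬ 3 ∣ k := by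
    rintro ⟨c, rfl⟩
    rw [show 2 ^ j * (3 * c) = 3 * (2 ^ j * c) by ring] at hjk
    omega
  refine ⟨j, k, hjk, ?_, ?_⟩
  · rw [show (6 : ℕ) = 2 * 3 by rfl]
    apply Nat.Coprime.mul_right
    · rw [Nat.coprime_comm, Nat.Prime.coprime_iff_not_dvd Nat.prime_two]
      exact hk
    · rw [Nat.coprime_comm, Nat.Prime.coprime_iff_not_dvd Nat.prime_three]
      exact hk3
  · by_contra hlt
    have h4 : k = 0 ∨ k = 1 ∨ k = 2 := by omega
    rcases h4 with rfl | rfl | rfl
    · simp at hk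
    · rw [mul_one] at hjk
      have hj : 4 ≤ j := by
        by_contra hj
        have : 2 ^ j ≤ 2 ^ 3 := Nat.pow_le_pow_right (by norm_num) (by omega)
        omega
      have h16 : 16 ∣ 2 ^ j := by
        rw [show (16 : ℕ) = 2 ^ 4 by norm_num]
        exact pow_dvd_pow 2 hj
      have h81 : ∀ t : ℕ, 81 ^ t % 80 = 1 := by
        intro t
        induction t with
        | zero => norm_num
        | succ t ih => rw [pow_succ, Nat.mul_mod, ih]
      have hmod : 3 ^ e % 80 = 3 ^ (e % 4) % 80 := by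
        conv_lhs => rw [← Nat.div_add_mod e 4, pow_add, pow_mul]
        rw [Nat.mul_mod, show (3 : ℕ) ^ 4 = 81 by norm_num, h81, one_mul, Nat.mod_mod]
      have hr : e % 4 = 0 ∨ e % 4 = 1 ∨ e % 4 = 2 ∨ e % 4 = 3 := by omega
      rcases hr with h | h | h | h <;> rw [h] at hmod <;> norm_num at hmod
      · have h5 : 5 ∣ 2 ^ j := by (clear * - hjk hmod; omega)
        have := (Nat.Prime.dvd_of_dvd_pow (by norm_num) h5)
        omega
      · (clear * - hpos hjk h16 hmod; omega)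
      · (clear * - hpos hjk h16 hmod; omega)
      · (clear * - hpos hjk h16 hmod; omega)
    · omega

theorem exists_nu {F : Type*} [Field F] [Fintype F] [CharP F 3] (h27 : 27 ≤ Fintype.card F) :
    ∃ (a : F) (k : ℕ), a ≠ 0 ∧ a ≠ 1 ∧ a ^ k = 1 ∧ k.Coprime 6 := by
  have : Fact (Nat.Prime 3) := ⟨Nat.prime_three⟩
  obtain ⟨e, he, hcard⟩ := FiniteField.card F 3
  have he3 : 3 ≤ (e : ℕ) := by
    by_contra hlt
    have h1 : (3 : ℕ) ^ (e : ℕ) ≤ 3 ^ 2 := Nat.pow_le_pow_right (by norm_num) (by omega)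
    omega
  obtain ⟨j, k, hjk, hk6, hk3⟩ := exists_factor3 he3
  classical
  obtain ⟨u, hu⟩ := IsCyclic.exists_generator (α := Fˣ)
  have hord : orderOf u = 2 ^ j * k := by
    rw [orderOf_eq_card_of_forall_mem_zpowers hu, Nat.card_eq_fintype_card, Fintype.card_units, hcard, hjk]
  have hk0 : 0 < 2 ^ j := by positivity
  have hord' : orderOf (u ^ 2 ^ j) = k := by
    rw [orderOf_pow' u hk0.ne', hord, Nat.gcd_eq_right (Dvd.intro _ rfl), Nat.mul_div_cancel_left _ hk0]
  refine ⟨((u ^ 2 ^ j : Fˣ) : F), k, Units.ne_zero _, fun h0 => ?_, ?_, hk6⟩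
  · have h1 : (u ^ 2 ^ j) = 1 := Units.ext h0
    rw [h1, orderOf_one] at hord'
    omega
  · rw [← Units.val_pow_eq_pow_val, ← hord', pow_orderOf_eq_one, Units.val_one]

section

variable {F : Type*} [Field F]

theorem aeval_quad {P : Type*} [AddCommGroup P] [Module F P] (x : P ≃ₗ[F] P) (a b : F) (v : P) :
    aeval (x : Module.End F P) ((X - C a) * (X - C b) : F[X]) v = x (x v - b • v) - a • (x v - b • v) := by
  rw [map_mul, map_sub, map_sub, aeval_X, aeval_C, aeval_C]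
  rfl

theorem pow_of_quad {P : Type*} [AddCommGroup P] [Module F P] (x : P ≃ₗ[F] P) {a b : F} (hab : a ≠ b) {k : ℕ}
    (ha : a ^ k = 1) (hb : b ^ k = 1)
    (h : ∀ v, aeval (x : Module.End F P) ((X - C a) * (X - C b) : F[X]) v = 0) : x ^ k = 1 := by
  have h1 : (X - C a) * (X - C b) ∣ (X ^ k - 1 : F[X]) := by
    apply IsCoprime.mul_dvd (Polynomial.pairwise_coprime_X_sub_C Function.injective_id hab)
    · exact dvd_iff_isRoot.2 (by simp [ha])
    · exact dvd_iff_isRoot.2 (by simp [hb])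
  obtain ⟨q, hq⟩ := h1
  apply LinearEquiv.ext
  intro v
  have h2 : aeval (x : Module.End F P) (X ^ k - 1 : F[X]) v = 0 := by
    rw [hq, mul_comm, map_mul, Module.End.mul_apply, h, map_zero]
  rw [map_sub, map_pow, aeval_X, map_one, LinearMap.sub_apply, Module.End.one_apply, sub_eq_zero] at h2
  have h3 : ∀ j : ℕ, ((x : Module.End F P) ^ j) v = (x ^ j) v := by
    intro j
    induction j with
    | zero => rfl
    | succ j ih => rw [pow_succ', pow_succ', Module.End.mul_apply, ih, LinearEquiv.mul_apply]; rfl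
  rw [← h3, h2]
  rfl

theorem cop_quad {a b c d : F} (h1 : a ≠ c) (h2 : a ≠ d) (h3 : b ≠ c) (h4 : b ≠ d) :
    IsCoprime ((X - C a) * (X - C b) : F[X]) ((X - C c) * (X - C d)) := by
  have h : ∀ {a b : F}, a ≠ b → IsCoprime (X - C a : F[X]) (X - C b) := fun hab =>
    Polynomial.pairwise_coprime_X_sub_C Function.injective_id hab
  exact IsCoprime.mul_left (IsCoprime.mul_right (h h1) (h h2)) (IsCoprime.mul_right (h h3) (h h4))

/-- `x = [[α, 0], [α, β]]` -/
def xq (α β : F) (hα : α ≠ 0) (hβ : β ≠ 0) : (F × F) ≃ₗ[F] (F × F) where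
  toFun w := (α * w.1, α * w.1 + β * w.2)
  map_add' v w := by
    simp only [Prod.fst_add, Prod.snd_add, Prod.mk_add_mk, mul_add, Prod.mk.injEq, true_and]
    ring
  map_smul' c v := by
    simp only [Prod.smul_fst, Prod.smul_snd, smul_eq_mul, RingHom.id_apply, Prod.smul_mk, Prod.mk.injEq]
    constructor <;> ring
  invFun w := (α⁻¹ * w.1, β⁻¹ * (w.2 - w.1))
  left_inv w := by
    ext
    · simp [hα]
    · simp [hβ]
  right_inv w := by
    ext
    · simp [hα]
    · simp only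
      rw [mul_inv_cancel_left₀ hα, mul_inv_cancel_left₀ hβ]
      ring

/-- `y = [[α⁻¹, α⁻¹], [0, β⁻¹]]` -/
def yq (α β : F) (hα : α ≠ 0) (hβ : β ≠ 0) : (F × F) ≃ₗ[F] (F × F) where
  toFun w := (α⁻¹ * w.1 + α⁻¹ * w.2, β⁻¹ * w.2)
  map_add' v w := by
    simp only [Prod.fst_add, Prod.snd_add, Prod.mk_add_mk, mul_add, Prod.mk.injEq, and_true]
    ring
  map_smul' c v := by
    simp only [Prod.smul_fst, Prod.smul_snd, smul_eq_mul, RingHom.id_apply, Prod.smul_mk, Prod.mk.injEq]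
    constructor <;> ring
  invFun w := (α * w.1 - β * w.2, β * w.2)
  left_inv w := by
    ext
    · simp only
      rw [mul_inv_cancel_left₀ hβ]
      field_simp
      ring
    · simp [hβ]
  right_inv w := by
    ext
    · simp only
      field_simp
      ring
    · simp [hβ]

theorem fac_j (h3 : (3 : F) = 0) {α β : F} (hα : α ≠ 0) (hβ : β ≠ 0) (hne : α ≠ β) {k : ℕ} (ha : α ^ k = 1)
    (hb : β ^ k = 1) : Fac ((X - C α) * (X - C β) : F[X]) ((X - C α⁻¹) * (X - C β⁻¹)) k
      ((jj F).prodMap (std F 0 0)) := by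
  have q1 : ∀ v, aeval ((xq α β hα hβ : (F × F) ≃ₗ[F] (F × F)) : Module.End F (F × F))
      ((X - C α) * (X - C β) : F[X]) v = 0 := by
    intro v
    rw [aeval_quad]
    ext
    · change α * (α * v.1 - β * v.1) - α * (α * v.1 - β * v.1) = 0
      ring
    · change (α * (α * v.1 - β * v.1) + β * ((α * v.1 + β * v.2) - β * v.2)) - α * ((α * v.1 + β * v.2) - β * v.2) = 0
      ring
  have q2 : ∀ v, aeval (((xq α β hα hβ)⁻¹ : (F × F) ≃ₗ[F] (F × F)) : Module.End F (F × F))
      ((X - C α⁻¹) * (X - C β⁻¹) : F[X]) v = 0 := by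
    intro v
    rw [aeval_quad]
    ext
    · change α⁻¹ * (α⁻¹ * v.1 - β⁻¹ * v.1) - α⁻¹ * (α⁻¹ * v.1 - β⁻¹ * v.1) = 0
      ring
    · change (β⁻¹ * ((β⁻¹ * (v.2 - v.1) - β⁻¹ * v.2) - (α⁻¹ * v.1 - β⁻¹ * v.1))) -
        α⁻¹ * (β⁻¹ * (v.2 - v.1) - β⁻¹ * v.2) = 0
      ring
  have q3 : ∀ v, aeval ((yq α β hα hβ : (F × F) ≃ₗ[F] (F × F)) : Module.End F (F × F))
      ((X - C α⁻¹) * (X - C β⁻¹) : F[X]) v = 0 := by
    intro v
    rw [aeval_quad]
    ext
    · change (α⁻¹ * ((α⁻¹ * v.1 + α⁻¹ * v.2) - β⁻¹ * v.1) + α⁻¹ * (β⁻¹ * v.2 - β⁻¹ * v.2)) -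
        α⁻¹ * ((α⁻¹ * v.1 + α⁻¹ * v.2) - β⁻¹ * v.1) = 0
      ring
    · change β⁻¹ * (β⁻¹ * v.2 - β⁻¹ * v.2) - α⁻¹ * (β⁻¹ * v.2 - β⁻¹ * v.2) = 0
      ring
  have q4 : ∀ v, aeval (((yq α β hα hβ)⁻¹ : (F × F) ≃ₗ[F] (F × F)) : Module.End F (F × F))
      ((X - C α) * (X - C β) : F[X]) v = 0 := by
    intro v
    rw [aeval_quad]
    ext
    · change (α * ((α * v.1 - β * v.2) - β * v.1) - β * (β * v.2 - β * v.2)) -
        α * ((α * v.1 - β * v.2) - β * v.1) = 0
      ring
    · change β * (β * v.2 - β * v.2) - α * (β * v.2 - β * v.2) = 0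
      ring
  have hM : Fac ((X - C α) * (X - C β) : F[X]) ((X - C α⁻¹) * (X - C β⁻¹)) k
      ({ toFun := fun w => (w.1 + w.2, w.1 + 2 * w.2)
         map_add' := fun v w => by
           simp only [Prod.fst_add, Prod.snd_add, Prod.mk_add_mk, Prod.mk.injEq]
           constructor <;> ring
         map_smul' := fun c v => by
           simp only [Prod.smul_fst, Prod.smul_snd, smul_eq_mul, RingHom.id_apply, Prod.smul_mk, Prod.mk.injEq]
           constructor <;> ring } : (F × F) →ₗ[F] (F × F)) := by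
    refine ⟨xq α β hα hβ, yq α β hα hβ, fun v => ?_, q1, q2, q3, q4, pow_of_quad _ hne ha hb q1,
      pow_of_quad _ (fun h => hne (inv_injective h)) (by rw [inv_pow, ha, inv_one]) (by rw [inv_pow, hb, inv_one]) q3⟩
    ext
    · change α * (α⁻¹ * v.1 + α⁻¹ * v.2) = v.1 + v.2
      field_simp
    · change α * (α⁻¹ * v.1 + α⁻¹ * v.2) + β * (β⁻¹ * v.2) = v.1 + 2 * v.2
      field_simp
      ring
  let e : ((F × F) × ((Fin 0 → F) × (Fin 0 → F))) ≃ₗ[F] (F × F) :=
    { toFun := fun w => (w.1.1 - w.1.2, -w.1.2)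
      map_add' := fun v w => by
        simp only [Prod.fst_add, Prod.snd_add, Prod.mk_add_mk, Prod.mk.injEq]
        constructor <;> ring
      map_smul' := fun c v => by
        simp only [Prod.smul_fst, Prod.smul_snd, smul_eq_mul, RingHom.id_apply, Prod.smul_mk, Prod.mk.injEq]
        constructor <;> ring
      invFun := fun w => ((w.1 - w.2, -w.2), (0, 0))
      left_inv := fun w => by
        refine Prod.ext (Prod.ext ?_ ?_) (Prod.ext (Subsingleton.elim _ _) (Subsingleton.elim _ _))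
        · simp
        · simp
      right_inv := fun w => by
        refine Prod.ext ?_ ?_
        · simp
        · simp }
  refine hM.conj e ?_
  rintro ⟨⟨x, y⟩, w⟩
  change (y - -x, - -x) = ((x - y) + -y, (x - y) + 2 * -y)
  refine Prod.ext ?_ ?_
  · change y - -x = (x - y) + -y
    linear_combination y * h3
  · change - -x = (x - y) + 2 * -y
    linear_combination y * h3

end

variable {F V : Type*} [Field F] [Finite F] [AddCommGroup V] [Module F V] [FiniteDimensional F V]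

omit [Finite F] in
theorem c1_of_dat {B : LinearMap.BilinForm F V} {g : V ≃ₗ[F] V} {a : ℕ} (h : DatOn B g ⊤ a 0) : C1 B g := by
  obtain ⟨A, C, Q, h1, h2, h3, h4, h5, h6, h7, h8⟩ := h
  have hC : C = ⊥ := Submodule.finrank_eq_zero.1 h8
  rw [hC, sup_bot_eq] at h1 h3
  exact ⟨A, Q, h1, h2, h3, h5⟩

/-- **Dimension four** -/
theorem prB_four [CharP F 3] {B : LinearMap.BilinForm F V} (hB : Alt B) (hN : Nond B) (h3 : (3 : F) = 0)
    (hV : Module.finrank F V = 4) {g : V ≃ₗ[F] V} (hg : Iso B g) {ν : F} (hν : ν ≠ 0) (hν1 : ν ≠ 1) {k : ℕ}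
    (hk : ν ^ k = 1) (hk6 : k.Coprime 6) : PrB B 6 g ∨ PrB B 6 (ng g) := by
  have h2 : (2 : F) ≠ 0 := by
    intro h0
    have : (1 : F) = 0 := by linear_combination h3 - h0
    exact one_ne_zero this
  have hpow : ∀ j : ℕ, j.Coprime k → ν ^ j ≠ 1 := by
    intro j hj h0
    apply hν1
    have h4 : orderOf ν ∣ Nat.gcd j k := Nat.dvd_gcd (orderOf_dvd_of_pow_eq_one h0) (orderOf_dvd_of_pow_eq_one hk)
    rw [hj] at h4
    exact orderOf_eq_one_iff.1 (Nat.dvd_one.1 h4)
  have k2 : Nat.Coprime 2 k := (Nat.Coprime.coprime_dvd_right (by norm_num) hk6).symm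
  have k3 : Nat.Coprime 3 k := (Nat.Coprime.coprime_dvd_right (by norm_num) hk6).symm
  have e2 := hpow 2 k2
  have e3 := hpow 3 k3
  have e4 := hpow 4 (by rw [show (4 : ℕ) = 2 * 2 by rfl]; exact Nat.Coprime.mul_left k2 k2)
  have hsq : ν * ν ≠ 1 := by rw [← pow_two]; exact e2
  obtain ⟨R, S, o, iR, iS, nR, nS, htop, cR, cS⟩ :=
    exists_dec2 hB hg (Module.finrank F (⊤ : Submodule F V)) ⊤ (fun v _ => trivial)
      (fun v _ h => hN v (fun w => h w trivial)) rfl
  obtain ⟨a, ha⟩ := rank_of_c1 hB nR iR cR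
  obtain ⟨b, hb⟩ := rank_of_c1 hB nS (inv_ng iS) cS
  have hd : Disjoint R S := by
    rw [Submodule.disjoint_def]
    intro t ht ht'
    exact nR t ht (fun u hu => hB.zero (o u hu t ht'))
  have hab : a + b = 2 := by
    have h1 := Submodule.finrank_sup_add_finrank_inf_eq R S
    rw [htop, hd.eq_bot, finrank_top, finrank_bot, hV, ha, hb] at h1
    omega
  have iS' := inv_ng iS
  have dS : DatOn B g S 0 b := by
    have := (dat_c1 hB nS iS' hb cS).neg
    rwa [ng_ng] at this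
  have dR : DatOn B g R a 0 := dat_c1 hB nR iR ha cR
  have fin20 : DatOn B g ⊤ 2 0 → PrB B 6 g := fun h => prB_c1_sc hB hN hg (c1_of_dat h) hν hsq hk hk6
  have fin02 : DatOn B g ⊤ 0 2 → PrB B 6 (ng g) := fun h =>
    prB_c1_sc hB hN (ng_iso hg) (c1_of_dat h.neg) hν hsq hk hk6
  rcases (show (a = 2 ∧ b = 0) ∨ (a = 1 ∧ b = 1) ∨ (a = 0 ∧ b = 2) by (clear * - hab; omega))
    with ⟨rfl, rfl⟩ | ⟨rfl, rfl⟩ | ⟨rfl, rfl⟩
  · left
    apply fin20
    have h1 := DatOn.sup hB o hd dR dS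
    rwa [htop] at h1
  · by_cases hcR : ∃ v ∈ R, g v ≠ v
    · right
      apply fin02
      have h1 := DatOn.sup hB o hd (dat_refl hB h2 hg nR iR ha cR hcR) dS
      rwa [htop] at h1
    left
    by_cases hcS : ∃ v ∈ S, ng g v ≠ v
    · apply fin20
      have h0 := (dat_refl hB h2 (ng_iso hg) nS iS' hb cS hcS).neg
      rw [ng_ng] at h0
      have h1 := DatOn.sup hB o hd dR h0
      rwa [htop] at h1
    push Not at hcR hcS
    have gS : ∀ v ∈ S, g v = -v := by
      intro v hv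
      have := hcS v hv
      rw [ng_apply] at this
      rw [← this, neg_neg, this]
    have hν2 : ν ^ 2 ≠ 0 := pow_ne_zero 2 hν
    refine prB_mixed hB hN h3 hg o nR nS iR iS' htop hcR gS cR cS (a := 0) (b := 0) ha hb
      (f₁ := (X - C ν) * (X - C (ν ^ 2))) (f₂ := (X - C ν⁻¹) * (X - C (ν ^ 2)⁻¹)) (k := k)
      (cop_quad ?_ ?_ ?_ ?_) hk6 (fac_j h3 hν hν2 ?_ hk (by rw [← pow_mul, mul_comm, pow_mul, hk, one_pow]))
    · intro h0
      apply e2
      rw [pow_two]
      nth_rewrite 1 [h0]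
      exact inv_mul_cancel₀ hν
    · intro h0
      apply e3
      rw [pow_succ']
      nth_rewrite 1 [h0]
      exact inv_mul_cancel₀ hν2
    · intro h0
      apply e3
      rw [pow_succ]
      rw [h0]
      exact inv_mul_cancel₀ hν
    · intro h0
      apply e4
      rw [show (4 : ℕ) = 2 + 2 by rfl, pow_add]
      nth_rewrite 1 [h0]
      exact inv_mul_cancel₀ hν2
    · intro h0
      apply hν1
      have h5 : ν * 1 = ν * ν := by rw [mul_one, ← pow_two]; exact h0
      exact (mul_left_cancel₀ hν h5).symm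
  · right
    apply fin02
    have h1 := DatOn.sup hB o hd dR dS
    rwa [htop] at h1

/-- **`PSp_4(3^k)`, `k ≥ 3`** -/
theorem six_psp_four {F : Type*} [Field F] [Fintype F] [CharP F 3] (h27 : 27 ≤ Fintype.card F) :
    H78.Pw.All 6 (PSp 2 F) := by
  intro x
  obtain ⟨g, rfl⟩ := QuotientGroup.mk'_surjective _ x
  have h3 : (3 : F) = 0 := by exact_mod_cast CharP.cast_eq_zero F 3
  obtain ⟨ν, k, hν, hν1, hk, hk6⟩ := exists_nu h27
  have hV : Module.finrank F (Fin 2 ⊕ Fin 2 → F) = 4 := by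
    rw [Module.finrank_fintype_fun_eq_card, Fintype.card_sum, Fintype.card_fin]
  rcases prB_four Cfsg.Agent.S2445.form_alt Cfsg.Agent.S2445.form_nond h3 hV
    (Cfsg.Agent.S2445.act_iso g) hν hν1 hk hk6 with h | h
  · exact (pr_of_prB h).map _
  · have := (pr_mk h).map (QuotientGroup.mk' (Subgroup.center (Matrix.symplecticGroup (Fin 2) F)))
    rwa [neg_mk] at this

end Cfsg.Agent.H649.PwSp
end
end

-- part: H649/PwSp/SmallThree
section
/-!
# `All 6` of `PSp_4(3)`, from `PSU_4(2)`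
-/

set_option autoImplicit false

noncomputable section

namespace Cfsg.Agent.H649.PwSp

theorem six_psp_four_three {F : Type*} [Field F] [Fintype F] (hF : Fintype.card F = 3) : H78.Pw.All 6 (PSp 2 F) := by
  obtain ⟨e⟩ := S0822.result (F := Cfsg.Agent.Lib.FieldFour.F4) (K := F) Cfsg.Agent.Lib.FieldFour.F4.card hF
  exact (H700.PwU.six_psu (F := Cfsg.Agent.Lib.FieldFour.F4) 4 2 le_rfl Cfsg.Agent.Lib.FieldFour.F4.card).congr e

end Cfsg.Agent.H649.PwSp
end
end

-- part: H649/PwSp/Row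
section
/-!
# `All 6` of the groups `PSp_2m(3^k)`: summary
-/

set_option autoImplicit false

noncomputable section

namespace Cfsg.Agent.H649.PwSp

/-- **`PSp_2m(3^k)`, all `m ≥ 2`**, from `PSp_4(9)` -/
theorem six_psp_char_three (h9 : ∀ (F : Type) [Field F] [Fintype F], Fintype.card F = 9 → H78.Pw.All 6 (PSp 2 F))
    (F : Type) [Field F] [Fintype F] [CharP F 3] (m : ℕ) (hm : 2 ≤ m) : H78.Pw.All 6 (PSp m F) := by
  rcases Nat.lt_or_ge m 3 with h | h
  swap
  · exact six_psp_three' m h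
  have hm2 : m = 2 := by omega
  subst hm2
  have : Fact (Nat.Prime 3) := ⟨Nat.prime_three⟩
  obtain ⟨e, he, hcard⟩ := FiniteField.card F 3
  obtain ⟨k, hk⟩ : ∃ k : ℕ, k = (e : ℕ) := ⟨_, rfl⟩
  rw [← hk] at hcard
  have hk0 : k ≠ 0 := by rw [hk]; exact e.ne_zero
  rcases (show k = 1 ∨ k = 2 ∨ 3 ≤ k by omega) with rfl | rfl | h3
  · exact six_psp_four_three (by rw [hcard]; norm_num)
  · exact h9 F (by rw [hcard]; norm_num)
  · apply six_psp_four
    rw [hcard]
    calc 27 = 3 ^ 3 := by norm_num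
      _ ≤ 3 ^ k := Nat.pow_le_pow_right (by norm_num) h3

end Cfsg.Agent.H649.PwSp
end
end

private theorem dce_9adce8a213a1 : _root_.True := by
  try have : _root_.True := by simp only [_root_.Cfsg.Agent.H649.PwSp.l3.eq_1]
  try have : _root_.True := by simp only [_root_.Cfsg.Agent.H649.PwSp.l5.eq_1]
  try have : _root_.True := by simp only [_root_.Cfsg.Agent.H649.PwSp.l7.eq_1]
  exact _root_.True.intro
end
end
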